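import Mathlib
import Cfsg.Agent.LAE62.BlockCentralizer.SL2Odd
import Cfsg.Agent.S1340
import Cfsg.Agent.Components.Basic

/-!
The derived groups of `SL(2, 2)`, `SL(2, 3)` and the structure of `SL(2, q)` and alternating groups used for blocks.
-/

set_option autoImplicit false

open Subgroup Matrix
open scoped commutatorElement

namespace Cfsg.Agent.LAE79

/-- The entries of the elements of order dividing four in `SL(2, 3)`. -/
def inQ8 (a b c d : ZMod 3) : Bool := (b == 0 && c == 0 && a == d) || a + d == 0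

/-- The entries of the elements of order dividing three in `SL(2, 2)`. -/
def inC3 (a b c d : ZMod 2) : Bool := (b == 0 && c == 0) || a + d == 1

theorem inQ8_mul : ∀ a b c d : ZMod 3, a * d - b * c = 1 → inQ8 a b c d = true →
    ∀ a' b' c' d' : ZMod 3, a' * d' - b' * c' = 1 → inQ8 a' b' c' d' = true →
      inQ8 (a * a' + b * c') (a * b' + b * d') (c * a' + d * c') (c * b' + d * d') = true := by
  decide +kernel

theorem inQ8_inv : ∀ a b c d : ZMod 3, a * d - b * c = 1 → inQ8 a b c d = true →
    inQ8 d (-b) (-c) a = true := by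
  decide +kernel

theorem inQ8_comm : ∀ a b c d : ZMod 3, a * d - b * c = 1 → ∀ a' b' c' d' : ZMod 3, a' * d' - b' * c' = 1 →
    inQ8 ((a * a' + b * c') * (d * d' + -b * -c') + (a * b' + b * d') * (-c * d' + a * -c'))
      ((a * a' + b * c') * (d * -b' + -b * a') + (a * b' + b * d') * (-c * -b' + a * a'))
      ((c * a' + d * c') * (d * d' + -b * -c') + (c * b' + d * d') * (-c * d' + a * -c'))
      ((c * a' + d * c') * (d * -b' + -b * a') + (c * b' + d * d') * (-c * -b' + a * a')) = true := by
  decide +kernel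

theorem inC3_mul : ∀ a b c d : ZMod 2, a * d - b * c = 1 → inC3 a b c d = true →
    ∀ a' b' c' d' : ZMod 2, a' * d' - b' * c' = 1 → inC3 a' b' c' d' = true →
      inC3 (a * a' + b * c') (a * b' + b * d') (c * a' + d * c') (c * b' + d * d') = true := by
  decide +kernel

theorem inC3_inv : ∀ a b c d : ZMod 2, a * d - b * c = 1 → inC3 a b c d = true →
    inC3 d (-b) (-c) a = true := by
  decide +kernel

theorem inC3_comm : ∀ a b c d : ZMod 2, a * d - b * c = 1 → ∀ a' b' c' d' : ZMod 2, a' * d' - b' * c' = 1 →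
    inC3 ((a * a' + b * c') * (d * d' + -b * -c') + (a * b' + b * d') * (-c * d' + a * -c'))
      ((a * a' + b * c') * (d * -b' + -b * a') + (a * b' + b * d') * (-c * -b' + a * a'))
      ((c * a' + d * c') * (d * d' + -b * -c') + (c * b' + d * d') * (-c * d' + a * -c'))
      ((c * a' + d * c') * (d * -b' + -b * a') + (c * b' + d * d') * (-c * -b' + a * a')) = true := by
  decide +kernel

theorem inQ8_pow : ∀ a b c d : ZMod 3, a * d - b * c = 1 → inQ8 a b c d = true →
    let A := a * a + b * c
    let B := a * b + b * d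
    let C := c * a + d * c
    let D := c * b + d * d
    A * A + B * C = 1 ∧ A * B + B * D = 0 ∧ C * A + D * C = 0 ∧ C * B + D * D = 1 := by
  decide +kernel

theorem inC3_pow : ∀ a b c d : ZMod 2, a * d - b * c = 1 → inC3 a b c d = true →
    let A := a * a + b * c
    let B := a * b + b * d
    let C := c * a + d * c
    let D := c * b + d * d
    A * a + B * c = 1 ∧ A * b + B * d = 0 ∧ C * a + D * c = 0 ∧ C * b + D * d = 1 := by
  decide +kernel

/-- The subgroup cut out by a predicate on entries. -/
def entrySubgroup {q : ℕ} (P : ZMod q → ZMod q → ZMod q → ZMod q → Bool)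
    (h1 : P 1 0 0 1 = true)
    (hmul : ∀ a b c d : ZMod q, a * d - b * c = 1 → P a b c d = true →
      ∀ a' b' c' d' : ZMod q, a' * d' - b' * c' = 1 → P a' b' c' d' = true →
        P (a * a' + b * c') (a * b' + b * d') (c * a' + d * c') (c * b' + d * d') = true)
    (hinv : ∀ a b c d : ZMod q, a * d - b * c = 1 → P a b c d = true → P d (-b) (-c) a = true) :
    Subgroup (SpecialLinearGroup (Fin 2) (ZMod q)) where
  carrier := {m | P (m.1 0 0) (m.1 0 1) (m.1 1 0) (m.1 1 1) = true}
  one_mem' := by simpa using h1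
  mul_mem' := fun {m n} hm hn => by
    have e1 := m.2; have e2 := n.2
    rw [det_fin_two] at e1 e2
    show P ((m.1 * n.1) 0 0) ((m.1 * n.1) 0 1) ((m.1 * n.1) 1 0) ((m.1 * n.1) 1 1) = true
    simp only [Matrix.mul_apply, Fin.sum_univ_two]
    exact hmul _ _ _ _ e1 hm _ _ _ _ e2 hn
  inv_mem' := fun {m} hm => by
    have e1 := m.2
    rw [det_fin_two] at e1
    show P (m.1.adjugate 0 0) (m.1.adjugate 0 1) (m.1.adjugate 1 0) (m.1.adjugate 1 1) = true
    rw [adjugate_fin_two]
    simpa using hinv _ _ _ _ e1 hm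

theorem pow_of_commutator_two {m : SpecialLinearGroup (Fin 2) (ZMod 2)}
    (hm : m ∈ commutator (SpecialLinearGroup (Fin 2) (ZMod 2))) : m ^ 3 = 1 := by
  have hle : commutator (SpecialLinearGroup (Fin 2) (ZMod 2)) ≤
      entrySubgroup inC3 (by decide) inC3_mul inC3_inv := by
    rw [commutator_def, commutator_le]
    intro g _ h _
    have e1 := g.2; have e2 := h.2
    rw [det_fin_two] at e1 e2
    have := inC3_comm _ _ _ _ e1 _ _ _ _ e2
    show inC3 _ _ _ _ = true
    rw [show ⁅g, h⁆ = (g * h) * (g⁻¹ * h⁻¹) by simp only [commutatorElement_def]; group]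
    simpa [SpecialLinearGroup.coe_mul, Matrix.mul_apply, Fin.sum_univ_two, SpecialLinearGroup.coe_inv,
      adjugate_fin_two] using this
  have e1 := m.2
  rw [det_fin_two] at e1
  obtain ⟨r1, r2, r3, r4⟩ := inC3_pow _ _ _ _ e1 (hle hm)
  rw [pow_succ, pow_two]
  apply Subtype.ext
  show m.1 * m.1 * m.1 = 1
  ext i j
  fin_cases i <;> fin_cases j <;> simp [Matrix.mul_apply, Fin.sum_univ_two, r1, r2, r3, r4]

theorem pow_of_commutator_three {m : SpecialLinearGroup (Fin 2) (ZMod 3)}
    (hm : m ∈ commutator (SpecialLinearGroup (Fin 2) (ZMod 3))) : m ^ 4 = 1 := by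
  have hle : commutator (SpecialLinearGroup (Fin 2) (ZMod 3)) ≤
      entrySubgroup inQ8 (by decide) inQ8_mul inQ8_inv := by
    rw [commutator_def, commutator_le]
    intro g _ h _
    have e1 := g.2; have e2 := h.2
    rw [det_fin_two] at e1 e2
    have := inQ8_comm _ _ _ _ e1 _ _ _ _ e2
    show inQ8 _ _ _ _ = true
    rw [show ⁅g, h⁆ = (g * h) * (g⁻¹ * h⁻¹) by simp only [commutatorElement_def]; group]
    simpa [SpecialLinearGroup.coe_mul, Matrix.mul_apply, Fin.sum_univ_two, SpecialLinearGroup.coe_inv,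
      adjugate_fin_two] using this
  have e1 := m.2
  rw [det_fin_two] at e1
  obtain ⟨r1, r2, r3, r4⟩ := inQ8_pow _ _ _ _ e1 (hle hm)
  rw [show 4 = 2 * 2 from rfl, pow_mul, pow_two, pow_two]
  apply Subtype.ext
  show (m.1 * m.1) * (m.1 * m.1) = 1
  ext i j
  fin_cases i <;> fin_cases j <;> simp [Matrix.mul_apply, Fin.sum_univ_two, r1, r2, r3, r4]

/-- The exponent of the small derived groups. -/
theorem pow_of_commutator_small {F : Type} [Field F] [Fintype F] {q : ℕ} [Fact q.Prime]
    (hF : Fintype.card F = q) (hq : q = 2 ∨ q = 3) {m : SpecialLinearGroup (Fin 2) F}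
    (hm : m ∈ commutator (SpecialLinearGroup (Fin 2) F)) : m ^ (if q = 2 then 3 else 4) = 1 := by
  let e : F ≃+* ZMod q := (ZMod.ringEquivOfPrime F (Fact.out : q.Prime) hF).symm
  let f : SpecialLinearGroup (Fin 2) F →* SpecialLinearGroup (Fin 2) (ZMod q) :=
    SpecialLinearGroup.map e.toRingHom
  have hf : Function.Injective f := fun a b h => by
    apply Subtype.ext
    ext i j
    exact e.injective (congrFun (congrFun (congrArg Subtype.val h) i) j)
  have h1 : f m ∈ commutator _ := map_commutator_le f ⟨m, hm, rfl⟩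
  apply hf
  rw [map_pow, map_one]
  rcases hq with rfl | rfl
  · exact pow_of_commutator_two h1
  · exact pow_of_commutator_three h1
where
  map_commutator_le {A B : Type} [Group A] [Group B] (f : A →* B) : (commutator A).map f ≤ commutator B := by
    rw [commutator_def, map_commutator, commutator_def]
    exact commutator_mono le_top le_top

/-- Normal subgroups of `SL(2, q)`, `q ≥ 4`. -/
theorem sl2_large {F : Type} [Field F] [Fintype F] (h : 4 ≤ Fintype.card F) :
    commutator (SpecialLinearGroup (Fin 2) F) = ⊤ ∧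
      ∀ N : Subgroup (SpecialLinearGroup (Fin 2) F), N.Normal → N = ⊤ ∨ N ≤ center _ := by
  have hq := S1340.isQuasisimple_SL (F := F) 2 le_rfl fun _ => by rwa [Nat.card_eq_fintype_card]
  exact ⟨hq.1.commutator_eq_top, fun N hN => Components.quasisimple_normal hq hN⟩

theorem alternating_large {m : ℕ} (hm : 2 ≤ m) :
    commutator (alternatingGroup (Fin (2 * m + 1))) = ⊤ ∧
      ∀ N : Subgroup (alternatingGroup (Fin (2 * m + 1))), N.Normal → N = ⊤ ∨ N ≤ center _ := by
  have hc : 5 ≤ Nat.card (Fin (2 * m + 1)) := by rw [Nat.card_fin]; omega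
  haveI : IsSimpleGroup (alternatingGroup (Fin (2 * m + 1))) := alternatingGroup.isSimpleGroup hc
  refine ⟨?_, fun N hN => hN.eq_bot_or_eq_top.symm.imp_right fun h => h.le.trans bot_le⟩
  refine ((inferInstance : (commutator _).Normal).eq_bot_or_eq_top).resolve_left fun h => ?_
  have : IsMulCommutative (alternatingGroup (Fin (2 * m + 1))) := ⟨⟨fun a b => by
    have : ⁅a, b⁆ ∈ commutator _ := commutator_mem_commutator (mem_top a) (mem_top b)
    rw [h, mem_bot] at this
    exact commutatorElement_eq_one_iff_mul_comm.1 this⟩⟩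
  have := alternatingGroup.isMulCommutative_iff_card_le_three.1 this
  omega

end Cfsg.Agent.LAE79
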