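import Mathlib
import Cfsg.Agent.LAE79.BlockAux
import Cfsg.Agent.LAE79.BlockConj
import Cfsg.Agent.LAE79.SmallSL2
import Cfsg.Agent.LAE62.BlockCentralizer.Main
import Cfsg.Agent.LAE60.PPrimeFix
import Cfsg.Agent.Modules.Offender
import Cfsg.Agent.Cores.Fitting
import Cfsg.Agent.LAE62.SubnormalJoin

/-!
The structure of a subnormal block: the commutator module, its kernel, and the two kinds of blocks.
-/

set_option autoImplicit false

open Subgroup
open scoped commutatorElement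

namespace Cfsg.Agent.LAE79

open LAE62.BlockCent LAE62.Baumann

variable {G : Type*} [Group G] [Finite G] {p : ℕ} [hp : Fact p.Prime]

/-- `O_p(E)`. -/
abbrev Qc (p : ℕ) (E : Subgroup G) : Subgroup G := Cfsg.pCoreOf p E

/-- `Ω₁(Z(O_p(E)))`. -/
abbrev Wc (p : ℕ) (E : Subgroup G) : Subgroup G := Cfsg.omegaOneCenter p (Qc p E)

/-- A block with a solvable quotient. -/
structure IsSmall (p : ℕ) (E : Subgroup G) : Prop where
  prime : p = 2 ∨ p = 3
  rgroup : ∀ e ∈ E, ∃ k : ℕ, e ^ (if p = 2 then 3 else 2) ^ k ∈ Qc p E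
  cardY : Nat.card ↥(WE p E) = p ^ 2
  fix : WE p E ⊓ centralizer (E : Set G) = ⊥
  nonab : p = 3 → ¬ ⁅E, E⁆ ≤ Qc p E

/-- A block with a perfect quotient. -/
def IsPerfectType (p : ℕ) (E : Subgroup G) : Prop :=
  ⁅E, E⁆ = E ∧ ∀ N ≤ E, E ≤ normalizer (N : Set G) → N = E ∨ ⁅N, E⁆ ≤ Qc p E

/-- An exceptional block. -/
structure IsExc (p : ℕ) (E : Subgroup G) : Prop where
  three : p = 3
  irr : ∀ N ≤ Qc p E, E ≤ normalizer (N : Set G) → ¬ N ≤ Wc p E → ∀ x ∈ Qc p E, ∃ n ∈ N, n⁻¹ * x ∈ Wc p E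
  ker : ∀ e ∈ E, (∀ x ∈ Qc p E, ⁅e, x⁆ ∈ Wc p E) → e ∈ Qc p E
  comm : ⁅Qc p E, Qc p E⁆ = Wc p E ⊓ centralizer (E : Set G)
  cent : E ⊓ centralizer (E : Set G) = Wc p E ⊓ centralizer (E : Set G)
  comm_ne : ⁅Qc p E, Qc p E⁆ ≠ ⊥
  nonab : ¬ ⁅E, E⁆ ≤ Qc p E
  card_sec : Nat.card ↥(WE p E) = p ^ 2 → (Wc p E).relIndex (Qc p E) = p ^ 2

variable {T : Sylow p G} {E : Subgroup G} (h : BlockSetting T E)

/-- The even vectors of length three. -/
theorem card_even_three : Fintype.card {v : Fin (2 * 1 + 1) → ZMod 2 // ∑ i, v i = 0} = 2 ^ 2 := by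
  decide +kernel

omit [Finite G] hp in
theorem Qc_le : Qc p E ≤ E := pCoreOf_le E

omit [Finite G] hp in
theorem E_le_normalizer_Qc : E ≤ normalizer (Qc p E : Set G) := LocalP.le_normalizer_pCoreOf _

omit [Finite G] hp in
theorem Qc_isPGroup : IsPGroup p (Qc p E) := LocalP.pCoreOf_isPGroup _

include h

theorem pCore_le_normalizer_E : Cfsg.pCore p G ≤ normalizer (E : Set G) := (pCore_le_PE h).trans (PE_le_normalizer h)

theorem commutator_pCore_le {e a : G} (he : e ∈ E) (ha : a ∈ Cfsg.pCore p G) : ⁅e, a⁆ ∈ Qc p E :=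
  commutator_PE_le h e he a (pCore_le_PE h ha)

theorem commutator_pCore_le' {e a : G} (he : e ∈ E) (ha : a ∈ Cfsg.pCore p G) : ⁅a, e⁆ ∈ Qc p E := by
  rw [← commutatorElement_inv]
  exact inv_mem (commutator_pCore_le h he ha)

theorem Qc_le_pCore (hs : E.IsSubnormal) : Qc p E ≤ Cfsg.pCore p G :=
  Cores.le_pCore_of_isSubnormal (IsSubnormal.trans Qc_le
    (Normal.isSubnormal (normal_subgroupOf_of_le_normalizer E_le_normalizer_Qc)) hs) Qc_isPGroup

theorem E_le_normalizer_Wc : E ≤ normalizer (Wc p E : Set G) := by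
  rcases h.block.2.2.2.2 with ⟨F, _, _, n, -, -, hact, -⟩ | ⟨-, m, -, hact, -⟩
  exacts [hact.1, hact.1]

theorem WE_le_Wc : WE p E ≤ Wc p E := Modules.commutator_le_of_normalizes (E_le_normalizer_Wc h)

theorem WE_le_E : WE p E ≤ E := ((WE_le_Wc h).trans (omegaOneCenter_le _)).trans Qc_le

theorem WE_le_Z1 : WE p E ≤ Cfsg.omegaOneCenter p (Cfsg.pCore p G) := (commutator_module h.char T h.block).2.1

theorem mem_of_coprime {y : G} (hy : y ∈ E ⊔ Cfsg.pCore p G) (hc : (orderOf y).Coprime p) : y ∈ E :=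
  pElementsFree_mem Cores.pCore_isPGroup (pCore_le_normalizer_E h) (by rwa [sup_comm]) hc

/-- A `p`-residual subgroup contained in `E O_p(G)` is contained in `E`. -/
theorem le_of_le_sup {F : Subgroup G} (hF : Cfsg.pResidualOf p F = F) (hle : F ≤ E ⊔ Cfsg.pCore p G) : F ≤ E := by
  conv_lhs => rw [← hF]
  exact pResidualOf_le fun y hy hc => mem_of_coprime h (hle hy) hc

theorem not_isPGroup : ¬ IsPGroup p E := by
  intro hE
  have h1 : Cfsg.pResidualOf p E = ⊥ := eq_bot_iff.2 (pResidualOf_le fun y hy hc => by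
    obtain ⟨k, hk⟩ := hE ⟨y, hy⟩
    have hk' : y ^ p ^ k = 1 := by simpa using congrArg Subtype.val hk
    exact mem_bot.2 (orderOf_eq_one_iff.1 (Nat.eq_one_of_dvd_coprimes (hc.pow_right k) dvd_rfl
      (orderOf_dvd_of_pow_eq_one hk'))))
  rw [h.block.1] at h1
  exact h.block.2.2.2.1 (by rw [h1, commutator_bot_left])

theorem not_le_Qc : ¬ E ≤ Qc p E := fun hle => not_isPGroup h (Qc_isPGroup.to_le hle)

omit h in
theorem Qc_comm_Wc {q w : G} (hq : q ∈ Qc p E) (hw : w ∈ Wc p E) : q * w = w * q :=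
  mem_centralizer_iff.1 (omegaOneCenter_le_centralizer _ hw) q hq

omit h in
theorem Qc_le_centralizer_Wc : Qc p E ≤ centralizer (Wc p E : Set G) := fun q hq =>
  mem_centralizer_iff.2 fun w hw => (Qc_comm_Wc hq hw).symm

theorem Qc_le_centralizer_WE : Qc p E ≤ centralizer (WE p E : Set G) :=
  Qc_le_centralizer_Wc.trans (centralizer_le (WE_le_Wc h))

/-- The module is irreducible modulo the fixed points. -/
theorem decomp {N : Subgroup G} (hN : N ≤ Wc p E) (hEN : E ≤ normalizer (N : Set G))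
    (hne : ¬ N ≤ centralizer (E : Set G)) {w : G} (hw : w ∈ Wc p E) :
    ∃ n ∈ N, n⁻¹ * w ∈ Wc p E ⊓ centralizer (E : Set G) := by
  have hne' : ¬ N ≤ Wc p E ⊓ centralizer (E : Set G) := fun h' => hne (h'.trans inf_le_right)
  rcases h.block.2.2.2.2 with ⟨F, _, _, n, -, -, hact, -⟩ | ⟨-, m, -, hact, -⟩
  · exact LAE62.BlockModules.sl2_section hact hN hEN hne' hw
  · exact LAE62.BlockModules.perm_section hact hN hEN hne' hw

/-- An invariant subgroup of the module not centralized by the block contains the commutator module. -/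
theorem WE_le_of_invariant {N : Subgroup G} (hN : N ≤ Wc p E) (hEN : E ≤ normalizer (N : Set G))
    (hne : ¬ N ≤ centralizer (E : Set G)) : WE p E ≤ N := by
  refine commutator_le.2 fun w hw e he => ?_
  obtain ⟨n, hn, hz⟩ := decomp h hN hEN hne hw
  rw [show w = n * (n⁻¹ * w) by group, Modules.commutatorElement_mul_left,
    commutatorElement_eq_one_iff_mul_comm.2 ((mem_centralizer_iff.1 hz.2 e he).symm), mul_one, mul_inv_cancel,
    one_mul]
  exact Modules.commutatorElement_mem (hEN he) hn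

theorem WE_not_le_centralizer : ¬ WE p E ≤ centralizer (E : Set G) := fun hle => by
  have h2 := le_centralizer_of_commutator h.block.1 (fun x hx => omegaOneCenter_pow (WE_le_Wc h hx))
    (le_centralizer_iff.1 hle)
  have h3 : ⁅Wc p E, E⁆ = ⊥ := commutator_eq_bot_iff_le_centralizer.2 (le_centralizer_iff.1 h2)
  exact (commutator_module h.char T h.block).2.2 (by rw [h3, commutator_bot_left])

theorem WE_decomp {w : G} (hw : w ∈ Wc p E) : ∃ y ∈ WE p E, y⁻¹ * w ∈ Wc p E ⊓ centralizer (E : Set G) :=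
  decomp h (WE_le_Wc h) E_le_L (WE_not_le_centralizer h) hw

theorem commutator_WE : ⁅WE p E, E⁆ = WE p E := by
  refine le_antisymm (Modules.commutator_le_of_normalizes E_le_L) (WE_le_of_invariant h
    ((Modules.commutator_le_of_normalizes E_le_L).trans (WE_le_Wc h)) (normalizer_commutator_ge_right _ _) fun hle => ?_)
  refine WE_not_le_centralizer h (le_centralizer_iff.1 (le_centralizer_of_commutator h.block.1 (fun x hx => ?_)
    (le_centralizer_iff.1 hle)))
  exact omegaOneCenter_pow (WE_le_Wc h (Modules.commutator_le_of_normalizes E_le_L hx))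

/-- An element of the block centralizing the commutator module centralizes the whole module. -/
theorem centralizes_Wc {e : G} (he : e ∈ E) (hc : e ∈ centralizer (WE p E : Set G)) :
    e ∈ centralizer (Wc p E : Set G) := by
  refine mem_centralizer_iff.2 fun w hw => ?_
  obtain ⟨y, hy, hz⟩ := WE_decomp h hw
  have c1 : Commute y e := mem_centralizer_iff.1 hc y hy
  have c2 : Commute (y⁻¹ * w) e := (mem_centralizer_iff.1 hz.2 e he).symm
  simpa using (c1.mul_left c2).eq

omit hp h in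
/-- The kernel of an action isomorphic to the quotient by `O_p`. -/
theorem ker_eq_Qc {H : Type} [Group H] (ρ : ↥E →* H) {R : Subgroup H} (hρ : ρ.range = R)
    (φ : ↥E ⧸ Cfsg.pCore p ↥E ≃* ↥R) (hQ : ∀ q : ↥E, (q : G) ∈ Qc p E → ρ q = 1) :
    (∀ e : ↥E, ρ e = 1 → (e : G) ∈ Qc p E) ∧ ρ.ker = Cfsg.pCore p ↥E := by
  have hmem : ∀ e : ↥E, (e : G) ∈ Qc p E ↔ e ∈ Cfsg.pCore p ↥E := fun e =>
    ⟨fun ⟨x, hx, hxe⟩ => (Subtype.ext hxe : x = e) ▸ hx, fun he => ⟨e, he, rfl⟩⟩
  haveI : Finite R := Finite.of_equiv _ φ.toEquiv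
  have hker : ρ.ker = Cfsg.pCore p ↥E := by
    refine (eq_of_le_of_card_ge (fun q hq => MonoidHom.mem_ker.2 (hQ q ((hmem q).2 hq))) ?_).symm
    have h1 := (Cfsg.pCore p ↥E).card_mul_index
    have h2 := ρ.ker.card_mul_index
    rw [Subgroup.index_ker, hρ, ← Nat.card_congr φ.toEquiv, ← Subgroup.index_eq_card] at h2
    exact (Nat.eq_of_mul_eq_mul_right (Nat.pos_of_ne_zero (index_ne_zero_of_finite)) (h2.trans h1.symm)).le
  exact ⟨fun e he => (hmem e).2 (hker ▸ MonoidHom.mem_ker.2 he), hker⟩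

/-- The image of a block in its linear group. -/
structure Image (p : ℕ) (E : Subgroup G) (H : Type) [Group H] (R : Subgroup H) where
  toHom : ↥E →* H
  range_eq : toHom.range = R
  ker_iff : ∀ e : ↥E, toHom e = 1 ↔ (e : G) ∈ Qc p E

theorem perfectType_of_image {H : Type} [Group H] {R : Subgroup H} (I : Image p E H R)
    (hperf : commutator ↥R = ⊤) (hnorm : ∀ N : Subgroup ↥R, N.Normal → N = ⊤ ∨ N ≤ center _) :
    IsPerfectType p E := by
  let φ : ↥E →* ↥R := (MulEquiv.subgroupCongr I.range_eq).toMonoidHom.comp I.toHom.rangeRestrict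
  have hφ : Function.Surjective φ := (MulEquiv.subgroupCongr I.range_eq).surjective.comp I.toHom.rangeRestrict_surjective
  have hφker : ∀ e : ↥E, φ e = 1 ↔ (e : G) ∈ Qc p E := fun e => by
    rw [← I.ker_iff]
    exact ⟨fun he => congrArg Subtype.val he, fun he => Subtype.ext he⟩
  -- a subgroup covering the quotient is everything
  have hcov : ∀ N ≤ E, E ≤ normalizer (N : Set G) → (N.subgroupOf E).map φ = ⊤ → N = E := by
    intro N hN hEN htop
    refine le_antisymm hN ?_
    conv_lhs => rw [← h.block.1]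
    refine pResidualOf_le fun y hy hc => pElementsFree_mem Qc_isPGroup (Qc_le.trans hEN) ?_ hc
    obtain ⟨n, hn, hn'⟩ := (htop ▸ mem_top (φ ⟨y, hy⟩) : φ ⟨y, hy⟩ ∈ (N.subgroupOf E).map φ)
    have hq : ((⟨y, hy⟩ * n⁻¹ : ↥E) : G) ∈ Qc p E := (hφker _).1 (by rw [map_mul, map_inv, hn', mul_inv_cancel])
    rw [show y = (y * (n : G)⁻¹) * (n : G) by group]
    exact mul_mem_sup hq hn
  refine ⟨?_, fun N hN hEN => ?_⟩
  · refine hcov _ (commutator_le.2 fun a ha b hb => E.mul_mem (E.mul_mem (E.mul_mem ha hb) (E.inv_mem ha))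
      (E.inv_mem hb)) (normalizer_commutator_ge_right _ _) ?_
    have e : (⁅E, E⁆ : Subgroup G).subgroupOf E = commutator ↥E := by
      refine map_injective E.subtype_injective ?_
      rw [commutator_def, map_commutator, ← MonoidHom.range_eq_map, range_subtype, subgroupOf_map_subtype,
        inf_eq_left]
      exact commutator_le.2 fun a ha b hb =>
        E.mul_mem (E.mul_mem (E.mul_mem ha hb) (E.inv_mem ha)) (E.inv_mem hb)
    rw [e, commutator_def, map_commutator, map_top_of_surjective _ hφ, ← commutator_def, hperf]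
  · have hNn : (N.subgroupOf E).Normal := normal_subgroupOf_of_le_normalizer hEN
    rcases hnorm _ (Normal.map hNn φ hφ) with h1 | h1
    · exact Or.inl (hcov N hN hEN h1)
    · refine Or.inr (commutator_le.2 fun n hn e he => (hφker ⟨_, E.mul_mem (E.mul_mem (E.mul_mem (hN hn) he)
        (E.inv_mem (hN hn))) (E.inv_mem he)⟩).1 ?_)
      have h2 := mem_center_iff.1 (h1 ⟨⟨n, hN hn⟩, hn, rfl⟩) (φ ⟨e, he⟩)
      show φ (⟨n, hN hn⟩ * ⟨e, he⟩ * (⟨n, hN hn⟩ : ↥E)⁻¹ * (⟨e, he⟩ : ↥E)⁻¹) = 1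
      rw [map_mul, map_mul, map_mul, map_inv, map_inv, ← h2]
      group

theorem isSmall_of_image {H : Type} [Group H] {R : Subgroup H} (I : Image p E H R) (hp23 : p = 2 ∨ p = 3)
    {k : ℕ} (hexp : ∀ m ∈ R, m ^ (if p = 2 then 3 else 2) ^ k = 1)
    (hnonab : p = 3 → ∃ a ∈ R, ∃ b ∈ R, a * b ≠ b * a)
    (hcard : (Wc p E ⊓ centralizer (E : Set G)).relIndex (Wc p E) = p ^ 2) : IsSmall p E := by
  have hr : ∀ e ∈ E, e ^ (if p = 2 then 3 else 2) ^ k ∈ Qc p E := fun e he => by
    refine (I.ker_iff (⟨e, he⟩ ^ _)).1 ?_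
    rw [map_pow]
    exact hexp _ (I.range_eq.le ⟨⟨e, he⟩, rfl⟩)
  have hfix : WE p E ⊓ centralizer (E : Set G) = ⊥ := by
    haveI : IsMulCommutative ↥(Wc p E) := ⟨⟨fun a b => Subtype.ext (omegaOneCenter_comm a.2 b.2)⟩⟩
    refine LAE60.commutator_inf_centralizer_eq_bot (p := p)
      (Qc_isPGroup.to_le (omegaOneCenter_le _)) (E_le_normalizer_Wc h) fun c hc ⟨i, hi⟩ => ?_
    refine Qc_le_centralizer_Wc (mem_of_pow_coprime ?_ (hr c hc) (hi ▸ one_mem _ : c ^ p ^ i ∈ Qc p E))
    rcases hp23 with rfl | rfl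
    · exact Nat.Coprime.pow _ _ (by norm_num)
    · exact Nat.Coprime.pow _ _ (by norm_num)
  refine ⟨hp23, fun e he => ⟨k, hr e he⟩, ?_, hfix, fun hp3 hle => ?_⟩
  · rw [← hcard]
    set Z0 := Wc p E ⊓ centralizer (E : Set G) with hZ0
    have h1 := Modules.card_sup_mul_card_inf (B := WE p E) (V := Z0) (fun y hy => mem_normalizer_iff.2 fun z => by
      constructor
      · intro hz
        rw [omegaOneCenter_comm (WE_le_Wc h hy) hz.1, mul_inv_cancel_right]; exact hz
      · intro hz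
        have hzW : z ∈ Wc p E := by
          have := mul_mem (mul_mem (inv_mem (WE_le_Wc h hy)) hz.1) (WE_le_Wc h hy)
          simpa [mul_assoc] using this
        rwa [omegaOneCenter_comm (WE_le_Wc h hy) hzW, mul_inv_cancel_right] at hz)
    have h2 : WE p E ⊔ Z0 = Wc p E := le_antisymm (sup_le (WE_le_Wc h) inf_le_left) fun w hw => by
      obtain ⟨y, hy, hz⟩ := WE_decomp h hw
      simpa using mul_mem_sup hy hz
    have h3 : WE p E ⊓ Z0 = ⊥ := eq_bot_iff.2 fun y hy => hfix ▸ ⟨hy.1, hy.2.2⟩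
    rw [h2, h3, card_bot, mul_one, ← Modules.card_mul_relIndex_of_le (inf_le_left : Z0 ≤ Wc p E), mul_comm] at h1
    exact (Nat.eq_of_mul_eq_mul_right Nat.card_pos h1).symm
  · obtain ⟨a, ha, b, hb, hab⟩ := hnonab hp3
    rw [← I.range_eq] at ha hb
    obtain ⟨x, rfl⟩ := ha
    obtain ⟨y, rfl⟩ := hb
    have h1 := (I.ker_iff ⁅x, y⁆).2 (hle (commutator_mem_commutator x.2 y.2))
    rw [map_commutatorElement, commutatorElement_eq_one_iff_mul_comm] at h1
    exact hab h1
where
  mem_of_pow_coprime {c : G} {a b : ℕ} {Q : Subgroup G} (hab : Nat.Coprime a b) (h1 : c ^ a ∈ Q) (h2 : c ^ b ∈ Q) :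
      c ∈ Q := LAE62.mem_of_pow_coprime hab h1 h2

omit hp h in
theorem relIndex_eq_card {M : Type} [AddGroup M] {U U₀ : Subgroup G} (ψ : ↥U →* Multiplicative M)
    (hker : ∀ u : U, ψ u = 1 ↔ (u : G) ∈ U₀) : U₀.relIndex U = Nat.card ψ.range := by
  have : ψ.ker = U₀.subgroupOf U := by
    ext u; rw [MonoidHom.mem_ker, hker, mem_subgroupOf]
  rw [relIndex, ← this, index_ker]

/-- The image data of the linear case. -/
theorem sl2_image {F : Type} [Field F]
    (φ : Nonempty (↥E ⧸ Cfsg.pCore p ↥E ≃* ↥(commutator (Matrix.SpecialLinearGroup (Fin 2) F))))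
    {U U₀ : Subgroup G}
    (hQ : ∀ q ∈ Qc p E, ∀ u ∈ U, u⁻¹ * (q * u * q⁻¹) ∈ U₀)
    (hact : Cfsg.ActsAsSL2OnSection F (commutator (Matrix.SpecialLinearGroup (Fin 2) F)) E U U₀) :
    ∃ I : Image p E (Matrix.SpecialLinearGroup (Fin 2) F) (commutator (Matrix.SpecialLinearGroup (Fin 2) F)),
      ∀ e : ↥E, (∀ u ∈ U, u⁻¹ * ((e : G) * u * (e : G)⁻¹) ∈ U₀) → I.toHom e = 1 := by
  obtain ⟨-, -, ρ, ψ, hρ, hψ, hker, hact⟩ := hact
  have htriv : ∀ e : ↥E, (∀ u ∈ U, u⁻¹ * ((e : G) * u * (e : G)⁻¹) ∈ U₀) → ρ e = 1 := by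
    intro e he
    refine Subtype.ext (Matrix.ext_iff_mulVec.2 fun v => ?_)
    obtain ⟨u, hu⟩ := hψ (Multiplicative.ofAdd v)
    obtain ⟨w, hw, hw'⟩ := hact e u
    have hwu : ψ (u⁻¹ * w) = 1 := (hker _).2 (by
      show (u : G)⁻¹ * (w : G) ∈ U₀
      rw [hw]; exact he u u.2)
    rw [map_mul, map_inv, inv_mul_eq_one] at hwu
    rw [← hwu, hu, toAdd_ofAdd] at hw'
    rw [← hw', Matrix.SpecialLinearGroup.coe_one, Matrix.one_mulVec]
  obtain ⟨φ⟩ := φ
  have hk := (ker_eq_Qc ρ hρ φ fun q hq => htriv q fun u hu => hQ q hq u hu).1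
  exact ⟨⟨ρ, hρ, fun e => ⟨hk e, fun hq => htriv e fun u hu => hQ e hq u hu⟩⟩, htriv⟩

theorem kernel_and_type :
    (∀ e ∈ E, e ∈ centralizer (WE p E : Set G) → e ∈ Qc p E) ∧ (IsPerfectType p E ∨ IsSmall p E) := by
  have hQ : ∀ q ∈ Qc p E, ∀ w ∈ Wc p E, w⁻¹ * (q * w * q⁻¹) ∈ Wc p E ⊓ centralizer (E : Set G) :=
    fun q hq w hw => by
      rw [Qc_comm_Wc hq hw, mul_inv_cancel_right, inv_mul_cancel]; exact one_mem _
  have hfixed : ∀ e ∈ E, e ∈ centralizer (WE p E : Set G) → ∀ w ∈ Wc p E,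
      w⁻¹ * (e * w * e⁻¹) ∈ Wc p E ⊓ centralizer (E : Set G) := fun e he hc w hw => by
    rw [← mem_centralizer_iff.1 (centralizes_Wc h he hc) w hw, mul_inv_cancel_right, inv_mul_cancel]
    exact one_mem _
  rcases h.block.2.2.2.2 with ⟨F, _, _, n, hcard, hφ, hact, -⟩ | ⟨hp2, m, ⟨φ⟩, hact, -⟩
  · obtain ⟨I, hI⟩ := sl2_image h hφ hQ hact
    refine ⟨fun e he hc => (I.ker_iff ⟨e, he⟩).1 (hI ⟨e, he⟩ (hfixed e he hc)), ?_⟩
    by_cases hq : 4 ≤ Fintype.card F
    · obtain ⟨hperf, hnorm⟩ := sl2_large hq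
      let c : ↥(commutator (Matrix.SpecialLinearGroup (Fin 2) F)) ≃* Matrix.SpecialLinearGroup (Fin 2) F :=
        (MulEquiv.subgroupCongr hperf).trans topEquiv
      refine Or.inl (perfectType_of_image h I ?_ fun N hN => ?_)
      · refine map_injective (f := c.toMonoidHom) c.injective ?_
        show (⁅⊤, ⊤⁆ : Subgroup ↥(commutator (Matrix.SpecialLinearGroup (Fin 2) F))).map c.toMonoidHom = _
        rw [map_commutator, map_top_of_surjective _ c.surjective]
        exact hperf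
      · rcases hnorm (N.map c.toMonoidHom) (Normal.map hN _ c.surjective) with h1 | h1
        · exact Or.inl (map_injective c.injective (h1.trans (map_top_of_surjective _ c.surjective).symm))
        · exact Or.inr fun x hx => mem_center_iff.2 fun y => c.injective (by
            rw [map_mul, map_mul]; exact mem_center_iff.1 (h1 ⟨x, hx, rfl⟩) (c y))
    · have h2 : 2 ≤ p := hp.1.two_le
      have hn : n = 1 := by
        rcases n with _ | _ | n
        · exact absurd hcard (by rw [pow_zero]; exact (Fintype.one_lt_card (α := F)).ne')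
        · rfl
        · exfalso
          have : 4 ≤ p ^ (n + 1 + 1) := le_trans (show 4 ≤ p ^ 2 by nlinarith) (Nat.pow_le_pow_right (by omega) (by omega))
          omega
      rw [hn, pow_one] at hcard
      have hp23 : p = 2 ∨ p = 3 := by omega
      refine Or.inr (isSmall_of_image h I hp23 (k := if p = 2 then 1 else 2) (fun m hm => ?_) (fun hp3 => ?_) ?_)
      · have h3 := pow_of_commutator_small hcard hp23 hm
        rcases hp23 with rfl | rfl <;> simpa using h3
      · subst hp3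
        have h3 := (LAE62.BlockCent.three_pow_dichotomy (F := F) (n := 1) (by rw [hcard, pow_one])).1
        refine ⟨_, rI_mem h3, _, rJ_mem h3, fun hc => ?_⟩
        have h4 := rI_rJ (F := F) h3
        rw [commutatorElement_eq_one_iff_mul_comm.2 hc] at h4
        have h5 := congrArg (fun x : Matrix.SpecialLinearGroup (Fin 2) F => x.1 0 0) h4
        simp at h5
        exact two_ne_zero_of_three h3 (by linear_combination h5)
      · obtain ⟨-, -, -, ψ, -, hψ, hker, -⟩ := hact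
        rw [relIndex_eq_card ψ hker, MonoidHom.range_eq_top.2 hψ, card_top, Nat.card_eq_fintype_card]
        simp [hcard]
  · obtain ⟨-, -, ρ, ψ, hρ, hev, hψ, hker, hact⟩ := hact
    have hm : 1 ≤ m := by
      by_contra hm0
      refine not_le_Qc h fun e he => ?_
      haveI : Subsingleton (Equiv.Perm (Fin (2 * m + 1))) := by
        haveI : Subsingleton (Fin (2 * m + 1)) := Fin.subsingleton_iff_le_one.2 (by omega)
        exact inferInstance
      have h1 : QuotientGroup.mk' (Cfsg.pCore p ↥E) ⟨e, he⟩ = 1 := φ.injective (Subtype.ext (Subsingleton.elim _ _))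
      exact ⟨⟨e, he⟩, (QuotientGroup.eq_one_iff _).1 h1, rfl⟩
    have htriv : ∀ e : ↥E, (∀ w ∈ Wc p E, w⁻¹ * ((e : G) * w * (e : G)⁻¹) ∈ Wc p E ⊓ centralizer (E : Set G)) →
        ρ e = 1 := by
      intro e he
      have hfix : ∀ v : Fin (2 * m + 1) → ZMod 2, ∑ i, v i = 0 → ∀ i, v ((ρ e)⁻¹ i) = v i := by
        intro v hv i
        obtain ⟨u, hu⟩ := hψ v hv
        obtain ⟨w, hw, hw'⟩ := hact e u
        have hwu : ψ (u⁻¹ * w) = 1 := (hker _).2 (by
          show (u : G)⁻¹ * (w : G) ∈ _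
          rw [hw]; exact he u u.2)
        rw [map_mul, map_inv, inv_mul_eq_one] at hwu
        rw [← hu, ← hw' i, hwu]
      refine inv_eq_one.1 (Equiv.ext fun j => ?_)
      by_contra hj
      obtain ⟨k, hk⟩ : ∃ k, k ∉ ({j, (ρ e)⁻¹ j} : Finset (Fin (2 * m + 1))) := by
        by_contra hall
        push Not at hall
        have h2 : (Finset.univ : Finset (Fin (2 * m + 1))).card ≤ 2 :=
          (Finset.card_le_card fun x _ => hall x).trans Finset.card_le_two
        rw [Finset.card_univ, Fintype.card_fin] at h2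
        omega
      simp only [Finset.mem_insert, Finset.mem_singleton, not_or] at hk
      have := hfix (Pi.single j 1 + Pi.single k 1) (by
        simp [Finset.sum_add_distrib, Finset.sum_pi_single', CharTwo.add_self_eq_zero]) j
      simp only [Equiv.Perm.coe_one, id_eq] at hj
      simp only [Pi.add_apply, Pi.single_apply, if_neg hj, if_neg (Ne.symm hk.2), if_neg (Ne.symm hk.1), if_true,
        add_zero] at this
      exact zero_ne_one this
    obtain ⟨hk, -⟩ := ker_eq_Qc ρ hρ φ fun q hq => htriv q fun w hw => hQ q hq w hw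
    let I : Image p E (Equiv.Perm (Fin (2 * m + 1))) (alternatingGroup (Fin (2 * m + 1))) :=
      ⟨ρ, hρ, fun e => ⟨hk e, fun hq => htriv e fun w hw => hQ e hq w hw⟩⟩
    refine ⟨fun e he hc => (I.ker_iff ⟨e, he⟩).1 (htriv ⟨e, he⟩ (hfixed e he hc)), ?_⟩
    by_cases hm2 : 2 ≤ m
    · exact Or.inl (perfectType_of_image h I (alternating_large hm2).1 (alternating_large hm2).2)
    · obtain rfl : m = 1 := by omega
      subst hp2
      refine Or.inr (isSmall_of_image h I (Or.inl rfl) (k := 1) (fun σ hσ => ?_) (fun h3 => absurd h3 (by norm_num)) ?_)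
      · simp only [if_true, pow_one]
        rw [Equiv.Perm.mem_alternatingGroup] at hσ
        revert σ
        decide +kernel
      · rw [relIndex_eq_card ψ hker]
        have e : Nat.card ψ.range = Nat.card {v : Fin (2 * 1 + 1) → ZMod 2 // ∑ i, v i = 0} :=
          Nat.card_congr
            { toFun := fun v => ⟨Multiplicative.toAdd v.1, by obtain ⟨u, hu⟩ := v.2; exact hu ▸ hev u⟩
              invFun := fun v => ⟨Multiplicative.ofAdd v.1, by
                obtain ⟨u, hu⟩ := hψ v.1 v.2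
                exact ⟨u, congrArg Multiplicative.ofAdd hu⟩⟩
              left_inv := fun _ => rfl
              right_inv := fun _ => rfl }
        rw [e, Nat.card_eq_fintype_card]
        convert card_even_three using 2

theorem kernel {e : G} (he : e ∈ E) (hc : e ∈ centralizer (WE p E : Set G)) : e ∈ Qc p E :=
  (kernel_and_type h).1 e he hc

theorem exc_or : Qc p E = WE p E ∨ IsExc p E := by
  have hQW : Qc p E = Wc p E → Qc p E = WE p E := fun e => by
    refine le_antisymm ?_ (((WE_le_Wc h).trans_eq e.symm))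
    conv_lhs => rw [Qc, ← h.block.2.2.1]
    exact commutator_mono e.le le_rfl
  rcases h.block.2.2.2.2 with ⟨F, _, _, n, hcard, hφ, hact, hQ | ⟨hp3, hact2, hQQ, -, hZE, hn, -⟩⟩ | ⟨-, m, -, -, hQ⟩
  · exact Or.inl (hQW hQ)
  · refine Or.inr ?_
    have hQW' : ∀ q ∈ Qc p E, ∀ x ∈ Qc p E, x⁻¹ * (q * x * q⁻¹) ∈ Wc p E := fun q hq x hx => by
      have := commutator_mem_commutator ((Qc p E).inv_mem hx) hq
      have h1 : ⁅x⁻¹, q⁆ ∈ Wc p E := (hQQ.le this).1
      simpa [commutatorElement_def, mul_assoc] using h1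
    obtain ⟨I, hI⟩ := sl2_image h hφ hQW' hact2
    subst hp3
    have h3 := (LAE62.BlockCent.three_pow_dichotomy (F := F) hcard).1
    refine ⟨rfl, fun N hN hEN hne x hx => LAE62.BlockModules.sl2_section hact2 hN hEN hne hx,
      fun e he hc => (I.ker_iff ⟨e, he⟩).1 (hI ⟨e, he⟩ fun u hu => ?_), hQQ, hZE, fun hb => ?_, fun hle => ?_, fun hY => ?_⟩
    · have h1 := (mem_normalizer_iff''.1 (Qc_le.trans (E_le_normalizer_Wc h) hu) _).1 (hc u hu)
      simpa [commutatorElement_def, mul_assoc] using h1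
    · rw [hZE, ← hQQ, hb, card_bot] at hn
      have h1 := Fintype.one_lt_card (α := F)
      omega
    · obtain ⟨x, hx⟩ : rI ∈ I.toHom.range := I.range_eq.ge (rI_mem h3)
      obtain ⟨y, hy⟩ : rJ h3 ∈ I.toHom.range := I.range_eq.ge (rJ_mem h3)
      have h1 := (I.ker_iff ⁅x, y⁆).2 (hle (commutator_mem_commutator x.2 y.2))
      rw [map_commutatorElement, hx, hy, rI_rJ h3] at h1
      have h5 := congrArg (fun x : Matrix.SpecialLinearGroup (Fin 2) F => x.1 0 0) h1
      simp at h5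
      exact two_ne_zero_of_three h3 (by linear_combination -h5)
    · obtain ⟨-, -, -, ψ, -, hψ, hker, -⟩ := hact
      obtain ⟨-, -, -, ψ', -, hψ', hker', -⟩ := hact2
      rw [relIndex_eq_card ψ' hker', MonoidHom.range_eq_top.2 hψ', card_top]
      let res : ↥(WE 3 E) → Multiplicative (Fin 2 → F) := fun y => ψ ⟨y, WE_le_Wc h y.2⟩
      have hres : Function.Surjective res := fun v => by
        obtain ⟨u, rfl⟩ := hψ v
        obtain ⟨y, hy, hz⟩ := WE_decomp h u.2
        refine ⟨⟨y, hy⟩, ?_⟩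
        show ψ ⟨y, WE_le_Wc h hy⟩ = ψ u
        rw [← inv_mul_eq_one, ← map_inv, ← map_mul, hker]
        exact hz
      have h1 := Nat.card_le_card_of_surjective res hres
      have h2 := Fintype.one_lt_card (α := F)
      have h4 : Nat.card (Multiplicative (Fin 2 → F)) = (3 ^ n) ^ 2 := by
        rw [Nat.card_eq_fintype_card]; simp [hcard]
      rw [hY, h4, ← pow_mul] at h1
      have h5 : n * 2 ≤ 2 := (Nat.pow_le_pow_iff_right (by norm_num : 1 < 3)).1 h1
      rcases n with _ | _ | n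
      · rw [hcard] at h2; omega
      · rw [h4]; norm_num
      · omega
  · exact Or.inl (hQW hQ)

end Cfsg.Agent.LAE79
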