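import Mathlib
import Cfsg.Agent.LAE79.BlockStruct
import Cfsg.Agent.LAE79.AutSquare

/-!
Two subnormal blocks normalizing each other.
-/

set_option autoImplicit false

open Subgroup
open scoped commutatorElement

namespace Cfsg.Agent.LAE79

open LAE62.BlockCent LAE62.Baumann

variable {G : Type*} [Group G] [Finite G] {p : ℕ} [hp : Fact p.Prime]

omit [Finite G] in
theorem normalizer_inf_le_normalizer_commutator (A B : Subgroup G) :
    normalizer (A : Set G) ⊓ normalizer (B : Set G) ≤ normalizer ((⁅A, B⁆ : Subgroup G) : Set G) := by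
  intro x hx
  rw [mem_normalizer_iff_map_conj_eq]
  show (⁅A, B⁆).map (cj x) = ⁅A, B⁆
  rw [map_commutator]
  exact congrArg₂ _ (mem_normalizer_iff_map_conj_eq.1 hx.1) (mem_normalizer_iff_map_conj_eq.1 hx.2)

omit [Finite G] in
theorem normalizer_le_normalizer_Wc (E : Subgroup G) :
    normalizer (E : Set G) ≤ normalizer (Wc p E : Set G) := by
  intro x hx
  rw [mem_normalizer_iff_map_conj_eq]
  show (Wc p E).map (cj x) = Wc p E
  rw [map_omegaOneCenter', ← LAE60.pCoreOf_map _ (cj_injective x)]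
  exact congrArg (fun X => Cfsg.omegaOneCenter p (Cfsg.pCoreOf p X)) (mem_normalizer_iff_map_conj_eq.1 hx)

omit [Finite G] in
theorem comm_mul_central {r r' w w' : G} (h1 : Commute r' w) (h2 : Commute r w') (h3 : Commute w w') :
    ⁅r * w, r' * w'⁆ = ⁅r, r'⁆ := by
  calc ⁅r * w, r' * w'⁆ = r * (w * r' * w' * w⁻¹) * r⁻¹ * (w'⁻¹ * r'⁻¹) := by
        simp only [commutatorElement_def]; group
    _ = r * (r' * w') * r⁻¹ * (w'⁻¹ * r'⁻¹) := by
        rw [show w * r' = r' * w from h1.eq.symm, show r' * w * w' = r' * (w * w') by group,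
          show w * w' = w' * w from h3.eq]
        group
    _ = r * r' * (w' * r⁻¹) * w'⁻¹ * r'⁻¹ := by group
    _ = _ := by
        rw [show w' * r⁻¹ = r⁻¹ * w' from h2.inv_left.eq.symm, commutatorElement_def]; group

omit [Finite G] in
theorem mem_centralizer_of_pow {D : Subgroup G} {c : G} (h : c ∈ centralizer (D : Set G)) {k : ℕ} :
    c ^ k ∈ centralizer (D : Set G) := pow_mem h k

variable {S T : Sylow p G} {E F : Subgroup G}

theorem normalizer_le_normalizer_fixed (E : Subgroup G) :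
    normalizer (E : Set G) ≤ normalizer ((WE p E ⊓ centralizer (E : Set G) : Subgroup G) : Set G) :=
  (le_inf (normalizer_le_normalizer_module p E) (Modules.normalizes_centralizer le_rfl)).trans
    inf_normalizer_le_normalizer_inf

section One

variable (hE : BlockSetting S E) (sE : E.IsSubnormal)
include hE sE

theorem comm_Z1_mem {e z : G} (he : e ∈ E) (hz : z ∈ Cfsg.omegaOneCenter p (Cfsg.pCore p G)) :
    ⁅e, z⁆ ∈ WE p E := by
  haveI := Cores.pCore_normal_inst p G
  haveI hn : (Cfsg.omegaOneCenter p (Cfsg.pCore p G)).Normal := omegaOneCenter_normal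
  have hA : ∀ e ∈ E, ∀ a ∈ (Cfsg.omegaOneCenter p (Cfsg.pCore p G) : Set G), ⁅e, a⁆ ∈ Wc p E := by
    intro e he a ha
    have h1 : ⁅e, a⁆ ∈ Qc p E := commutator_pCore_le hE he (omegaOneCenter_le _ ha)
    have h2 : ⁅e, a⁆ ∈ Cfsg.omegaOneCenter p (Cfsg.pCore p G) := by
      rw [commutatorElement_def]
      exact mul_mem (hn.conj_mem a ha e) (inv_mem ha)
    exact subset_closure ⟨⟨h1, mem_centralizer_iff.2 fun q hq =>
      mem_centralizer_iff.1 (omegaOneCenter_le_centralizer _ h2) q (Qc_le_pCore hE sE hq)⟩, omegaOneCenter_pow h2⟩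
  exact stable_le hE.block.1 E_le_L (fun e he w hw => by
    rw [← commutatorElement_inv]; exact inv_mem (commutator_mem_commutator hw he))
    (fun w hw => omegaOneCenter_pow hw) hA he hz

theorem inf_pCore_le : E ⊓ Cfsg.pCore p G ≤ Qc p E := by
  haveI := Cores.pCore_normal_inst p G
  exact le_pCoreOf inf_le_left ((le_inf le_normalizer (le_top.trans_eq (normalizer_eq_top (H := Cfsg.pCore p G)).symm)).trans
    inf_normalizer_le_normalizer_inf) (Cores.pCore_isPGroup.to_le inf_le_right)

theorem small_map_isPGroup (hsm : IsSmall p E) :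
    IsPGroup (if p = 2 then 3 else 2) (E.map (QuotientGroup.mk' (Cfsg.pCore p G))) := by
  rintro ⟨_, e, he, rfl⟩
  obtain ⟨k, hk⟩ := hsm.rgroup e he
  refine ⟨k, Subtype.ext ?_⟩
  rw [SubgroupClass.coe_pow, ← map_pow, QuotientGroup.mk'_apply]
  exact (QuotientGroup.eq_one_iff _).2 (Qc_le_pCore hE sE hk)

omit sE in
theorem Wc_eq_sup : Wc p E = WE p E ⊔ (Wc p E ⊓ centralizer (E : Set G)) :=
  le_antisymm (fun w hw => by
    obtain ⟨y, hy, hz⟩ := WE_decomp hE hw
    simpa using mul_mem_sup hy hz) (sup_le (WE_le_Wc hE) inf_le_left)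

end One

section General

variable (hE : BlockSetting S E)
include hE

/-- A block centralizing a `p`-abelian normal subgroup modulo its module: the first centre of the core. -/
theorem comm_Z1_mem' {e z : G} (he : e ∈ E) (hz : z ∈ Cfsg.omegaOneCenter p (Cfsg.pCore p G)) :
    ⁅e, z⁆ ∈ WE p E := by
  haveI := Cores.pCore_normal_inst p G
  haveI hn : (Cfsg.omegaOneCenter p (Cfsg.pCore p G)).Normal := omegaOneCenter_normal
  set Z1 := Cfsg.omegaOneCenter p (Cfsg.pCore p G) with hZ1
  set N := ⁅Z1, E⁆ with hN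
  have hNQ : N ≤ Qc p E := commutator_le.2 fun z hz e he =>
    commutator_pCore_le' hE he (omegaOneCenter_le _ hz)
  have hNW : N ≤ Wc p E := by
    rcases exc_or hE with heq | hx
    · exact hNQ.trans (heq.le.trans (WE_le_Wc hE))
    · by_contra hne
      refine hx.comm_ne (eq_bot_iff.2 (commutator_le.2 fun x hx1 x' hx1' => ?_))
      obtain ⟨n, hn1, hw⟩ := hx.irr N hNQ (normalizer_commutator_ge_right _ _) hne x hx1
      obtain ⟨n', hn1', hw'⟩ := hx.irr N hNQ (normalizer_commutator_ge_right _ _) hne x' hx1'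
      rw [show x = n * (n⁻¹ * x) by group, show x' = n' * (n'⁻¹ * x') by group,
        comm_mul_central (Qc_comm_Wc (hNQ hn1') hw) (Qc_comm_Wc (hNQ hn1) hw') (omegaOneCenter_comm hw hw')]
      exact mem_bot.2 (commutatorElement_eq_one_iff_mul_comm.2 (omegaOneCenter_comm
        (commutator_le_left Z1 E hn1) (commutator_le_left Z1 E hn1')))
  exact stable_le hE.block.1 E_le_L (fun e he w hw => by
    rw [← commutatorElement_inv]; exact inv_mem (commutator_mem_commutator hw he))
    (fun w hw => omegaOneCenter_pow hw) (A := (Z1 : Set G)) (fun e he a ha => by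
      rw [← commutatorElement_inv]; exact inv_mem (hNW (commutator_mem_commutator ha he))) he hz

omit hE in
theorem inf_pCore_le' : E ⊓ Cfsg.pCore p G ≤ Qc p E := by
  haveI := Cores.pCore_normal_inst p G
  exact le_pCoreOf inf_le_left ((le_inf le_normalizer (le_top.trans_eq (normalizer_eq_top (H := Cfsg.pCore p G)).symm)).trans
    inf_normalizer_le_normalizer_inf) (Cores.pCore_isPGroup.to_le inf_le_right)

end General

omit [Finite G] hp in
theorem commutator_le_inf (hEF : E ≤ normalizer (F : Set G)) (hFE : F ≤ normalizer (E : Set G)) :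
    ⁅E, F⁆ ≤ E ⊓ F :=
  le_inf (Modules.commutator_le_of_normalizes hFE) (by rw [commutator_comm]; exact Modules.commutator_le_of_normalizes hEF)

section Comm

variable (hE : BlockSetting S E) (sE : E.IsSubnormal) (hF : BlockSetting T F)
variable (hEF : E ≤ normalizer (F : Set G)) (hFE : F ≤ normalizer (E : Set G))
include hE sE hF hEF hFE

/-- The commutator is trivial once each block centralizes the module of the other. -/
theorem commute_of_centralize' (hP : ⁅E, F⁆ ≤ Cfsg.pCore p G) (hFY : F ≤ centralizer (WE p E : Set G))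
    (hEY : E ≤ centralizer (WE p F : Set G)) : ⁅E, F⁆ = ⊥ := by
  have hQE : ⁅E, F⁆ ≤ Qc p E :=
    (le_inf ((commutator_le_inf hEF hFE).trans inf_le_left) hP).trans (inf_pCore_le')
  have hQF : ⁅E, F⁆ ≤ Qc p F :=
    (le_inf ((commutator_le_inf hEF hFE).trans inf_le_right) hP).trans (inf_pCore_le')
  have done : ∀ {D : Subgroup G}, ⁅E, F⁆ ≤ D → (∀ x ∈ D, x ^ p = 1) → F ≤ centralizer (D : Set G) →
      ⁅E, F⁆ = ⊥ := fun hD hexp hc =>
    commutator_eq_bot_iff_le_centralizer.2 (le_centralizer_iff.1 (le_centralizer_of_commutator hF.block.1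
      (fun x hx => hexp x (hD hx)) (hc.trans (centralizer_le hD))))
  rcases exc_or hE with heq | hxE
  · exact done (hQE.trans_eq heq) (fun x hx => omegaOneCenter_pow (WE_le_Wc hE hx)) hFY
  rcases exc_or hF with heq | hxF
  · refine commutator_eq_bot_iff_le_centralizer.2 ?_
    refine le_centralizer_of_commutator hE.block.1 (fun x hx => omegaOneCenter_pow (WE_le_Wc hF ?_))
      (hEY.trans (centralizer_le ?_))
    · rw [← heq]; rw [commutator_comm] at hx; exact hQF hx
    · rw [commutator_comm]; exact hQF.trans_eq heq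
  set R := Qc p E ⊓ Qc p F with hR
  have hconjR : ∀ f ∈ F, ∀ q ∈ Qc p E, ⁅f, q⁆ ∈ R := fun f hf q hq =>
    ⟨by
      rw [commutatorElement_def]
      exact (Qc p E).mul_mem ((mem_normalizer_iff.1 (LocalP.normalizer_le_normalizer_pCoreOf E (hFE hf)) q).1 hq)
        ((Qc p E).inv_mem hq),
    commutator_pCore_le hF hf (Qc_le_pCore hE sE hq)⟩
  have hER : E ≤ normalizer (R : Set G) :=
    (le_inf E_le_normalizer_Qc (hEF.trans (LocalP.normalizer_le_normalizer_pCoreOf F))).trans
      inf_normalizer_le_normalizer_inf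
  have hFR : F ≤ normalizer (R : Set G) :=
    (le_inf (hFE.trans (LocalP.normalizer_le_normalizer_pCoreOf E)) E_le_normalizer_Qc).trans
      inf_normalizer_le_normalizer_inf
  have hcover : ¬ R ≤ Wc p E → ⁅Qc p E, Qc p E⁆ ≤ ⁅R, R⁆ := fun hRW => commutator_le.2 fun x hx x' hx' => by
    obtain ⟨r, hr, hw⟩ := hxE.irr R inf_le_left hER hRW x hx
    obtain ⟨r', hr', hw'⟩ := hxE.irr R inf_le_left hER hRW x' hx'
    rw [show x = r * (r⁻¹ * x) by group, show x' = r' * (r'⁻¹ * x') by group,
      comm_mul_central (Qc_comm_Wc hr'.1 hw) (Qc_comm_Wc hr.1 hw') (omegaOneCenter_comm hw hw')]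
    exact commutator_mem_commutator hr hr'
  -- `F` centralizes the centre
  have hFZ : ∀ f ∈ F, ∀ z ∈ ⁅Qc p E, Qc p E⁆, Commute f z := by
    intro f hf
    suffices h : ⁅Qc p E, Qc p E⁆ ≤ centralizer ({f} : Set G) from fun z hz =>
      (mem_centralizer_singleton_iff.1 (h hz)).symm
    by_cases hRW : R ≤ Wc p E
    · refine commutator_le.2 fun q hq q' hq' => mem_centralizer_singleton_iff.2 ?_
      have hq1 := hRW (hconjR f hf q hq)
      have hq2 := hRW (hconjR f hf q' hq')
      have e1 : f * q * f⁻¹ = q * ⁅f, q⁆ := by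
        rw [(Qc_comm_Wc hq hq1), commutatorElement_def]; group
      have e2 : f * q' * f⁻¹ = q' * ⁅f, q'⁆ := by
        rw [(Qc_comm_Wc hq' hq2), commutatorElement_def]; group
      have h : f * ⁅q, q'⁆ * f⁻¹ = ⁅q, q'⁆ := by
        have e : f * ⁅q, q'⁆ * f⁻¹ = ⁅f * q * f⁻¹, f * q' * f⁻¹⁆ := by
          simp only [commutatorElement_def]; group
        rw [e, e1, e2, comm_mul_central (Qc_comm_Wc hq' hq1) (Qc_comm_Wc hq hq2) (omegaOneCenter_comm hq1 hq2)]
      calc ⁅q, q'⁆ * f = f * ⁅q, q'⁆ * f⁻¹ * f := by rw [h]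
        _ = f * ⁅q, q'⁆ := by group
    · refine (hcover hRW).trans ((commutator_mono inf_le_right inf_le_right).trans ?_)
      rw [hxF.comm]
      exact inf_le_right.trans (centralizer_le (Set.singleton_subset_iff.2 hf))
  have hFW : F ≤ centralizer (Wc p E : Set G) := fun f hf => mem_centralizer_iff.2 fun w hw => by
    obtain ⟨y, hy, hz⟩ := WE_decomp hE hw
    have c1 : Commute y f := mem_centralizer_iff.1 (hFY hf) y hy
    have c2 : Commute f (y⁻¹ * w) := hFZ f hf _ (hxE.comm.ge hz)
    simpa using (c1.mul_left c2.symm).eq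
  by_cases hRW : R ≤ Wc p E
  · exact done ((le_inf hQE hQF).trans hRW) (fun x hx => omegaOneCenter_pow hx) hFW
  exfalso
  have hRWF : ¬ R ≤ Wc p F := fun hle => hxE.comm_ne (eq_bot_iff.2 ((hcover hRW).trans (commutator_le.2
    fun r hr r' hr' => mem_bot.2 (commutatorElement_eq_one_iff_mul_comm.2 (omegaOneCenter_comm (hle hr) (hle hr'))))))
  have hUc : ∀ x ∈ Qc p E, ∀ y ∈ Qc p E, ⁅x, y⁆ ∈ Wc p E := fun x hx y hy =>
    (hxE.comm.le (commutator_mem_commutator hx hy)).1
  have hNE : normalizer (E : Set G) ≤ SecNorm (Qc p E) (Wc p E) :=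
    le_inf (LocalP.normalizer_le_normalizer_pCoreOf E) (normalizer_le_normalizer_Wc E)
  have key := (section_comm (omegaOneCenter_le _) hUc (le_normalizer.trans hNE) (hFE.trans hNE) hxE.irr
    (fun e he f hf u hu => hUc _ (hQE (commutator_mem_commutator he hf)) u hu)).1
  refine hxF.nonab (commutator_le.2 fun a ha b hb => ?_)
  have hcF : ⁅a, b⁆ ∈ F := F.mul_mem (F.mul_mem (F.mul_mem ha hb) (F.inv_mem ha)) (F.inv_mem hb)
  refine hxF.ker _ hcF fun x hx => ?_
  obtain ⟨r, hr, hw⟩ := hxF.irr R inf_le_right hFR hRWF x hx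
  have h1 : ⁅⁅a, b⁆, r⁆ ∈ Wc p F := by
    have h2 := key a ha b hb r hr.1
    have h3 : ⁅⁅a, b⁆, r⁆ ∈ F := by
      rw [commutatorElement_def]
      exact F.mul_mem (F.mul_mem (F.mul_mem hcF (Qc_le hr.2)) (F.inv_mem hcF)) (F.inv_mem (Qc_le hr.2))
    exact (hxF.cent.le ⟨h3, mem_centralizer_iff.2 fun f hf => (mem_centralizer_iff.1 (hFW hf) _ h2).symm⟩).1
  have hW2 : ∀ g ∈ F, g ∈ normalizer (Wc p F : Set G) := fun g hg => normalizer_le_normalizer_Wc F (le_normalizer hg)
  rw [show x = r * (r⁻¹ * x) by group, Modules.commutatorElement_mul_right]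
  refine mul_mem h1 ((mem_normalizer_iff.1 (hW2 r (Qc_le hr.2)) _).1 ?_)
  rw [commutatorElement_def]
  exact mul_mem ((mem_normalizer_iff.1 (hW2 _ hcF) _).1 hw) (inv_mem hw)

end Comm

section Two

variable (hE : BlockSetting S E) (sE : E.IsSubnormal) (hF : BlockSetting T F) (sF : F.IsSubnormal)
variable (hEF : E ≤ normalizer (F : Set G)) (hFE : F ≤ normalizer (E : Set G))
include hE sE hF sF hEF hFE

/-- Either `F` centralizes the module of `E`, or the modules coincide and the blocks commute modulo centralizers. -/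
theorem cent_or_eq (hP : ⁅E, F⁆ ≤ Cfsg.pCore p G) :
    F ≤ centralizer (WE p E : Set G) ∨ WE p E ≤ WE p F := by
  have hQ : ⁅E, F⁆ ≤ Qc p E :=
    (le_inf ((commutator_le_inf hEF hFE).trans inf_le_left) hP).trans (inf_pCore_le hE sE)
  set X := ⁅WE p E, F⁆ with hX
  have hXY : X ≤ WE p E := Modules.commutator_le_of_normalizes (hFE.trans (normalizer_le_normalizer_module p E))
  have hXF : X ≤ WE p F := commutator_le.2 fun y hy f hf => by
    rw [← commutatorElement_inv]
    exact inv_mem (comm_Z1_mem hF sF hf (WE_le_Z1 hE hy))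
  by_cases h : X ≤ centralizer (E : Set G)
  · left
    have h1 : ⁅⁅WE p E, F⁆, E⁆ = ⊥ := commutator_eq_bot_iff_le_centralizer.2 h
    have h2 : ⁅⁅F, E⁆, WE p E⁆ = ⊥ := by
      rw [commutator_eq_bot_iff_le_centralizer, commutator_comm]
      exact hQ.trans (Qc_le_centralizer_WE hE)
    have h3 := commutator_commutator_eq_bot_of_rotate (H₁ := E) (H₂ := WE p E) (H₃ := F) h1 h2
    rw [commutator_comm E, commutator_WE hE, commutator_eq_bot_iff_le_centralizer] at h3
    exact le_centralizer_iff.1 h3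
  · exact Or.inr ((WE_le_of_invariant hE (hXY.trans (WE_le_Wc hE))
      ((le_inf (normalizer_commutator_ge_right _ _ : E ≤ normalizer (WE p E : Set G)) hEF).trans
        (normalizer_inf_le_normalizer_commutator _ _)) h).trans hXF)

/-- The same module and trivial commutator: the second block is not perfect and its quotient is abelian. -/
theorem small_of_same_module (hP : ⁅E, F⁆ ≤ Cfsg.pCore p G) (hY : WE p E = WE p F) :
    IsSmall p F ∧ (IsSmall p E → ⁅F, F⁆ ≤ Qc p F) := by
  have hQ : ⁅E, F⁆ ≤ Qc p E :=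
    (le_inf ((commutator_le_inf hEF hFE).trans inf_le_left) hP).trans (inf_pCore_le hE sE)
  set U₀ := WE p E ⊓ centralizer (E : Set G) with hU₀
  have hcomm : ∀ x ∈ WE p E, ∀ y ∈ WE p E, ⁅x, y⁆ ∈ U₀ := fun x hx y hy => by
    rw [commutatorElement_eq_one_iff_mul_comm.2 (omegaOneCenter_comm (WE_le_Wc hE hx) (WE_le_Wc hE hy))]
    exact one_mem _
  have hNE : normalizer (E : Set G) ≤ SecNorm (WE p E) U₀ :=
    le_inf (normalizer_le_normalizer_module p E) (normalizer_le_normalizer_fixed E)
  have key := (section_comm (inf_le_left : U₀ ≤ WE p E) hcomm (le_normalizer.trans hNE) (hFE.trans hNE)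
    (fun N hN hEN hne u hu => by
      obtain ⟨n, hn, hz⟩ := decomp hE (hN.trans (WE_le_Wc hE)) hEN
        (fun hc => hne fun x hx => ⟨hN hx, hc hx⟩) (WE_le_Wc hE hu)
      exact ⟨n, hn, (WE p E).mul_mem ((WE p E).inv_mem (hN hn)) hu, hz.2⟩)
    (fun e he f hf u hu => by
      rw [commutatorElement_eq_one_iff_mul_comm.2
        ((mem_centralizer_iff.1 (Qc_le_centralizer_WE hE (hQ (commutator_mem_commutator he hf))) u hu).symm)]
      exact one_mem _)).1
  obtain ⟨-, htype⟩ := kernel_and_type hF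
  constructor
  · rcases htype with hpf | hsm
    · exfalso
      have hle : ⁅WE p E, F⁆ ≤ U₀ := by
        refine Modules.commutator_le_of_closure (S := {g | ∃ a ∈ F, ∃ b ∈ F, ⁅a, b⁆ = g}) ?_ ?_ ?_
        · conv_lhs => rw [← hpf.1]
          exact le_rfl
        · rintro _ ⟨a, ha, b, hb, rfl⟩
          exact (hNE (hFE (hpf.1.le (commutator_mem_commutator ha hb)))).2
        · rintro _ ⟨a, ha, b, hb, rfl⟩ v hv
          rw [← commutatorElement_inv]
          exact inv_mem (key a ha b hb v hv)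
      rw [hY, commutator_WE hF, ← hY] at hle
      exact WE_not_le_centralizer hE (hle.trans inf_le_right)
    · exact hsm
  · intro hsE
    refine commutator_le.2 fun a ha b hb => kernel hF (F.mul_mem (F.mul_mem (F.mul_mem ha hb) (F.inv_mem ha))
      (F.inv_mem hb)) (mem_centralizer_iff.2 fun y hy => ?_)
    have h1 := key a ha b hb y (hY ▸ hy)
    rw [hsE.fix, mem_bot, commutatorElement_eq_one_iff_mul_comm] at h1
    exact h1.symm

/-- The commutator is trivial once each block centralizes the module of the other. -/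
theorem commute_of_centralize (hP : ⁅E, F⁆ ≤ Cfsg.pCore p G) (hFY : F ≤ centralizer (WE p E : Set G))
    (hEY : E ≤ centralizer (WE p F : Set G)) : ⁅E, F⁆ = ⊥ :=
  commute_of_centralize' hE sE hF hEF hFE hP hFY hEY

end Two

end Cfsg.Agent.LAE79
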