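import Mathlib
import Cfsg.Agent.LAE79.BlockCommute

/-!
Two small blocks normalizing each other with the same commutator module are equal.
-/

set_option autoImplicit false

open Subgroup
open scoped commutatorElement Pointwise

namespace Cfsg.Agent.LAE79

open LAE62.BlockCent LAE62.Baumann

variable {G : Type*} [Group G] [Finite G] {p : ℕ} [hp : Fact p.Prime]
variable {S T : Sylow p G} {E F : Subgroup G}

/-- The element `n` of `E ∩ F` outside the core shows that both cores agree. -/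
theorem exc_cores (hE : BlockSetting S E) (sE : E.IsSubnormal) (hF : BlockSetting T F) (sF : F.IsSubnormal)
    (hFE : F ≤ normalizer (E : Set G))
    {n : G} (hnE : n ∈ E) (hnF : n ∈ F) (hn : n ∉ Cfsg.pCore p G) (hxE : IsExc p E) :
    ¬ (Qc p E ⊓ Qc p F) ≤ Wc p E := by
  intro hle
  refine hn (Qc_le_pCore hE sE (hxE.ker n hnE fun x hx => hle ⟨?_, ?_⟩))
  · rw [commutatorElement_def]
    exact (Qc p E).mul_mem ((mem_normalizer_iff.1 (E_le_normalizer_Qc hnE) x).1 hx) ((Qc p E).inv_mem hx)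
  · exact commutator_pCore_le hF hnF (Qc_le_pCore hE sE hx)

/-- A small block not inside a subgroup with two cosets at most lies in it. -/
theorem le_of_two_cosets (hF : BlockSetting T F) (hsF : IsSmall p F) {K : Subgroup G} (hQK : Qc p F ≤ K) (hKF : K ≤ F)
    (htwo : ∀ f ∈ F, ∀ f' ∈ F, f ∉ K → f' ∉ K → f⁻¹ * f' ∈ K)
    (hB : p = 3 → Cfsg.baumannSubgroupOf p (T : Subgroup G) ≤ normalizer (K : Set G)) : F ≤ K := by
  rcases hsF.prime with hp2 | hp3
  · intro f hf
    by_contra hfK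
    obtain ⟨k, hk⟩ := hsF.rgroup f hf
    rw [if_pos hp2] at hk
    refine hfK (LAE62.mem_of_pow_coprime (m := 2) (q := 3 ^ k) (Nat.Coprime.pow_right _ (by norm_num)) ?_ (hQK hk))
    have h := htwo f⁻¹ (F.inv_mem hf) f hf (fun h => hfK (by simpa using K.inv_mem h)) hfK
    rwa [inv_inv, ← pow_two] at h
  · conv_lhs => rw [← hF.block.2.1]
    exact commutator_le_of_pairs (B_le_normalizer hF) (hB hp3) htwo

variable (hE : BlockSetting S E) (sE : E.IsSubnormal) (hF : BlockSetting T F) (sF : F.IsSubnormal)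
variable (hEF : E ≤ normalizer (F : Set G)) (hFE : F ≤ normalizer (E : Set G))
variable (hsE : IsSmall p E) (hsF : IsSmall p F) (hY : WE p E = WE p F)
variable (hN : p = 3 → ∃ n ∈ E, n ∈ F ∧ n ∉ Cfsg.pCore p G)
include hE sE hF sF hEF hFE hsE hsF hY hN

theorem small_le : F ≤ E := by
  classical
  haveI := Cores.pCore_normal_inst p G
  set Y := WE p E with hYdef
  set NY : Subgroup G := normalizer (Y : Set G) with hNY
  set r : ℕ := if p = 2 then 3 else 2 with hr
  haveI hrp : Fact r.Prime := ⟨by rw [hr]; split_ifs <;> norm_num⟩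
  have hEY : E ≤ NY := E_le_L
  have hFY : F ≤ NY := fun f hf => by rw [hNY, hY]; exact E_le_L hf
  have hCE : centralizer (Y : Set G) ≤ normalizer (E : Set G) := centralizer_le hE.char S E hE.block
  have hNYC : NY ≤ normalizer ((centralizer (Y : Set G) : Subgroup G) : Set G) := L_le_normalizer_centralizer
  let act : ↥NY →* MulAut ↥Y := Y.normalizerMonoidHom
  have hact : ∀ g : ↥NY, act g = 1 ↔ (g : G) ∈ centralizer (Y : Set G) := fun g => by
    rw [← MonoidHom.mem_ker, normalizerMonoidHom_ker, mem_subgroupOf]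
  let Eb : Subgroup (MulAut ↥Y) := (E.subgroupOf NY).map act
  let Fb : Subgroup (MulAut ↥Y) := (F.subgroupOf NY).map act
  let Nb : Subgroup (MulAut ↥Y) := act.range
  -- images are `r`-groups
  have hrg : ∀ {X : Subgroup G}, X ≤ NY → (∀ x ∈ X, ∃ k, x ^ r ^ k ∈ centralizer (Y : Set G)) →
      IsPGroup r ((X.subgroupOf NY).map act) := by
    intro X hX h
    rintro ⟨_, x, hx, rfl⟩
    obtain ⟨k, hk⟩ := h x hx
    refine ⟨k, Subtype.ext ?_⟩
    rw [SubgroupClass.coe_pow, ← map_pow, OneMemClass.coe_one, hact]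
    simpa using hk
  have hEr : IsPGroup r Eb := hrg hEY fun x hx =>
    (hsE.rgroup x hx).imp fun k hk => Qc_le_centralizer_WE hE hk
  have hFr : IsPGroup r Fb := hrg hFY fun x hx =>
    (hsF.rgroup x hx).imp fun k hk => by rw [hY]; exact Qc_le_centralizer_WE hF hk
  have hFEn : Fb ≤ normalizer (Eb : Set (MulAut ↥Y)) := by
    rintro _ ⟨f, hf, rfl⟩
    refine LAE62.mem_normalizer_of_conj_mem fun _ ⟨e, he, he'⟩ => ⟨f * e * f⁻¹, ?_, by rw [map_mul, map_mul, map_inv, he']⟩
    exact (mem_normalizer_iff.1 (hFE hf) _).1 he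
  have hS : IsPGroup r (Fb ⊔ Eb : Subgroup (MulAut ↥Y)) := hFr.to_sup_of_normal_right' hEr hFEn
  haveI : Finite (MulAut ↥Y) := Finite.of_injective (fun e : MulAut ↥Y => (e : ↥Y → ↥Y)) DFunLike.coe_injective
  have hM : Nat.card (MulAut ↥Y) ∣ (p ^ 2 - 1) * (p ^ 2 - p) := card_mulAut_dvd Y
    (fun a ha b hb => omegaOneCenter_comm (WE_le_Wc hE ha) (WE_le_Wc hE hb))
    (fun a ha => omegaOneCenter_pow (WE_le_Wc hE ha)) hsE.cardY
  obtain ⟨a, ha⟩ := hEr.exists_card_eq
  obtain ⟨b, hb⟩ := hS.exists_card_eq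
  have hEbne : Eb ≠ ⊥ := fun h0 => not_le_Qc hE fun e he => kernel hE he
    ((hact ⟨e, hEY he⟩).1 (mem_bot.1 (h0 ▸ (⟨⟨e, hEY he⟩, he, rfl⟩ : act ⟨e, hEY he⟩ ∈ Eb))))
  have ha1 : 1 ≤ a := by
    rcases Nat.eq_zero_or_pos a with h | h
    · rw [h, pow_zero] at ha; exact absurd (eq_bot_of_card_eq _ ha) hEbne
    · exact h
  have ha3 : p = 3 → 3 ≤ a := fun hp3 => by
    by_contra hlt
    have hcomm : ∀ x ∈ Eb, ∀ y ∈ Eb, x * y = y * x := by
      have hc : IsMulCommutative ↥Eb := by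
        rcases (show a = 1 ∨ a = 2 by omega) with h | h
        · rw [h, pow_one] at ha
          haveI := isCyclic_of_prime_card (α := ↥Eb) (p := r) ha
          infer_instance
        · exact IsPGroup.isMulCommutative_of_card_eq_prime_sq (p := r) (h ▸ ha)
      exact fun x hx y hy => congrArg Subtype.val (hc.is_comm.comm (⟨x, hx⟩ : ↥Eb) ⟨y, hy⟩)
    refine hsE.nonab hp3 (commutator_le.2 fun x hx y hy => ?_)
    have hxy : ⁅x, y⁆ ∈ E := E.mul_mem (E.mul_mem (E.mul_mem hx hy) (E.inv_mem hx)) (E.inv_mem hy)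
    refine kernel hE hxy ((hact ⁅(⟨x, hEY hx⟩ : ↥NY), ⟨y, hEY hy⟩⁆).1 ?_)
    rw [map_commutatorElement, commutatorElement_eq_one_iff_mul_comm]
    exact hcomm _ ⟨_, hx, rfl⟩ _ ⟨_, hy, rfl⟩
  have hba : Nat.card ↥(Fb ⊔ Eb) ≤ 2 * Nat.card Eb := by
    have hdvd : r ^ b ∣ (p ^ 2 - 1) * (p ^ 2 - p) := hb ▸ (card_subgroup_dvd_card _).trans hM
    rw [hb, ha, hr] at *
    rcases hsE.prime with hp2 | hp3
    · subst hp2
      norm_num at hdvd ⊢
      have hb1 : b ≤ 1 := by
        by_contra h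
        have : 3 ^ 2 ∣ 6 := (pow_dvd_pow 3 (show 2 ≤ b by omega)).trans hdvd
        norm_num at this
      have := Nat.pow_le_pow_right (show 1 ≤ 3 by norm_num) (hb1.trans ha1)
      omega
    · subst hp3
      norm_num at hdvd ⊢
      have hb1 : b ≤ 4 := by
        by_contra h
        have : 2 ^ 5 ∣ 48 := (pow_dvd_pow 2 (show 5 ≤ b by omega)).trans hdvd
        norm_num at this
      have h1 := Nat.pow_le_pow_right (show 1 ≤ 2 by norm_num) hb1
      have h2 := Nat.pow_le_pow_right (show 1 ≤ 2 by norm_num) (ha3 rfl)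
      omega
  -- the Baumann subgroup of `F` normalizes `E`
  have hB : p = 3 → Cfsg.baumannSubgroupOf p (T : Subgroup G) ≤ normalizer (E : Set G) := by
    intro hp3
    set L : Subgroup (MulAut ↥Y) := ((normalizer (E : Set G)).subgroupOf NY).map act with hL
    have hEL : Eb ≤ L := map_mono fun x hx => le_normalizer (H := E) hx
    have hBY : Cfsg.baumannSubgroupOf p (S : Subgroup G) ≤ NY :=
      (B_le_normalizer hE).trans (normalizer_le_normalizer_module p E)
    obtain ⟨j, hj, hjc⟩ : ∃ j ∈ Cfsg.thompsonSubgroupOf p (S : Subgroup G), j ∉ centralizer (Y : Set G) := by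
      refine SetLike.not_le_iff_exists.1 fun hle => (commutator_module hE.char S hE.block).2.2 ?_
      exact commutator_eq_bot_iff_le_centralizer.2 (le_centralizer_iff.1 hle)
    have hjB := thompson_le_baumann _ hj
    obtain ⟨k, hk⟩ := S.2 ⟨j, baumann_le _ hjB⟩
    have hk' : (j : G) ^ p ^ k = 1 := by simpa using congrArg Subtype.val hk
    have hjL : act ⟨j, hBY hjB⟩ ∈ L := ⟨_, B_le_normalizer hE hjB, rfl⟩
    have h3 : 3 ∣ Nat.card L := by
      have h1 : orderOf (⟨_, hjL⟩ : ↥L) ∣ 3 ^ k := by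
        refine orderOf_dvd_of_pow_eq_one (Subtype.ext ?_)
        rw [SubgroupClass.coe_pow, ← map_pow, OneMemClass.coe_one, hact, SubgroupClass.coe_pow, ← hp3, hk']
        exact one_mem _
      obtain ⟨i, -, hi⟩ := (Nat.dvd_prime_pow Nat.prime_three).1 h1
      rcases i with _ | i
      · exfalso
        have h0 : (⟨_, hjL⟩ : ↥L) = 1 := orderOf_eq_one_iff.1 (by simpa using hi)
        exact hjc ((hact _).1 (congrArg Subtype.val h0))
      · exact ((dvd_pow_self 3 i.succ_ne_zero).trans hi.symm.dvd).trans (orderOf_dvd_natCard _)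
    have h8 : 8 ∣ Nat.card L := by
      refine dvd_trans ?_ (card_dvd_of_le hEL)
      rw [ha, hr, if_neg (by omega)]
      exact pow_dvd_pow 2 (ha3 hp3)
    have h24 : 24 ∣ Nat.card L := Nat.Coprime.mul_dvd_of_dvd_of_dvd (by norm_num : Nat.Coprime 8 3) h8 h3
    have hLN : L ≤ Nb := map_le_range act _
    have hidx : L.relIndex Nb ∣ 2 := by
      have h1 := Modules.card_mul_relIndex_of_le hLN
      have h48 : Nat.card Nb ∣ 48 := (card_subgroup_dvd_card Nb).trans (by subst hp3; simpa using hM)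
      obtain ⟨c, hc⟩ := h24
      rw [hc, mul_assoc] at h1
      rw [← h1, show (48 : ℕ) = 24 * 2 from rfl, Nat.mul_dvd_mul_iff_left (by norm_num)] at h48
      exact (dvd_mul_left _ _).trans h48
    intro x hx
    have hxN : x ∈ NY := by
      rw [hNY, hY]; exact normalizer_le_normalizer_module p F (B_le_normalizer hF hx)
    have hxL : act ⟨x, hxN⟩ ∈ L := by
      obtain ⟨i, hi⟩ := T.2 ⟨x, baumann_le _ hx⟩
      have hi' : x ^ p ^ i = 1 := by simpa using congrArg Subtype.val hi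
      refine LAE62.mem_of_pow_coprime (m := 2) (q := p ^ i) (Nat.Coprime.pow_right _ (by rw [hp3]; norm_num)) ?_ ?_
      · rcases (Nat.dvd_prime Nat.prime_two).1 hidx with h | h
        · exact pow_mem (relIndex_eq_one.1 h ⟨_, rfl⟩) 2
        · have := sq_mem_of_index_two (H := L.subgroupOf Nb) h ⟨_, ⟨⟨x, hxN⟩, rfl⟩⟩
          simpa [mem_subgroupOf] using this
      · rw [← map_pow, show (⟨x, hxN⟩ : ↥NY) ^ p ^ i = 1 from Subtype.ext (by simpa using hi'), map_one]
        exact one_mem _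
    obtain ⟨l, hl, hlx⟩ := hxL
    have hl' : (l : G)⁻¹ * x ∈ centralizer (Y : Set G) :=
      (hact (l⁻¹ * ⟨x, hxN⟩)).1 (by rw [map_mul, map_inv, hlx, inv_mul_cancel])
    rw [show x = (l : G) * ((l : G)⁻¹ * x) by group]
    exact mul_mem hl (hCE hl')
  -- `F ≤ E C(Y)`
  have hsupC : E ≤ normalizer ((centralizer (Y : Set G) : Subgroup G) : Set G) := hEY.trans hNYC
  have h1 : F ≤ E ⊔ centralizer (Y : Set G) := by
    refine (le_of_two_cosets hF hsF (K := F ⊓ (E ⊔ centralizer (Y : Set G))) (le_inf Qc_le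
      (le_sup_of_le_right (by rw [hY]; exact Qc_le_centralizer_WE hF))) inf_le_left ?_ ?_).trans inf_le_right
    · intro f hf f' hf' hfK hf'K
      refine ⟨F.mul_mem (F.inv_mem hf) hf', ?_⟩
      have hnot : ∀ {g : G} (hg : g ∈ F), g ∉ F ⊓ (E ⊔ centralizer (Y : Set G)) → act ⟨g, hFY hg⟩ ∉ Eb := by
        rintro g hg hgK ⟨e, he, he'⟩
        have hc : (e : G)⁻¹ * g ∈ centralizer (Y : Set G) :=
          (hact (e⁻¹ * ⟨g, hFY hg⟩)).1 (by rw [map_mul, map_inv, he', inv_mul_cancel])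
        refine hgK ⟨hg, ?_⟩
        rw [show g = (e : G) * ((e : G)⁻¹ * g) by group]
        exact mul_mem_sup he hc
      have hidx : (Eb.subgroupOf (Fb ⊔ Eb)).index = 2 := by
        have h1 := Modules.card_mul_relIndex_of_le (le_sup_right : Eb ≤ Fb ⊔ Eb)
        have h0 : (Eb.relIndex (Fb ⊔ Eb)) ≠ 1 := fun h =>
          hnot hf hfK (relIndex_eq_one.1 h (mem_sup_left ⟨_, hf, rfl⟩))
        have hpos : 0 < Nat.card Eb := Nat.card_pos
        have hne : Eb.relIndex (Fb ⊔ Eb) ≠ 0 := index_ne_zero_of_finite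
        have h2 : Eb.relIndex (Fb ⊔ Eb) ≤ 2 := by
          refine Nat.le_of_mul_le_mul_left ?_ hpos
          rw [h1, mul_comm _ 2]; exact hba
        show Eb.relIndex (Fb ⊔ Eb) = 2
        omega
      have hmem := (mul_mem_iff_of_index_two hidx (a := ⟨_, mem_sup_left ⟨_, F.inv_mem hf, rfl⟩⟩)
        (b := ⟨_, mem_sup_left ⟨_, hf', rfl⟩⟩)).2 (iff_of_false (fun h => hnot (F.inv_mem hf) (fun h' => hfK
          (by simpa using Subgroup.inv_mem _ h')) (mem_subgroupOf.1 h))
          fun h => hnot hf' hf'K (mem_subgroupOf.1 h))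
      by_contra hc
      refine hnot (F.mul_mem (F.inv_mem hf) hf') (fun h => hc h.2) ?_
      have := mem_subgroupOf.1 hmem
      rwa [show act ⟨f⁻¹ * f', hFY (F.mul_mem (F.inv_mem hf) hf')⟩ =
        act ⟨f⁻¹, hFY (F.inv_mem hf)⟩ * act ⟨f', hFY hf'⟩ from
          map_mul act ⟨f⁻¹, hFY (F.inv_mem hf)⟩ ⟨f', hFY hf'⟩]
    · intro hp3
      refine (le_inf (B_le_normalizer hF) ((le_inf (hB hp3) ?_).trans
        (normalizer_inf_normalizer_le_normalizer_sup _ _))).trans inf_normalizer_le_normalizer_inf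
      exact ((B_le_normalizer hF).trans (by rw [hNY, hY]; exact normalizer_le_normalizer_module p F) :
        _ ≤ NY).trans hNYC
  -- `C(Y) ∩ EF` acts as at most two scalars
  set C0 := (E ⊔ F) ⊓ centralizer (Y : Set G) with hC0
  have hJE : E ⊔ F ≤ normalizer (E : Set G) := sup_le le_normalizer hFE
  have hQQ : (IsExc p E → IsExc p F ∧ Qc p E = Qc p F) ∧ (Qc p E = WE p E → Qc p F = Qc p E) := by
    constructor
    · intro hxE
      obtain ⟨n, hnE, hnF, hn⟩ := hN hxE.three
      rcases exc_or hF with heq | hxF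
      · exact absurd (inf_le_right.trans (heq.trans hY.symm).le |>.trans (WE_le_Wc hE))
          (exc_cores hE sE hF sF hFE hnE hnF hn hxE)
      refine ⟨hxF, ?_⟩
      have hR1 := exc_cores hE sE hF sF hFE hnE hnF hn hxE
      have hR2 := exc_cores hF sF hE sE hEF hnF hnE hn hxF
      have hER : E ≤ normalizer ((Qc p E ⊓ Qc p F : Subgroup G) : Set G) :=
        (le_inf E_le_normalizer_Qc (hEF.trans (LocalP.normalizer_le_normalizer_pCoreOf F))).trans
          inf_normalizer_le_normalizer_inf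
      have hFR : F ≤ normalizer ((Qc p F ⊓ Qc p E : Subgroup G) : Set G) :=
        (le_inf E_le_normalizer_Qc (hFE.trans (LocalP.normalizer_le_normalizer_pCoreOf E))).trans
          inf_normalizer_le_normalizer_inf
      have hZ : ∀ {A B : Subgroup G}, (∀ x ∈ Qc p A, ∃ y ∈ Qc p A ⊓ Qc p B, y⁻¹ * x ∈ Wc p A) →
          ⁅Qc p A, Qc p A⁆ ≤ ⁅Qc p B, Qc p B⁆ := fun h => commutator_le.2 fun x hx x' hx' => by
        obtain ⟨y, hy, hw⟩ := h x hx
        obtain ⟨y', hy', hw'⟩ := h x' hx'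
        rw [show x = y * (y⁻¹ * x) by group, show x' = y' * (y'⁻¹ * x') by group,
          comm_mul_central (Qc_comm_Wc hy'.1 hw) (Qc_comm_Wc hy.1 hw') (omegaOneCenter_comm hw hw')]
        exact commutator_mem_commutator hy.2 hy'.2
      have hW : Wc p E = Wc p F := by
        rw [Wc_eq_sup hE, Wc_eq_sup hF, ← hY, ← hxE.comm, ← hxF.comm]
        exact congrArg _ (le_antisymm (hZ (hxE.irr _ inf_le_left hER hR1)) (hZ (hxF.irr _ inf_le_left hFR hR2)))
      refine le_antisymm (fun x hx => ?_) fun x hx => ?_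
      · obtain ⟨y, hy, hw⟩ := hxE.irr _ inf_le_left hER hR1 x hx
        rw [show x = y * (y⁻¹ * x) by group]
        exact (Qc p F).mul_mem hy.2 (omegaOneCenter_le _ (hW.le hw))
      · obtain ⟨y, hy, hw⟩ := hxF.irr _ inf_le_left hFR hR2 x hx
        rw [show x = y * (y⁻¹ * x) by group]
        exact (Qc p E).mul_mem hy.2 (omegaOneCenter_le _ (hW.ge hw))
    · intro heq
      rcases exc_or hF with heq' | hxF
      · exact heq'.trans (hY.symm.trans heq.symm)
      · obtain ⟨n, hnE, hnF, hn⟩ := hN hxF.three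
        exact absurd (inf_le_right.trans (heq.trans hY).le |>.trans (WE_le_Wc hF))
          (exc_cores hF sF hE sE hEF hnF hnE hn hxF)
  have hQeq : Qc p F = Qc p E := (exc_or hE).elim hQQ.2 fun hx => (hQQ.1 hx).2.symm
  have hJP : ∀ x ∈ E ⊔ F, ∀ a ∈ Cfsg.pCore p G, ⁅x, a⁆ ∈ Qc p E := by
    have hPN : ∀ g : G, g ∈ normalizer (Cfsg.pCore p G : Set G) := fun g => by
      rw [normalizer_eq_top]; exact mem_top g
    let X : Subgroup G :=
      { carrier := {x | x ∈ normalizer (Qc p E : Set G) ∧ ∀ a ∈ Cfsg.pCore p G, ⁅x, a⁆ ∈ Qc p E}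
        one_mem' := ⟨one_mem _, fun a _ => by rw [commutatorElement_one_left]; exact one_mem _⟩
        mul_mem' := by
          rintro x y ⟨hx, hx'⟩ ⟨hy, hy'⟩
          refine ⟨mul_mem hx hy, fun a ha => ?_⟩
          rw [Modules.commutatorElement_mul_left]
          exact mul_mem ((mem_normalizer_iff.1 hx _).1 (hy' a ha)) (hx' a ha)
        inv_mem' := by
          rintro x ⟨hx, hx'⟩
          refine ⟨inv_mem hx, fun a ha => ?_⟩
          rw [show ⁅x⁻¹, a⁆ = x⁻¹ * ⁅x, a⁆⁻¹ * x by simp only [commutatorElement_def]; group]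
          exact (mem_normalizer_iff''.1 hx _).1 (inv_mem (hx' a ha)) }
    refine fun x hx => ((sup_le ?_ ?_ : E ⊔ F ≤ X) hx).2
    · exact fun e he => ⟨E_le_normalizer_Qc he, fun a ha => commutator_pCore_le hE he ha⟩
    · exact fun f hf => ⟨by rw [← hQeq]; exact E_le_normalizer_Qc hf,
        fun a ha => hQeq ▸ commutator_pCore_le hF hf ha⟩
  have htriv : ∀ c ∈ C0, (IsExc p E → ∀ q ∈ Qc p E, ⁅c, q⁆ ∈ Wc p E) → c ∈ Cfsg.pCore p G := by
    intro c hc hmid
    obtain ⟨m, hm, k, rfl⟩ := commute_pow_of_quotient (p := p) c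
    set d := c ^ p ^ k with hd
    have hdC : d ∈ C0 := pow_mem hc _
    have hdQ : ∀ q ∈ Qc p E, Commute d q := by
      intro q hq
      rcases exc_or hE with heq | hxE
      · exact (mem_centralizer_iff.1 hdC.2 q (heq.le hq)).symm
      have hcN : c ∈ normalizer (Wc p E : Set G) := normalizer_le_normalizer_Wc E (hJE hc.1)
      have hcZ : ∀ z ∈ ⁅Qc p E, Qc p E⁆, Commute c z := by
        suffices h : ⁅Qc p E, Qc p E⁆ ≤ centralizer ({c} : Set G) from fun z hz =>
          (mem_centralizer_singleton_iff.1 (h hz)).symm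
        refine commutator_le.2 fun q hq q' hq' => mem_centralizer_singleton_iff.2 ?_
        have hq1 := hmid hxE q hq
        have hq2 := hmid hxE q' hq'
        have e1 : c * q * c⁻¹ = q * ⁅c, q⁆ := by
          rw [(Qc_comm_Wc hq hq1), commutatorElement_def]; group
        have e2 : c * q' * c⁻¹ = q' * ⁅c, q'⁆ := by
          rw [(Qc_comm_Wc hq' hq2), commutatorElement_def]; group
        have h : c * ⁅q, q'⁆ * c⁻¹ = ⁅q, q'⁆ := by
          have e : c * ⁅q, q'⁆ * c⁻¹ = ⁅c * q * c⁻¹, c * q' * c⁻¹⁆ := by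
            simp only [commutatorElement_def]; group
          rw [e, e1, e2, comm_mul_central (Qc_comm_Wc hq' hq1) (Qc_comm_Wc hq hq2) (omegaOneCenter_comm hq1 hq2)]
        calc ⁅q, q'⁆ * c = c * ⁅q, q'⁆ * c⁻¹ * c := by rw [h]
          _ = c * ⁅q, q'⁆ := by group
      have hcW : ∀ w ∈ Wc p E, Commute c w := fun w hw => by
        obtain ⟨y, hy, hz⟩ := WE_decomp hE hw
        have c1 : Commute c y := (mem_centralizer_iff.1 hc.2 y hy).symm
        simpa using c1.mul_right (hcZ _ (hxE.comm.ge hz))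
      have hdq : ⁅d, q⁆ ∈ Wc p E := by
        let Xq : Subgroup G :=
          { carrier := {x | x ∈ normalizer (Wc p E : Set G) ∧ ∀ q ∈ Qc p E, ⁅x, q⁆ ∈ Wc p E}
            one_mem' := ⟨one_mem _, fun a _ => by rw [commutatorElement_one_left]; exact one_mem _⟩
            mul_mem' := by
              rintro x y ⟨hx, hx'⟩ ⟨hy, hy'⟩
              refine ⟨mul_mem hx hy, fun a ha => ?_⟩
              rw [Modules.commutatorElement_mul_left]
              exact mul_mem ((mem_normalizer_iff.1 hx _).1 (hy' a ha)) (hx' a ha)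
            inv_mem' := by
              rintro x ⟨hx, hx'⟩
              refine ⟨inv_mem hx, fun a ha => ?_⟩
              rw [show ⁅x⁻¹, a⁆ = x⁻¹ * ⁅x, a⁆⁻¹ * x by simp only [commutatorElement_def]; group]
              exact (mem_normalizer_iff''.1 hx _).1 (inv_mem (hx' a ha)) }
        exact ((Xq.pow_mem (x := c) ⟨hcN, hmid hxE⟩ (p ^ k)) : d ∈ Xq).2 q hq
      exact commutatorElement_eq_one_iff_mul_comm.1
        (comm_eq_one_of_coprime (Qc_isPGroup.to_le (omegaOneCenter_le _)) hm hdq ((hcW _ hdq).pow_left _))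
    have hdP : d ∈ centralizer (Cfsg.pCore p G : Set G) := mem_centralizer_iff.2 fun a ha =>
      (commutatorElement_eq_one_iff_mul_comm.1
        (comm_eq_one_of_coprime Qc_isPGroup hm (hJP d hdC.1 a ha) (hdQ _ (hJP d hdC.1 a ha)))).symm
    have hd1 : d = 1 := by
      obtain ⟨i, hi⟩ := Cores.pCore_isPGroup (p := p) ⟨d, hE.char hdP⟩
      have hi' : d ^ p ^ i = 1 := by simpa using congrArg Subtype.val hi
      exact LAE62.mem_of_pow_eq_one_coprime hi' hm
    -- a `p`-element of `EF` lies in the core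
    have hJr : IsPGroup r ((E ⊔ F).map (QuotientGroup.mk' (Cfsg.pCore p G))) := by
      rw [Subgroup.map_sup]
      exact (small_map_isPGroup hE sE hsE).to_sup_of_normal_right' (small_map_isPGroup hF sF hsF)
        ((map_mono hEF).trans (le_normalizer_map _))
    obtain ⟨i, hi⟩ := hJr ⟨_, c, hc.1, rfl⟩
    have hi' : c ^ r ^ i ∈ Cfsg.pCore p G := (QuotientGroup.eq_one_iff _).1 (by
      simpa using congrArg Subtype.val hi)
    refine LAE62.mem_of_pow_coprime (m := p ^ k) (q := r ^ i) ?_ (by rw [← hd, hd1]; exact one_mem _) hi'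
    refine Nat.Coprime.pow _ _ ?_
    rw [hr]
    rcases hsE.prime with h | h <;> rw [h] <;> norm_num
  have htwoC : ∀ c ∈ C0, ∀ c' ∈ C0, c ∉ Cfsg.pCore p G → c' ∉ Cfsg.pCore p G → c⁻¹ * c' ∈ Cfsg.pCore p G := by
    intro c hc c' hc' hcP hc'P
    rcases exc_or hE with heq | hxE
    · exact absurd (htriv c hc fun hx => absurd hx fun hx => hx.comm_ne (eq_bot_iff.2 (commutator_le.2
        fun a ha b hb => mem_bot.2 (commutatorElement_eq_one_iff_mul_comm.2
          (omegaOneCenter_comm (WE_le_Wc hE (heq ▸ ha)) (WE_le_Wc hE (heq ▸ hb))))))) hcP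
    have hp3 := hxE.three
    have hUc : ∀ x ∈ Qc p E, ∀ y ∈ Qc p E, ⁅x, y⁆ ∈ Wc p E := fun x hx y hy =>
      (hxE.comm.le (commutator_mem_commutator hx hy)).1
    have hNE : normalizer (E : Set G) ≤ SecNorm (Qc p E) (Wc p E) :=
      le_inf (LocalP.normalizer_le_normalizer_pCoreOf E) (normalizer_le_normalizer_Wc E)
    have hexp : ∀ u ∈ Qc p E, u ^ p ∈ Wc p E := by
      rcases hE.block.2.2.2.2 with ⟨F', _, _, n, hcard, -, -, hq | ⟨-, hact2, -⟩⟩ | ⟨h2, -⟩
      · exact fun u hu => pow_mem (hq.le hu) p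
      · obtain ⟨-, -, ρ, ψ, -, -, hker, -⟩ := hact2
        intro u hu
        haveI : CharP F' p := charP_of_card_eq_prime_pow hcard
        refine (hker (⟨u, hu⟩ ^ p)).1 (Multiplicative.toAdd.injective ?_)
        rw [map_pow, toAdd_pow, toAdd_one]
        ext i
        simp
      · omega
    obtain ⟨x, hx, y, hy, u, hu, hne⟩ : ∃ h ∈ E, ∃ h' ∈ E, ∃ u ∈ Qc p E, ⁅⁅h, h'⁆, u⁆ ∉ Wc p E := by
      by_contra hcon
      push Not at hcon
      exact hxE.nonab (commutator_le.2 fun x hx y hy => hxE.ker _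
        (E.mul_mem (E.mul_mem (E.mul_mem hx hy) (E.inv_mem hx)) (E.inv_mem hy)) (hcon x hx y hy))
    have key := (section_comm (omegaOneCenter_le _) hUc (le_normalizer.trans hNE)
      ((inf_le_left.trans hJE : C0 ≤ _).trans hNE) hxE.irr (fun e he d hd q hq => hUc _ (kernel hE ?_ ?_) q hq)).2
      p (hxE.card_sec hsE.cardY) hexp ⟨x, hx, y, hy, u, hu, hne⟩
    rotate_left
    · rw [commutatorElement_def, show e * d * e⁻¹ * d⁻¹ = e * (d * e⁻¹ * d⁻¹) by group]
      exact E.mul_mem he ((mem_normalizer_iff.1 (hJE hd.1) _).1 (E.inv_mem he))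
    · rw [commutatorElement_def]
      exact mul_mem ((mem_normalizer_iff.1 (hsupC he) d).1 hd.2) (inv_mem hd.2)
    have hWn : ∀ {g : G}, g ∈ C0 → g ∈ normalizer (Wc p E : Set G) := fun hg =>
      normalizer_le_normalizer_Wc E (hJE hg.1)
    have hQn : ∀ {g : G}, g ∈ C0 → g ∈ normalizer (Qc p E : Set G) := fun hg =>
      LocalP.normalizer_le_normalizer_pCoreOf E (hJE hg.1)
    have hsq : ∀ d ∈ C0, d ∉ Cfsg.pCore p G → ∀ q ∈ Qc p E, (q ^ 2)⁻¹ * (d * q * d⁻¹) ∈ Wc p E := by
      intro d hd hdP q hq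
      obtain ⟨i, hi⟩ := key d hd
      have hQWne : ¬ Qc p E ≤ Wc p E := fun hle => hxE.comm_ne (eq_bot_iff.2 (commutator_le.2
        fun a ha b hb => mem_bot.2 (commutatorElement_eq_one_iff_mul_comm.2 (omegaOneCenter_comm (hle ha) (hle hb)))))
      -- reduce the exponent modulo three
      have hred : ∀ u ∈ Qc p E, (u ^ (i % 3))⁻¹ * (d * u * d⁻¹) ∈ Wc p E := fun u hu => by
        have h := hi u hu
        rw [show i = 3 * (i / 3) + i % 3 from (Nat.div_add_mod i 3).symm, pow_add, pow_mul, mul_inv_rev, mul_assoc] at h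
        have hw : (u ^ 3) ^ (i / 3) ∈ Wc p E := pow_mem (hp3 ▸ hexp u hu) _
        have hN' : (u ^ (i % 3)) ∈ normalizer (Wc p E : Set G) :=
          E_le_normalizer_Wc hE (Qc_le (pow_mem hu _))
        have hx' := mul_mem ((mem_normalizer_iff''.1 hN' _).1 hw) h
        simpa [mul_assoc] using hx'
      rcases (show i % 3 = 0 ∨ i % 3 = 1 ∨ i % 3 = 2 by omega) with h | h | h
      · exfalso
        refine hQWne fun u hu => ?_
        have h' := hred u hu
        rw [h, pow_zero, inv_one, one_mul] at h'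
        exact (mem_normalizer_iff.1 (hWn hd) u).2 h'
      · exfalso
        refine hdP (htriv d hd fun _ u hu => ?_)
        have h' := hred u hu
        rw [h, pow_one] at h'
        rw [show ⁅d, u⁆ = u * (u⁻¹ * (d * u * d⁻¹)) * u⁻¹ by simp only [commutatorElement_def]; group]
        exact (mem_normalizer_iff.1 (E_le_normalizer_Wc hE (Qc_le hu)) _).1 h'
      · exact h ▸ hred q hq
    refine htriv _ (C0.mul_mem (C0.inv_mem hc) hc') fun _ q hq => ?_
    have h1 := hsq c hc hcP q hq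
    have h2 := hsq c' hc' hc'P q hq
    have h3 : (c * q * c⁻¹)⁻¹ * (c' * q * c'⁻¹) ∈ Wc p E := by
      have := mul_mem (inv_mem h1) h2
      simpa [mul_assoc] using this
    have h4 : q⁻¹ * (c⁻¹ * c' * q * (c⁻¹ * c')⁻¹) ∈ Wc p E := by
      have := (mem_normalizer_iff''.1 (hWn hc) _).1 h3
      simpa [mul_assoc] using this
    rw [show ⁅c⁻¹ * c', q⁆ = q * (q⁻¹ * (c⁻¹ * c' * q * (c⁻¹ * c')⁻¹)) * q⁻¹ by
      simp only [commutatorElement_def]; group]
    exact (mem_normalizer_iff.1 (E_le_normalizer_Wc hE (Qc_le hq)) _).1 h4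
  refine le_of_le_sup hE hF.block.1 ((le_of_two_cosets hF hsF (K := F ⊓ (E ⊔ Cfsg.pCore p G)) (le_inf Qc_le
    (le_sup_of_le_right (Qc_le_pCore hF sF))) inf_le_left ?_ ?_).trans inf_le_right)
  · intro f hf f' hf' hfK hf'K
    refine ⟨F.mul_mem (F.inv_mem hf) hf', ?_⟩
    have hdec : ∀ {g : G}, g ∈ F → g ∉ F ⊓ (E ⊔ Cfsg.pCore p G) →
        ∃ e ∈ E, ∃ c ∈ C0, c ∉ Cfsg.pCore p G ∧ g = e * c := fun {g} hg hgK => by
      have hgs : g ∈ ((E : Set G) * ((centralizer (Y : Set G) : Subgroup G) : Set G) : Set G) := by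
        rw [← coe_mul_of_left_le_normalizer_right _ _ hsupC]; exact h1 hg
      obtain ⟨e, he, c, hc, rfl⟩ := hgs
      have hcJ : c ∈ E ⊔ F := by
        rw [show c = e⁻¹ * (e * c) by group]
        exact mul_mem_sup (E.inv_mem he) hg
      exact ⟨e, he, c, ⟨hcJ, hc⟩, fun hcP => hgK ⟨hg, mul_mem_sup he hcP⟩, rfl⟩
    obtain ⟨e, he, c, hc, hcP, rfl⟩ := hdec hf hfK
    obtain ⟨e', he', c', hc', hc'P, rfl⟩ := hdec hf' hf'K
    rw [show (e * c)⁻¹ * (e' * c') = (c⁻¹ * (e⁻¹ * e') * c) * (c⁻¹ * c') by group]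
    exact mul_mem_sup ((mem_normalizer_iff''.1 (hJE hc.1) _).1 (E.mul_mem (E.inv_mem he) he'))
      (htwoC c hc c' hc' hcP hc'P)
  · intro hp3
    refine (le_inf (B_le_normalizer hF) ((le_inf (hB hp3) ?_).trans
      (normalizer_inf_normalizer_le_normalizer_sup _ _))).trans inf_normalizer_le_normalizer_inf
    rw [normalizer_eq_top]; exact le_top

end Cfsg.Agent.LAE79
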