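import Mathlib
import Cfsg.Agent.LAE79.BlockSmall

/-!
Two subnormal blocks are equal or commute.
-/

set_option autoImplicit false

open Subgroup
open scoped commutatorElement Pointwise

namespace Cfsg.Agent.LAE79

open LAE62.BlockCent LAE62.Baumann

variable {G : Type*} [Group G] [Finite G] {p : ℕ} [hp : Fact p.Prime]
variable {S T : Sylow p G} {E F : Subgroup G}

omit [Finite G] hp in
theorem map_WE (g : G) (E : Subgroup G) : (WE p E).map (cj g) = WE p (E.map (cj g)) := by
  rw [map_commutator, map_omegaOneCenter']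
  show _ = ⁅Cfsg.omegaOneCenter p (Cfsg.pCoreOf p (E.map (cj g))), E.map (cj g)⁆
  rw [LAE60.pCoreOf_map _ (cj_injective g)]

/-- A perfect-type block does not lie in a small one. -/
theorem not_perfect_le_small (hE : BlockSetting S E) (sE : E.IsSubnormal) (hF : BlockSetting T F)
    (hpF : IsPerfectType p F) (hsE : IsSmall p E) (hle : F ≤ E) : False := by
  haveI := Cores.pCore_normal_inst p G
  haveI hrp : Fact (if p = 2 then 3 else 2).Prime := ⟨by split_ifs <;> norm_num⟩
  set H := E.map (QuotientGroup.mk' (Cfsg.pCore p G))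
  haveI : Group.IsNilpotent H := (small_map_isPGroup hE sE hsE).isNilpotent
  set N := (F.map (QuotientGroup.mk' (Cfsg.pCore p G))).subgroupOf H with hN
  have hNN : N ≤ ⁅N, N⁆ := by
    refine (map_le_map_iff_of_injective H.subtype_injective).1 ?_
    rw [map_commutator, subgroupOf_map_subtype, inf_eq_left.2 (map_mono hle), ← map_commutator, hpF.1]
  have hN0 : N = ⊥ := Modules.eq_bot_of_le_commutator_top (hNN.trans (commutator_mono le_rfl le_top))
  refine not_isPGroup hF (Cores.pCore_isPGroup.to_le fun f hf => ?_)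
  have h1 : (⟨QuotientGroup.mk' (Cfsg.pCore p G) f, ⟨f, hle hf, rfl⟩⟩ : H) ∈ N := ⟨f, hf, rfl⟩
  rw [hN0, mem_bot] at h1
  exact (QuotientGroup.eq_one_iff _).1 (congrArg Subtype.val h1)

section Two

variable (hE : BlockSetting S E) (sE : E.IsSubnormal) (hF : BlockSetting T F) (sF : F.IsSubnormal)
include hE sE hF sF

/-- The modulo-core step for a normal subgroup meeting a perfect-type block centrally. -/
theorem commutator_le_pCore_of_central (hpF : IsPerfectType p F) (hEF : E ≤ normalizer (F : Set G))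
    {X : Subgroup G} (hX : ⁅X, F⁆ ≤ Qc p F) (hle : ⁅E, F⁆ ≤ X) : ⁅E, F⁆ ≤ Cfsg.pCore p G := by
  have hF1 : F ≤ normalizer (Qc p F : Set G) := E_le_normalizer_Qc
  have hE1 : E ≤ normalizer (Qc p F : Set G) := hEF.trans (LocalP.normalizer_le_normalizer_pCoreOf F)
  have h := LocalEven.three_subgroup_le hF1 hF1 hE1
    (show ⁅⁅F, E⁆, F⁆ ≤ Qc p F from by rw [commutator_comm F E]; exact (commutator_mono hle le_rfl).trans hX)
    (show ⁅⁅E, F⁆, F⁆ ≤ Qc p F from (commutator_mono hle le_rfl).trans hX)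
  rw [hpF.1, commutator_comm] at h
  exact h.trans (Qc_le_pCore hF sF)

/-- Two blocks normalizing each other. -/
theorem normal_pair (hEF : E ≤ normalizer (F : Set G)) (hFE : F ≤ normalizer (E : Set G)) :
    E = F ∨ ⁅E, F⁆ = ⊥ := by
  by_cases hP : ⁅E, F⁆ ≤ Cfsg.pCore p G
  · have hP' : ⁅F, E⁆ ≤ Cfsg.pCore p G := by rwa [commutator_comm]
    have same : WE p E = WE p F → E = F := fun hY => by
      obtain ⟨hsF, hFab⟩ := small_of_same_module hE sE hF sF hEF hFE hP hY
      obtain ⟨hsE, -⟩ := small_of_same_module hF sF hE sE hFE hEF hP' hY.symm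
      have hp3 : p ≠ 3 := fun h3 => hsF.nonab h3 (hFab hsE)
      exact le_antisymm (small_le hF sF hE sE hFE hEF hsF hsE hY.symm fun h => absurd h hp3)
        (small_le hE sE hF sF hEF hFE hsE hsF hY fun h => absurd h hp3)
    rcases cent_or_eq hE sE hF sF hEF hFE hP with h1 | h1
    · rcases cent_or_eq hF sF hE sE hFE hEF hP' with h2 | h2
      · exact Or.inr (commute_of_centralize hE sE hF sF hEF hFE hP h1 h2)
      · exfalso
        exact WE_not_le_centralizer hF (h2.trans (le_centralizer_iff.1 h1))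
    · rcases cent_or_eq hF sF hE sE hFE hEF hP' with h2 | h2
      · exfalso
        exact WE_not_le_centralizer hE (h1.trans (le_centralizer_iff.1 h2))
      · exact Or.inl (same (le_antisymm h1 h2))
  left
  obtain ⟨n, hn, hnP⟩ := SetLike.not_le_iff_exists.1 hP
  have hn2 := commutator_le_inf hEF hFE hn
  -- a perfect block lies in the other
  have perf : ∀ {A B : Subgroup G} {S' T' : Sylow p G}, BlockSetting S' A → A.IsSubnormal → BlockSetting T' B →
      B.IsSubnormal → A ≤ normalizer (B : Set G) → B ≤ normalizer (A : Set G) → ¬ ⁅A, B⁆ ≤ Cfsg.pCore p G →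
      IsPerfectType p B → B ≤ A := by
    intro A B S' T' hA sA hB sB hAB hBA hne hpB
    rcases hpB.2 (A ⊓ B) inf_le_right ((le_inf hBA le_normalizer).trans inf_normalizer_le_normalizer_inf) with h | h
    · exact h ▸ inf_le_left
    · exact absurd (commutator_le_pCore_of_central hA sA hB sB hpB hAB h (commutator_le_inf hAB hBA)) hne
  have hP' : ¬ ⁅F, E⁆ ≤ Cfsg.pCore p G := by rwa [commutator_comm]
  rcases (kernel_and_type hF).2 with hpF | hsF
  · rcases (kernel_and_type hE).2 with hpE | hsE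
    · exact le_antisymm (perf hF sF hE sE hFE hEF hP' hpE) (perf hE sE hF sF hEF hFE hP hpF)
    · exact (not_perfect_le_small hE sE hF hpF hsE (perf hE sE hF sF hEF hFE hP hpF)).elim
  rcases (kernel_and_type hE).2 with hpE | hsE
  · exact (not_perfect_le_small hF sF hE hpE hsF (perf hF sF hE sE hFE hEF hP' hpE)).elim
  have hY : WE p E = WE p F := by
    refine (eq_of_le_of_card_ge ?_ (by rw [hsE.cardY, hsF.cardY])).symm
    set X := ⁅WE p F, E ⊓ F⁆ with hX
    have hXE : X ≤ WE p E := commutator_le.2 fun y hy m hm => by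
      rw [← commutatorElement_inv]
      exact inv_mem (comm_Z1_mem hE sE hm.1 (WE_le_Z1 hF hy))
    have hXF : X ≤ WE p F := Modules.commutator_le_of_normalizes (inf_le_right.trans E_le_L)
    refine (WE_le_of_invariant hF (hXF.trans (WE_le_Wc hF))
      ((le_inf E_le_L ((le_inf hFE le_normalizer).trans inf_normalizer_le_normalizer_inf)).trans
        (normalizer_inf_le_normalizer_commutator _ _)) fun hc => ?_).trans hXE
    have hbot : X = ⊥ := eq_bot_iff.2 ((le_inf hXF hc).trans_eq hsF.fix)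
    rw [hX, commutator_eq_bot_iff_le_centralizer] at hbot
    exact hnP (Qc_le_pCore hF sF (kernel hF hn2.2 (le_centralizer_iff.1 hbot hn2)))
  exact le_antisymm (small_le hF sF hE sE hFE hEF hsF hsE hY.symm fun _ => ⟨n, hn2.2, hn2.1, hnP⟩)
    (small_le hE sE hF sF hEF hFE hsE hsF hY fun _ => ⟨n, hn2.1, hn2.2, hnP⟩)

end Two

/-- Induction hypothesis of the main theorem. -/
def PairIH (p : ℕ) (n : ℕ) (G : Type*) [Group G] [Finite G] [Fact p.Prime] : Prop :=
  ∀ (A B : Subgroup G), (∃ S : Sylow p G, BlockSetting S A) → A.IsSubnormal → (∃ T : Sylow p G, BlockSetting T B) →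
    B.IsSubnormal → Nat.card ↥(A ⊔ B) < n → A = B ∨ ⁅A, B⁆ = ⊥

omit hp in
theorem isSubnormal_map (g : G) (hs : E.IsSubnormal) : (E.map (cj g)).IsSubnormal :=
  hs.map (MulAut.conj g).surjective

/-- Conjugates of a moved block inside the join commute. -/
theorem conj_pair (hE : BlockSetting S E) (sE : E.IsSubnormal) {J : Subgroup G} (hEJ : E ≤ J)
    (IH : PairIH p (Nat.card J) G) {a b : G} (ha : a ∈ J) (hb : b ∈ J) :
    E.map (cj a) = E.map (cj b) ∨ ⁅E.map (cj a), E.map (cj b)⁆ = ⊥ := by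
  by_cases hn : J ≤ normalizer (E : Set G)
  · exact Or.inl ((mem_normalizer_iff_map_conj_eq.1 (hn ha)).trans (mem_normalizer_iff_map_conj_eq.1 (hn hb)).symm)
  rcases (sE.subgroupOf (K := J)).lt_normal with htop | ⟨K, hKn, hEK, hKtop⟩
  · exact absurd ((subgroupOf_eq_top.1 htop).trans le_normalizer) hn
  have hle : ∀ g ∈ J, E.map (cj g) ≤ K.map J.subtype := by
    rintro g hg _ ⟨e, he, rfl⟩
    refine ⟨⟨g, hg⟩ * ⟨e, hEJ he⟩ * (⟨g, hg⟩ : ↥J)⁻¹, hKn.conj_mem _ (hEK (mem_subgroupOf.2 he)) _, rfl⟩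
  refine IH _ _ (blockSetting_map a hE) (isSubnormal_map a sE) (blockSetting_map b hE) (isSubnormal_map b sE) ?_
  refine lt_of_le_of_lt (card_le_of_le (sup_le (hle a ha) (hle b hb))) ?_
  rw [card_map_of_injective J.subtype_injective]
  exact lt_of_le_of_ne K.card_le_card_group fun h => hKtop.ne (eq_top_of_card_eq _ h)

omit hp in
/-- The normal closure of `F` in `J`. -/
theorem conjClosure_facts {J F : Subgroup G}
    (hcomm : ∀ a ∈ J, ∀ b ∈ J, F.map (cj a) = F.map (cj b) ∨ ⁅F.map (cj a), F.map (cj b)⁆ = ⊥) :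
    (⨆ a : ↥J, F.map (cj (a : G))) ≤ normalizer (F : Set G) ∧
      J ≤ normalizer ((⨆ a : ↥J, F.map (cj (a : G)) : Subgroup G) : Set G) ∧
        F ≤ ⨆ a : ↥J, F.map (cj (a : G)) := by
  have h1 : ∀ (H : Subgroup G), H.map (cj (1 : G)) = H := fun H => by
    ext x; simp [Subgroup.mem_map, MulAut.conj_apply]
  refine ⟨iSup_le fun a => ?_, ?_, le_of_eq_of_le (h1 F).symm (le_iSup (fun a : ↥J => F.map (cj (a : G))) 1)⟩
  · rcases hcomm a a.2 1 J.one_mem with h | h <;> rw [h1] at h
    · exact h.le.trans le_normalizer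
    · exact (commutator_eq_bot_iff_le_centralizer.1 h).trans (centralizer_le_normalizer' F)
  · intro g hg
    rw [mem_normalizer_iff_map_conj_eq]
    show (⨆ a : ↥J, F.map (cj (a : G))).map (cj g) = _
    rw [Subgroup.map_iSup]
    refine le_antisymm (iSup_le fun a => ?_) (iSup_le fun a => ?_)
    · refine le_iSup_of_le (⟨g, hg⟩ * a) (le_of_eq ?_)
      rw [map_map]
      congr 1
      ext x
      simp [MulAut.conj_apply, mul_assoc]
    · refine le_iSup_of_le (⟨g, hg⟩⁻¹ * a) (le_of_eq ?_)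
      rw [map_map]
      congr 1
      ext x
      simp [MulAut.conj_apply, mul_assoc]

section Step

variable (hE : BlockSetting S E) (sE : E.IsSubnormal) (hF : BlockSetting T F) (sF : F.IsSubnormal)
variable (IH : PairIH p (Nat.card ↥(E ⊔ F)) G)
include hE sE hF sF IH

theorem commute_conj {f : G} (hf : f ∈ F) (hfE : f ∉ normalizer (E : Set G)) :
    ∀ e ∈ E, ∀ x ∈ E.map (cj f), Commute e x := by
  intro e he x hx
  rcases conj_pair hE sE (le_sup_left : E ≤ E ⊔ F) IH (one_mem _) (mem_sup_right hf) with h | h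
  · exfalso
    refine hfE (mem_normalizer_iff_map_conj_eq.2 ?_)
    show E.map (cj f) = E
    rw [← h]; ext y; simp [Subgroup.mem_map, MulAut.conj_apply]
  · refine commutatorElement_eq_one_iff_mul_comm.1 (mem_bot.1 (h ▸ commutator_mem_commutator ?_ hx))
    exact ⟨e, he, by simp [MulAut.conj_apply]⟩

/-- A moved block is small. -/
theorem moved_small {f : G} (hf : f ∈ F) (hfE : f ∉ normalizer (E : Set G)) : IsSmall p E := by
  refine (kernel_and_type hE).2.resolve_left fun hpE => ?_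
  have key : ∀ M : Subgroup G, F ≤ M → E ≤ normalizer (M : Set G) → E ≤ M := fun M hFM hEM => by
    conv_lhs => rw [← hpE.1]
    refine commutator_le.2 fun a ha b hb => ?_
    have hg : f * a⁻¹ * f⁻¹ * a ∈ M := by
      rw [show f * a⁻¹ * f⁻¹ * a = f * (a⁻¹ * f⁻¹ * a) by group]
      exact mul_mem (hFM hf) ((mem_normalizer_iff''.1 (hEM ha) _).1 (inv_mem (hFM hf)))
    have hc : Commute b (f * a * f⁻¹) := commute_conj hE sE hF sF IH hf hfE b hb _ ⟨a, ha, rfl⟩
    set g := f * a⁻¹ * f⁻¹ * a with hgdef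
    have e : ⁅a, b⁆ = g * b * g⁻¹ * b⁻¹ := by
      rw [hgdef]
      have hc' : Commute (f * a⁻¹ * f⁻¹) (a * b * a⁻¹) := by
        have h1 : a * b * a⁻¹ ∈ E := E.mul_mem (E.mul_mem ha hb) (E.inv_mem ha)
        exact (commute_conj hE sE hF sF IH hf hfE _ h1 _ ⟨a⁻¹, E.inv_mem ha, rfl⟩).symm
      calc ⁅a, b⁆ = a * b * a⁻¹ * b⁻¹ := rfl
        _ = (f * a⁻¹ * f⁻¹) * (a * b * a⁻¹) * (f * a⁻¹ * f⁻¹)⁻¹ * b⁻¹ := by rw [hc'.eq, mul_inv_cancel_right]
        _ = _ := by group
    rw [e, show g * b * g⁻¹ * b⁻¹ = g * (b * g⁻¹ * b⁻¹) by group]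
    exact mul_mem hg ((mem_normalizer_iff.1 (hEM hb) _).1 (inv_mem hg))
  obtain ⟨hM1, hM2, hM3⟩ := conjClosure_facts (J := E ⊔ F) (F := F) fun a ha b hb =>
    conj_pair hF sF (le_sup_right : F ≤ E ⊔ F) IH ha hb
  have hEF : E ≤ normalizer (F : Set G) := (key _ hM3 (le_sup_left.trans hM2)).trans hM1
  have hle : E ≤ F := key F le_rfl hEF
  rcases (kernel_and_type hF).2 with hpF | hsF
  · rcases (sE.subgroupOf (K := F)).lt_normal with htop | ⟨K, hKn, hEK, hKtop⟩
    · exact hfE ((subgroupOf_eq_top.1 htop).trans le_normalizer hf)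
    have hEN : E ≤ K.map F.subtype := fun e he => ⟨⟨e, hle he⟩, hEK (mem_subgroupOf.2 he), rfl⟩
    have hFN : F ≤ normalizer ((K.map F.subtype : Subgroup G) : Set G) := fun x hx =>
      LAE62.mem_normalizer_of_conj_mem fun _ ⟨k, hk, hk'⟩ =>
        ⟨⟨x, hx⟩ * k * (⟨x, hx⟩ : ↥F)⁻¹, hKn.conj_mem _ hk _, by rw [← hk']; rfl⟩
    rcases hpF.2 _ (map_subtype_le _) hFN with h | h
    · exact hKtop.ne (map_injective F.subtype_injective (by rw [h, ← MonoidHom.range_eq_map, range_subtype]))
    · refine not_isPGroup hE (Qc_isPGroup.to_le (?_ : E ≤ Qc p F))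
      conv_lhs => rw [← hpE.1]
      exact (commutator_mono hEN hle).trans h
  · exact not_perfect_le_small hF sF hE hpE hsF hle

/-- No block is moved. -/
theorem not_moved : F ≤ normalizer (E : Set G) := by
  intro f hf
  by_contra hfE
  have hsE := moved_small hE sE hF sF IH hf hfE
  rcases (kernel_and_type hF).2 with hpF | hsF
  · -- `E` normalizes `F`
    have hEF : E ≤ normalizer (F : Set G) := by
      intro e he
      by_contra he'
      have hsF := moved_small hF sF hE sE (by rwa [sup_comm]) he he'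
      exact not_perfect_le_small hF sF hF hpF hsF le_rfl
    obtain ⟨hM1, hM2, hM3⟩ := conjClosure_facts (J := E ⊔ F) (F := E) fun a ha b hb =>
      conj_pair hE sE (le_sup_left : E ≤ E ⊔ F) IH ha hb
    set M := ⨆ a : ↥(E ⊔ F), E.map (cj (a : G))
    rcases hpF.2 (F ⊓ M) inf_le_left ((le_inf le_normalizer (le_sup_right.trans hM2)).trans
      inf_normalizer_le_normalizer_inf) with h | h
    · exact hfE ((h.ge.trans inf_le_right).trans hM1 hf)
    have hle : ⁅E, F⁆ ≤ F ⊓ M := le_inf (by rw [commutator_comm]; exact Modules.commutator_le_of_normalizes hEF)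
      ((commutator_mono hM3 le_rfl).trans (Modules.commutator_le_of_normalizes (le_sup_right.trans hM2)))
    have hP := commutator_le_pCore_of_central hE sE hF sF hpF hEF h hle
    have hmap : E.map (cj f) ≤ E := le_of_le_sup hE (by rw [← map_pResidualOf', hE.block.1]) (by
      rintro _ ⟨e, he, rfl⟩
      rw [cj_apply, show f * e * f⁻¹ = ⁅e, f⁆⁻¹ * e by simp only [commutatorElement_def]; group, sup_comm]
      exact mul_mem_sup (inv_mem (hP (commutator_mem_commutator he hf))) he)
    exact hfE (LAE62.mem_normalizer_of_conj_mem fun e he => hmap ⟨e, he, rfl⟩)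
  -- both small
  have hcc := commute_conj hE sE hF sF IH hf hfE
  have hθmem : ∀ g ∈ F, ∀ y ∈ WE p E, ⁅g, y⁆ ∈ WE p F := fun g hg y hy =>
    comm_Z1_mem hF sF hg (WE_le_Z1 hE hy)
  have hfix1 : ∀ {x : G}, x ∈ WE p E → (∀ e ∈ E, Commute e x) → x = 1 := fun hx hc =>
    mem_bot.1 (hsE.fix ▸ ⟨hx, mem_centralizer_iff.2 hc⟩)
  have hfix2 : ∀ g ∈ E ⊔ F, ∀ {x : G}, x ∈ WE p E → (∀ e ∈ E.map (cj g), Commute e (g * x * g⁻¹)) → x = 1 :=
    fun g _ x hx hc => hfix1 hx fun e he => by
      have h := (hc _ ⟨e, he, rfl⟩).map (MulAut.conj g⁻¹).toMonoidHom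
      simpa [MulAut.conj_apply, mul_assoc] using h
  let θ : ↥(WE p E) → ↥(WE p F) := fun y => ⟨⁅f, (y : G)⁆, hθmem f hf y y.2⟩
  have hθ : Function.Injective θ := fun y y' h => by
    have h' : ⁅f, (y : G)⁆ = ⁅f, (y' : G)⁆ := congrArg Subtype.val h
    set u : G := (y : G)⁻¹ * (y' : G) with hu
    have huY : u ∈ WE p E := mul_mem (inv_mem y.2) y'.2
    have hfu : f * u * f⁻¹ = u := by
      have e1 : f * (y : G) * f⁻¹ = ⁅f, (y : G)⁆ * y := by simp only [commutatorElement_def]; group
      have e2 : f * (y' : G) * f⁻¹ = ⁅f, (y : G)⁆ * y' := by rw [h']; simp only [commutatorElement_def]; group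
      calc f * u * f⁻¹ = (f * (y : G) * f⁻¹)⁻¹ * (f * (y' : G) * f⁻¹) := by rw [hu]; group
        _ = u := by rw [e1, e2, hu]; group
    have hu1 : u = 1 := hfix1 huY fun e he => hcc e he u ⟨u, WE_le_E hE huY, hfu⟩
    exact Subtype.ext (inv_mul_eq_one.1 hu1)
  have hθsurj : ∀ u ∈ WE p F, ∃ y ∈ WE p E, ⁅f, y⁆ = u := fun u hu => by
    obtain ⟨y, hy⟩ := ((Nat.bijective_iff_injective_and_card θ).2 ⟨hθ, by rw [hsE.cardY, hsF.cardY]⟩).2 ⟨u, hu⟩
    exact ⟨y, y.2, congrArg Subtype.val hy⟩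
  have horb : ∀ g ∈ F, E.map (cj g) = E ∨ E.map (cj g) = E.map (cj f) := by
    intro g hg
    by_contra hcon
    push Not at hcon
    obtain ⟨h1, h2⟩ := hcon
    have hgE : g ∉ normalizer (E : Set G) := fun h => h1 (mem_normalizer_iff_map_conj_eq.1 h)
    have hcg := commute_conj hE sE hF sF IH hg hgE
    have hcfg : ⁅E.map (cj g), E.map (cj f)⁆ = ⊥ :=
      (conj_pair hE sE (le_sup_left : E ≤ E ⊔ F) IH (mem_sup_right hg) (mem_sup_right hf)).resolve_left h2
    obtain ⟨y, hy, hy1⟩ : ∃ y ∈ WE p E, y ≠ 1 := by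
      by_contra hall
      push Not at hall
      exact WE_not_le_centralizer hE fun y hy => by rw [hall y hy]; exact one_mem _
    obtain ⟨y', hy', hyy⟩ := hθsurj _ (hθmem g hg y hy)
    refine hy1 (hfix2 g (mem_sup_right hg) hy fun e he => ?_)
    have c1 : Commute e y := (hcg y (WE_le_E hE hy) e he).symm
    have c2 : Commute e y' := (hcg y' (WE_le_E hE hy') e he).symm
    have c3 : Commute e (f * y' * f⁻¹) := commutatorElement_eq_one_iff_mul_comm.1
      (mem_bot.1 (hcfg ▸ commutator_mem_commutator he ⟨y', WE_le_E hE hy', rfl⟩))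
    rw [show g * y * g⁻¹ = ⁅g, y⁆ * y by simp only [commutatorElement_def]; group, ← hyy, commutatorElement_def]
    exact (c3.mul_right c2.inv_right).mul_right c1
  set K := F ⊓ normalizer (E : Set G) with hK
  have hKc : ∀ k ∈ K, ∀ y ∈ WE p E, ⁅k, y⁆ = 1 := by
    intro k hk y hy
    have h1 : ⁅k, y⁆ ∈ WE p E := by
      rw [commutatorElement_def]
      exact (WE p E).mul_mem ((mem_normalizer_iff.1 (normalizer_le_normalizer_module p E hk.2) _).1 hy)
        ((WE p E).inv_mem hy)
    obtain ⟨y', hy', hyy⟩ := hθsurj _ (hθmem k hk.1 y hy)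
    have hx : f * y' * f⁻¹ ∈ E := by
      rw [show f * y' * f⁻¹ = ⁅f, y'⁆ * y' by simp only [commutatorElement_def]; group, hyy]
      exact E.mul_mem (WE_le_E hE h1) (WE_le_E hE hy')
    have h0 : y' = 1 := hfix2 f (mem_sup_right hf) hy' fun e he => (hcc _ hx e he).symm
    rw [← hyy, h0, commutatorElement_one_right]
  have hKQ : K ≤ Qc p F := fun k hk => by
    refine kernel hF hk.1 (mem_centralizer_iff.2 fun u hu => ?_)
    obtain ⟨y, hy, rfl⟩ := hθsurj u hu
    have hk' : f⁻¹ * k * f ∈ K := by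
      refine ⟨F.mul_mem (F.mul_mem (F.inv_mem hf) hk.1) hf, mem_normalizer_iff_map_conj_eq.2 ?_⟩
      show E.map (cj (f⁻¹ * k * f)) = E
      rcases horb (k * f) (F.mul_mem hk.1 hf) with h | h
      · exfalso
        refine hfE ?_
        have hkf : k * f ∈ normalizer (E : Set G) := mem_normalizer_iff_map_conj_eq.2 h
        simpa using Subgroup.mul_mem (normalizer (E : Set G)) (Subgroup.inv_mem (normalizer (E : Set G)) hk.2) hkf
      · have e : ∀ a b : G, E.map (cj (a * b)) = (E.map (cj b)).map (cj a) := fun a b => by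
          rw [map_map]; congr 1; ext x; simp [MulAut.conj_apply, mul_assoc]
        rw [mul_assoc, e, h, map_map]
        ext x
        simp [Subgroup.mem_map, MulAut.conj_apply, mul_assoc]
    have c1 : Commute k y := commutatorElement_eq_one_iff_mul_comm.1 (hKc k hk y hy)
    have c2 : Commute k (f * y * f⁻¹) := by
      have h := Commute.map (commutatorElement_eq_one_iff_mul_comm.1 (hKc _ hk' y hy) : Commute (f⁻¹ * k * f) y)
        (MulAut.conj f).toMonoidHom
      simpa [MulAut.conj_apply, mul_assoc] using h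
    have c3 : Commute k ⁅f, y⁆ := by
      rw [commutatorElement_def]; exact c2.mul_right c1.inv_right
    exact c3.eq.symm
  have htwo : ∀ a ∈ F, ∀ b ∈ F, a ∉ K → b ∉ K → a⁻¹ * b ∈ K := by
    intro a ha b hb haK hbK
    have ha' : E.map (cj a) = E.map (cj f) := (horb a ha).resolve_left fun h =>
      haK ⟨ha, mem_normalizer_iff_map_conj_eq.2 h⟩
    have hb' : E.map (cj b) = E.map (cj f) := (horb b hb).resolve_left fun h =>
      hbK ⟨hb, mem_normalizer_iff_map_conj_eq.2 h⟩
    refine ⟨F.mul_mem (F.inv_mem ha) hb, mem_normalizer_iff_map_conj_eq.2 ?_⟩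
    show E.map (cj (a⁻¹ * b)) = E
    have e : E.map (cj (a⁻¹ * b)) = (E.map (cj b)).map (cj a⁻¹) := by
      rw [map_map]; congr 1; ext x; simp [MulAut.conj_apply, mul_assoc]
    rw [e, hb', ← ha', map_map]
    ext x
    simp [Subgroup.mem_map, MulAut.conj_apply, mul_assoc]
  have hQK : Qc p F ≤ K := le_inf Qc_le ((Qc_le_pCore hF sF).trans (pCore_le_normalizer_E hE))
  refine hfE ((le_of_two_cosets hF hsF hQK inf_le_left htwo fun _ => ?_).trans inf_le_right hf)
  rw [le_antisymm hKQ hQK]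
  exact (B_le_normalizer hF).trans (LocalP.normalizer_le_normalizer_pCoreOf F)

end Step

/-- Two subnormal blocks are equal or commute. -/
theorem pair_eq_or_commute : ∀ (n : ℕ), PairIH p n G := by
  intro n
  induction n using Nat.strong_induction_on with
  | _ n IH =>
    rintro A B ⟨S, hA⟩ sA ⟨T, hB⟩ sB hlt
    refine normal_pair hA sA hB sB ?_ ?_
    · exact not_moved hB sB hA sA (by rw [sup_comm]; exact IH _ hlt)
    · exact not_moved hA sA hB sB (IH _ hlt)

end Cfsg.Agent.LAE79
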