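import Mathlib
import Cfsg.Agent.LAE79.BlockPair

/-!
Elements normalizing a block and fixing its module modulo the fixed points of the block.
-/

set_option autoImplicit false

open Subgroup
open scoped commutatorElement

namespace Cfsg.Agent.LAE79

open LAE62.BlockCent LAE62.Baumann

variable {G : Type*} [Group G] [Finite G] {p : ℕ} [hp : Fact p.Prime]
variable {S : Sylow p G} {E : Subgroup G} (hE : BlockSetting S E)
include hE

theorem WE_isPGroup : IsPGroup p (WE p E) := Cores.pCore_isPGroup.to_le (WE_le_pCore hE)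

omit hp hE in
theorem normalizer_le_normalizer_centralizer (A : Subgroup G) :
    normalizer (A : Set G) ≤ normalizer ((centralizer (A : Set G) : Subgroup G) : Set G) :=
  Modules.normalizes_centralizer le_rfl

/-- An element of the block trivial on the module modulo fixed points is in `O_p`. -/
theorem mem_Qc_of_trivial {x : G} (hx : x ∈ E) (hc : ∀ y ∈ WE p E, ⁅x, y⁆ ∈ centralizer (E : Set G)) :
    x ∈ Qc p E := by
  have hEC : E ≤ normalizer ((centralizer (E : Set G) : Subgroup G) : Set G) :=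
    le_normalizer.trans (normalizer_le_normalizer_centralizer E)
  let X : Subgroup G :=
    { carrier := {x | x ∈ E ∧ ∀ y ∈ WE p E, ⁅x, y⁆ ∈ centralizer (E : Set G)}
      one_mem' := ⟨E.one_mem, fun y _ => by rw [commutatorElement_one_left]; exact one_mem _⟩
      mul_mem' := by
        rintro a b ⟨ha, ha'⟩ ⟨hb, hb'⟩
        refine ⟨E.mul_mem ha hb, fun y hy => ?_⟩
        rw [show ⁅a * b, y⁆ = a * ⁅b, y⁆ * a⁻¹ * ⁅a, y⁆ by simp only [commutatorElement_def]; group]
        exact mul_mem ((mem_normalizer_iff.1 (hEC ha) _).1 (hb' y hy)) (ha' y hy)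
      inv_mem' := by
        rintro a ⟨ha, ha'⟩
        refine ⟨E.inv_mem ha, fun y hy => ?_⟩
        rw [show ⁅a⁻¹, y⁆ = a⁻¹ * ⁅a, y⁆⁻¹ * a by simp only [commutatorElement_def]; group]
        exact (mem_normalizer_iff''.1 (hEC ha) _).1 (inv_mem (ha' y hy)) }
  refine le_pCoreOf (E := E) (Y := X) (fun a ha => ha.1) (fun e he => ?_) ?_ ⟨hx, hc⟩
  · refine LAE62.mem_normalizer_of_conj_mem fun a ha => ⟨E.mul_mem (E.mul_mem he ha.1) (E.inv_mem he), fun y hy => ?_⟩
    rw [show ⁅e * a * e⁻¹, y⁆ = e * ⁅a, e⁻¹ * y * e⁆ * e⁻¹ by simp only [commutatorElement_def]; group]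
    exact (mem_normalizer_iff.1 (hEC he) _).1 (ha.2 _ ((mem_normalizer_iff''.1 (E_le_L he) _).1 hy))
  · rintro ⟨a, ha, ha'⟩
    have h1 : a ^ p ∈ Qc p E := by
      refine kernel hE (E.pow_mem ha p) (mem_centralizer_iff.2 fun y hy => ?_)
      have hm : ⁅a, y⁆ ∈ WE p E := by
        rw [commutatorElement_def]
        exact mul_mem ((mem_normalizer_iff.1 (E_le_L ha) _).1 hy) (inv_mem hy)
      have hk := LocalP.conj_pow_eq_of_commute (x := a) (r := y) (c := ⁅a, y⁆)
        (by simp only [commutatorElement_def]; group) ((mem_centralizer_iff.1 (ha' y hy)) a ha) p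
      rw [omegaOneCenter_pow (WE_le_Wc hE hm), one_mul, mul_inv_eq_iff_eq_mul] at hk
      exact hk.symm
    obtain ⟨k, hk⟩ := Qc_isPGroup (p := p) ⟨_, h1⟩
    refine ⟨1 + k, Subtype.ext ?_⟩
    have hk' : (a ^ p) ^ p ^ k = 1 := by simpa using congrArg Subtype.val hk
    show a ^ p ^ (1 + k) = 1
    rw [pow_add, pow_one, pow_mul, hk']

/-- An element normalizing the block and fixing the module modulo fixed points fixes the module. -/
theorem trivial_mod_fixed {g : G} (hg : g ∈ normalizer (E : Set G))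
    (hc : ∀ y ∈ WE p E, ⁅g, y⁆ ∈ centralizer (E : Set G)) : g ∈ centralizer (WE p E : Set G) := by
  have hgY : g ∈ normalizer (WE p E : Set G) := normalizer_le_normalizer_module p E hg
  set K := WE p E ⊓ centralizer (E : Set G) with hK
  have hgK : g ∈ normalizer (K : Set G) := normalizer_le_normalizer_fixed E hg
  have hEK : E ≤ normalizer (K : Set G) := le_normalizer.trans (normalizer_le_normalizer_fixed E)
  have hcK : ∀ y ∈ WE p E, ⁅g, y⁆ ∈ K := fun y hy => ⟨by
    rw [commutatorElement_def]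
    exact (WE p E).mul_mem ((mem_normalizer_iff.1 hgY _).1 hy) ((WE p E).inv_mem hy), hc y hy⟩
  have hcomm : ∀ {a b : G}, a ∈ WE p E → b ∈ WE p E → a * b = b * a := fun ha hb =>
    omegaOneCenter_comm (WE_le_Wc hE ha) (WE_le_Wc hE hb)
  have hgy : ∀ y ∈ WE p E, ∃ k ∈ K, g * y * g⁻¹ = y * k := fun y hy => ⟨⁅g, y⁆, hcK y hy, by
    rw [hcomm hy (hcK y hy).1, commutatorElement_def]; group⟩
  have hq : ∀ e ∈ E, e⁻¹ * (g * e * g⁻¹) ∈ Qc p E := by
    intro e he
    have heE : g * e * g⁻¹ ∈ E := (mem_normalizer_iff.1 hg e).1 he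
    refine mem_Qc_of_trivial hE (E.mul_mem (E.inv_mem he) heE) fun y hy => ?_
    obtain ⟨k1, hk1, h1⟩ := hgy (g⁻¹ * y * g) ((mem_normalizer_iff''.1 hgY _).1 hy)
    have h1' : g⁻¹ * y * g = y * k1⁻¹ := by
      rw [eq_mul_inv_iff_mul_eq, ← h1]; group
    have hey : e * y * e⁻¹ ∈ WE p E := (mem_normalizer_iff.1 (E_le_L he) _).1 hy
    obtain ⟨k2, hk2, h2⟩ := hgy _ hey
    set k3 := g * (e * k1⁻¹ * e⁻¹) * g⁻¹ with hk3
    have hk3' : k3 ∈ K := (mem_normalizer_iff.1 hgK _).1 ((mem_normalizer_iff.1 (hEK he) _).1 (inv_mem hk1))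
    set e' := g * e * g⁻¹ with he'
    have h3 : e' * y * e'⁻¹ = e * y * e⁻¹ * (k2 * k3) := by
      calc e' * y * e'⁻¹ = g * (e * (g⁻¹ * y * g) * e⁻¹) * g⁻¹ := by rw [he']; group
        _ = g * (e * y * e⁻¹) * g⁻¹ * k3 := by rw [h1', hk3]; group
        _ = _ := by rw [h2, mul_assoc]
    have h4 : ⁅e⁻¹ * e', y⁆ = y * (e⁻¹ * (k2 * k3) * e) * y⁻¹ := by
      calc ⁅e⁻¹ * e', y⁆ = e⁻¹ * (e' * y * e'⁻¹) * e * y⁻¹ := by simp only [commutatorElement_def]; group
        _ = _ := by rw [h3]; group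
    have h5 : e⁻¹ * (k2 * k3) * e ∈ K := (mem_normalizer_iff''.1 (hEK he) _).1 (mul_mem hk2 hk3')
    rw [h4, hcomm hy h5.1, mul_inv_cancel_right]
    exact h5.2
  have hle : ⁅WE p E, E⁆ ≤ centralizer ({g} : Set G) := commutator_le.2 fun y hy e he => by
    obtain ⟨k, hk, hky⟩ := hgy y hy
    set q := e⁻¹ * (g * e * g⁻¹) with hq'
    have h : g * ⁅y, e⁆ * g⁻¹ = ⁅y, e⁆ := by
      rw [show g * ⁅y, e⁆ * g⁻¹ = ⁅g * y * g⁻¹, g * e * g⁻¹⁆ by simp only [commutatorElement_def]; group, hky,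
        show g * e * g⁻¹ = e * q by rw [hq']; group]
      exact comm_mul_central (mem_centralizer_iff.1 hk.2 e he)
        ((mem_centralizer_iff.1 (Qc_le_centralizer_WE hE (hq e he))) y hy)
        (mem_centralizer_iff.1 (Qc_le_centralizer_WE hE (hq e he)) k hk.1)
    exact mem_centralizer_singleton_iff.2 (mul_inv_eq_iff_eq_mul.1 h).symm
  rw [commutator_WE hE] at hle
  exact mem_centralizer_iff.2 fun y hy => (mem_centralizer_singleton_iff.1 (hle hy))

end Cfsg.Agent.LAE79
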