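import Mathlib
import Cfsg.Agent.LAE79.BlockModuleFix

/-!
The module of a symmetric block: no fixed points, and the automizer of the block on it.
-/

set_option autoImplicit false

open Subgroup
open scoped commutatorElement IsMulCommutative

namespace Cfsg.Agent.LAE79

open LAE62.BlockCent LAE62.Baumann

variable {G : Type*} [Group G] [Finite G] {p : ℕ} [hp : Fact p.Prime]
variable {S : Sylow p G} {E : Subgroup G}

/-- The even permutations fixing a point are generated by three-cycles fixing it. -/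
theorem stab_le_closure {α : Type*} [Fintype α] [DecidableEq α] {o : α} {σ : Equiv.Perm α}
    (hσ : σ ∈ alternatingGroup α) (ho : σ o = o) :
    σ ∈ closure {τ : Equiv.Perm α | τ.IsThreeCycle ∧ τ o = o} := by
  have hs : ∀ x, σ x ≠ o ↔ x ≠ o := fun x => not_congr
    ⟨fun h => σ.injective (h.trans ho.symm), fun h => by rw [h, ho]⟩
  set σ' : Equiv.Perm {x // x ≠ o} := σ.subtypePerm hs
  have hof : Equiv.Perm.ofSubtype σ' = σ := Equiv.Perm.ofSubtype_subtypePerm hs fun x hx h => hx (by rw [h, ho])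
  have h' : σ' ∈ alternatingGroup {x // x ≠ o} := by
    rw [Equiv.Perm.mem_alternatingGroup, ← Equiv.Perm.sign_ofSubtype, hof]
    exact Equiv.Perm.mem_alternatingGroup.1 hσ
  rw [← Equiv.Perm.closure_three_cycles_eq_alternating] at h'
  rw [← hof]
  have h2 := mem_map_of_mem (Equiv.Perm.ofSubtype (p := fun x => x ≠ o)) h'
  rw [MonoidHom.map_closure] at h2
  refine closure_mono ?_ h2
  rintro _ ⟨τ, hτ, rfl⟩
  refine ⟨?_, Equiv.Perm.ofSubtype_apply_of_not_mem τ (by simp)⟩
  show (Equiv.Perm.ofSubtype τ).cycleType = _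
  rw [Equiv.Perm.cycleType_ofSubtype]
  exact hτ

/-- The vector missing one coordinate. -/
def almostOnes {n : ℕ} (i : Fin n) : Fin n → ZMod 2 := fun x => if x = i then 0 else 1

theorem almostOnes_even {m : ℕ} (i : Fin (2 * m + 1)) : ∑ x, almostOnes i x = 0 := by
  have h : ∀ x, almostOnes i x = 1 + (Pi.single i 1 : Fin (2 * m + 1) → ZMod 2) x := fun x => by
    by_cases hx : x = i <;> simp [almostOnes, hx, Pi.single_apply, CharTwo.add_self_eq_zero]
  simp only [h, Finset.sum_add_distrib, Finset.sum_pi_single', Finset.mem_univ, if_true, Finset.sum_const,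
    Finset.card_univ, Fintype.card_fin, nsmul_eq_mul, mul_one]
  have h2 : (2 : ZMod 2) = 0 := by decide
  push_cast
  linear_combination ((m : ZMod 2) + 1) * h2

theorem zmod_two_cases : ∀ a : ZMod 2, a = 0 ∨ a = 1 := by decide

theorem zmod_two_ne : (0 : ZMod 2) ≠ 1 ∧ (1 : ZMod 2) ≠ 0 := by decide

variable (hE : BlockSetting S E)
include hE

theorem perm_module {m : ℕ} (hp2 : p = 2)
    (hact : Cfsg.ActsAsOddPermModuleOnSection (2 * m + 1) (alternatingGroup (Fin (2 * m + 1))) E
      (Wc p E) (Wc p E ⊓ centralizer (E : Set G))) :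
    WE p E ⊓ centralizer (E : Set G) = ⊥ ∧
      ⁅normalizer (E : Set G), normalizer (E : Set G)⁆ ≤ E ⊔ centralizer (WE p E : Set G) := by
  classical
  subst hp2
  obtain ⟨-, -, ρ, ψ, hρ, hev, hψ, hker, hactw⟩ := hact
  haveI : IsMulCommutative ↥(WE 2 E) :=
    ⟨⟨fun a b => Subtype.ext (omegaOneCenter_comm (WE_le_Wc hE a.2) (WE_le_Wc hE b.2))⟩⟩
  let χ : ↥(WE 2 E) →* Multiplicative (Fin (2 * m + 1) → ZMod 2) := ψ.comp (inclusion (WE_le_Wc hE))
  have hχker : ∀ y, χ y = 1 ↔ (y : G) ∈ centralizer (E : Set G) := fun y =>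
    (hker _).trans ⟨fun h => h.2, fun h => ⟨WE_le_Wc hE y.2, h⟩⟩
  have hχsurj : ∀ c : Fin (2 * m + 1) → ZMod 2, ∑ i, c i = 0 → ∃ y, Multiplicative.toAdd (χ y) = c := by
    intro c hc
    obtain ⟨w, rfl⟩ := hψ c hc
    obtain ⟨y, hy, hz⟩ := WE_decomp hE w.2
    refine ⟨⟨y, hy⟩, congrArg _ ?_⟩
    rw [← inv_mul_eq_one]
    show (ψ ⟨y, WE_le_Wc hE hy⟩)⁻¹ * ψ w = 1
    rw [← map_inv, ← map_mul, hker]
    exact hz
  have hmemY : ∀ g ∈ normalizer (E : Set G), ∀ y : ↥(WE 2 E), g * y * g⁻¹ ∈ WE 2 E := fun g hg y =>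
    (mem_normalizer_iff.1 (normalizer_le_normalizer_module 2 E hg) _).1 y.2
  have hχact : ∀ (e : ↥E) (y : ↥(WE 2 E)) i,
      Multiplicative.toAdd (χ ⟨_, hmemY _ (le_normalizer e.2) y⟩) i = Multiplicative.toAdd (χ y) ((ρ e)⁻¹ i) := by
    intro e y i
    obtain ⟨w, hw, hw'⟩ := hactw e (inclusion (WE_le_Wc hE) y)
    have : inclusion (WE_le_Wc hE) (⟨_, hmemY _ (le_normalizer e.2) y⟩ : ↥(WE 2 E)) = w := Subtype.ext hw.symm
    show Multiplicative.toAdd (ψ _) i = _
    rw [this, hw']
    rfl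
  have hQ : ∀ e : ↥E, ρ e = 1 → (e : G) ∈ centralizer (WE 2 E : Set G) := fun e he =>
    Qc_le_centralizer_WE hE (mem_Qc_of_trivial hE e.2 fun y hy => by
      have h1 : χ ⟨_, hmemY _ (le_normalizer e.2) ⟨y, hy⟩⟩ = χ ⟨y, hy⟩ :=
        Multiplicative.toAdd.injective (funext fun i => by rw [hχact e ⟨y, hy⟩ i, he]; rfl)
      rw [← mul_inv_eq_one, ← map_inv, ← map_mul] at h1
      exact (hχker _).1 h1)
  have hm : 1 ≤ m := by
    by_contra hm0
    refine WE_not_le_centralizer hE (le_centralizer_iff.1 fun e he => hQ ⟨e, he⟩ ?_)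
    haveI : Subsingleton (Fin (2 * m + 1)) := Fin.subsingleton_iff_le_one.2 (by omega)
    exact Subsingleton.elim _ _
  -- the base vector
  let o : Fin (2 * m + 1) := 0
  obtain ⟨y₀, hy₀⟩ := hχsurj _ (almostOnes_even o)
  have hvinj : ∀ {i j : Fin (2 * m + 1)}, almostOnes i = almostOnes j → i = j := fun {i j} h => by
    by_contra hij
    have := congrFun h i
    simp [almostOnes, hij] at this
  have hstab : ∀ f : ↥E, ρ f o = o → (f : G) * y₀ * (f : G)⁻¹ = y₀ := by
    set St : Subgroup ↥E := (centralizer ({(y₀ : G)} : Set G)).subgroupOf E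
    have hker' : ρ.ker ≤ St := fun f hf => mem_subgroupOf.2 (mem_centralizer_singleton_iff.2
      (mem_centralizer_iff.1 (hQ f hf) _ y₀.2).symm)
    have hcyc : ∀ τ : Equiv.Perm (Fin (2 * m + 1)), τ.IsThreeCycle → τ o = o → τ ∈ St.map ρ := by
      intro τ hτ hτo
      obtain ⟨f, rfl⟩ : τ ∈ ρ.range := hρ.ge hτ.mem_alternatingGroup
      obtain ⟨k, hk, j, rfl⟩ := commute_pow_of_quotient (p := 2) (f : G)
      have hco : Nat.Coprime (2 ^ j) (orderOf (ρ f)) := by
        rw [hτ.orderOf]; exact Nat.Coprime.pow_left _ (by norm_num)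
      obtain ⟨i, hi⟩ := exists_pow_eq_self_of_coprime hco
      refine ⟨(f ^ 2 ^ j) ^ i, St.pow_mem ?_ i, by rw [map_pow, map_pow, hi]⟩
      set f' := f ^ 2 ^ j
      have hfix : (ρ f')⁻¹ o = o := by
        rw [Equiv.Perm.inv_eq_iff_eq, map_pow]
        exact (Equiv.Perm.pow_apply_eq_self_of_apply_eq_self hτo _).symm
      have h1 : χ ⟨_, hmemY _ (le_normalizer f'.2) y₀⟩ = χ y₀ := Multiplicative.toAdd.injective (funext fun x => by
        rw [hχact f' y₀ x, hy₀]
        have hiff : (ρ f')⁻¹ x = o ↔ x = o :=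
          ⟨fun h => (ρ f')⁻¹.injective (h.trans hfix.symm), fun h => by rw [h, hfix]⟩
        simp only [almostOnes, hiff])
      rw [← mul_inv_eq_one, ← map_inv, ← map_mul] at h1
      have h2 : ⁅(f' : G), (y₀ : G)⁆ ∈ centralizer (E : Set G) := (hχker _).1 h1
      refine mem_subgroupOf.2 (mem_centralizer_singleton_iff.2 (commutatorElement_eq_one_iff_mul_comm.1
        (comm_eq_one_of_coprime (WE_isPGroup hE) (c := (f' : G)) ?_ ?_ (mem_centralizer_iff.1 h2 _ f'.2))))
      · simpa [f'] using hk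
      · exact (WE 2 E).mul_mem (hmemY _ (le_normalizer f'.2) y₀) ((WE 2 E).inv_mem y₀.2)
    intro f hf
    have h1 : ρ f ∈ St.map ρ := (closure_le _).2 (fun τ hτ => hcyc τ hτ.1 hτ.2)
      (stab_le_closure (hρ.le ⟨f, rfl⟩) hf)
    obtain ⟨s, hs, hsf⟩ := h1
    have h2 : f ∈ St := by
      rw [show f = s * (s⁻¹ * f) by group]
      exact St.mul_mem hs (hker' (by rw [MonoidHom.mem_ker, map_mul, map_inv, hsf, inv_mul_cancel]))
    rw [mul_inv_eq_iff_eq_mul]
    exact mem_centralizer_singleton_iff.1 (mem_subgroupOf.1 h2)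
  have hrep : ∀ i, ∃ g : ↥E, ρ g o = i := by
    intro i
    by_cases hi : i = o
    · exact ⟨1, by rw [map_one, hi]; rfl⟩
    obtain ⟨k, hk⟩ : ∃ k, k ∉ ({o, i} : Finset (Fin (2 * m + 1))) := by
      by_contra h
      push Not at h
      have h2 : (Finset.univ : Finset (Fin (2 * m + 1))).card ≤ 2 :=
        (Finset.card_le_card fun x _ => h x).trans Finset.card_le_two
      rw [Finset.card_univ, Fintype.card_fin] at h2
      omega
    simp only [Finset.mem_insert, Finset.mem_singleton, not_or] at hk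
    obtain ⟨g, hg⟩ : Equiv.swap o k * Equiv.swap o i ∈ ρ.range := by
      rw [hρ, Equiv.Perm.mem_alternatingGroup, map_mul, Equiv.Perm.sign_swap (Ne.symm hk.1),
        Equiv.Perm.sign_swap (Ne.symm hi)]
      rfl
    refine ⟨g, ?_⟩
    rw [hg, Equiv.Perm.mul_apply, Equiv.swap_apply_left, Equiv.swap_apply_of_ne_of_ne hi (Ne.symm hk.2)]
  choose g hg using hrep
  let y : Fin (2 * m + 1) → ↥(WE 2 E) := fun i => ⟨_, hmemY _ (le_normalizer (g i).2) y₀⟩
  have hequi : ∀ (e : ↥E) i, (e : G) * y i * (e : G)⁻¹ = y (ρ e i) := by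
    intro e i
    set f : ↥E := (g (ρ e i))⁻¹ * e * g i with hf
    have h := hstab f (by rw [hf, map_mul, map_mul, map_inv, Equiv.Perm.mul_apply, Equiv.Perm.mul_apply, hg,
      Equiv.Perm.inv_eq_iff_eq, hg])
    show (e : G) * ((g i : G) * y₀ * (g i : G)⁻¹) * (e : G)⁻¹ = (g (ρ e i) : G) * y₀ * (g (ρ e i) : G)⁻¹
    conv_rhs => rw [← h, hf]
    simp only [Subgroup.coe_mul, InvMemClass.coe_inv]
    group
  have hχy : ∀ i, Multiplicative.toAdd (χ (y i)) = almostOnes i := fun i => funext fun x => by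
    rw [hχact (g i) y₀ x, hy₀]
    have hiff : (ρ (g i))⁻¹ x = o ↔ x = i := by rw [Equiv.Perm.inv_eq_iff_eq, hg]
    simp only [almostOnes, hiff]
  have h01 := zmod_two_cases
  have hsq : ∀ z : ↥(WE 2 E), z * z = 1 := fun z => Subtype.ext (by
    have := omegaOneCenter_pow (WE_le_Wc hE z.2)
    rw [pow_two] at this
    simpa using this)
  let Pr : Multiplicative (Fin (2 * m + 1) → ZMod 2) →* ↥(WE 2 E) :=
    { toFun := fun c => ∏ i, if Multiplicative.toAdd c i = 1 then y i else 1
      map_one' := by simp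
      map_mul' := fun a b => by
        rw [← Finset.prod_mul_distrib]
        refine Finset.prod_congr rfl fun i _ => ?_
        rw [toAdd_mul, Pi.add_apply]
        rcases h01 (Multiplicative.toAdd a i) with h | h <;> rcases h01 (Multiplicative.toAdd b i) with h' | h' <;>
          simp [h, h', hsq, CharTwo.add_self_eq_zero] }
  have hχPr : ∀ c : Fin (2 * m + 1) → ZMod 2, ∑ i, c i = 0 →
      Multiplicative.toAdd (χ (Pr (Multiplicative.ofAdd c))) = c := by
    intro c hc
    show Multiplicative.toAdd (χ (∏ i, _)) = c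
    rw [map_prod, toAdd_prod]
    funext x
    rw [Finset.sum_apply]
    have : ∀ i, Multiplicative.toAdd (χ (if Multiplicative.toAdd (Multiplicative.ofAdd c) i = 1 then y i else 1)) x =
        c i + (if i = x then c x else 0) := fun i => by
      rw [toAdd_ofAdd]
      rcases h01 (c i) with h | h
      · rw [h, if_neg zmod_two_ne.1, map_one, toAdd_one, Pi.zero_apply, zero_add]
        split_ifs with hx
        · rw [← hx, h]
        · rfl
      · rw [h, if_pos rfl, hχy]
        by_cases hx : x = i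
        · subst hx; simp [almostOnes, h, CharTwo.add_self_eq_zero]
        · simp [almostOnes, hx, Ne.symm hx]
    simp only [this, Finset.sum_add_distrib, hc, zero_add, Finset.sum_ite_eq', Finset.mem_univ, if_true]
  let Ev : Subgroup (Multiplicative (Fin (2 * m + 1) → ZMod 2)) :=
    { carrier := {c | ∑ i, Multiplicative.toAdd c i = 0}
      one_mem' := by simp
      mul_mem' := fun {a b} ha hb => by
        simp only [Set.mem_setOf_eq] at ha hb ⊢
        simp [Finset.sum_add_distrib, ha, hb]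
      inv_mem' := fun {a} ha => by
        simp only [Set.mem_setOf_eq] at ha ⊢
        simp [ha] }
  set Y0 : Subgroup G := (Ev.map Pr).map (WE 2 E).subtype
  have hY0 : WE 2 E ≤ Y0 := by
    refine WE_le_of_invariant hE ((map_subtype_le _).trans (WE_le_Wc hE)) (fun e he => ?_) fun hle => ?_
    · refine LAE62.mem_normalizer_of_conj_mem ?_
      rintro _ ⟨_, ⟨c, hc, rfl⟩, rfl⟩
      refine ⟨_, ⟨Multiplicative.ofAdd fun x => Multiplicative.toAdd c ((ρ ⟨e, he⟩)⁻¹ x), ?_, rfl⟩, ?_⟩
      · show ∑ x, Multiplicative.toAdd c ((ρ ⟨e, he⟩)⁻¹ x) = 0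
        exact (Equiv.sum_comp (ρ ⟨e, he⟩)⁻¹ (Multiplicative.toAdd c)).trans hc
      · let cf : ↥(WE 2 E) →* ↥(WE 2 E) := MonoidHom.mk' (fun z => ⟨_, hmemY _ (le_normalizer he) z⟩)
          fun a b => Subtype.ext (show e * ((a : G) * b) * e⁻¹ = e * a * e⁻¹ * (e * b * e⁻¹) by group)
        refine congrArg Subtype.val (a₂ := cf (Pr c)) ?_
        show Pr _ = cf (∏ i, _)
        rw [map_prod]
        refine (Fintype.prod_equiv (ρ ⟨e, he⟩) _ _ fun i => ?_).symm
        rw [toAdd_ofAdd]; simp only [Equiv.Perm.inv_def, Equiv.symm_apply_apply]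
        by_cases hi : Multiplicative.toAdd c i = 1
        · rw [if_pos hi, if_pos hi]; exact Subtype.ext (hequi ⟨e, he⟩ i)
        · rw [if_neg hi, if_neg hi, map_one]
    · have h := hle (show (Pr (Multiplicative.ofAdd (almostOnes o)) : G) ∈ Y0 from
        ⟨_, ⟨_, almostOnes_even o, rfl⟩, rfl⟩)
      have h2 := congrArg Multiplicative.toAdd ((hχker _).2 h)
      rw [hχPr _ (almostOnes_even o)] at h2
      have h3 := congrFun h2 ⟨1, by omega⟩
      simp [almostOnes, o, Fin.ext_iff] at h3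
  have hfix : WE 2 E ⊓ centralizer (E : Set G) = ⊥ := by
    refine eq_bot_iff.2 fun z hz => ?_
    obtain ⟨_, ⟨c, hc, rfl⟩, rfl⟩ := hY0 hz.1
    have h1 := congrArg Multiplicative.toAdd ((hχker _).2 hz.2)
    rw [show c = Multiplicative.ofAdd (Multiplicative.toAdd c) from rfl, hχPr _ hc, toAdd_one] at h1
    have : c = 1 := Multiplicative.toAdd.injective h1
    rw [this, map_one]; exact mem_bot.2 rfl
  refine ⟨hfix, ?_⟩
  have hχinj : Function.Injective χ := (injective_iff_map_eq_one _).2 fun z hz =>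
    Subtype.ext (mem_bot.1 (hfix ▸ ⟨z.2, (hχker z).1 hz⟩))
  -- the normalizer permutes the base vectors
  have hperm : ∀ h ∈ normalizer (E : Set G), ∀ i, ∃ j, h * y i * h⁻¹ = y j := by
    intro h hh i
    set z : ↥(WE 2 E) := ⟨_, hmemY h hh (y i)⟩
    set c := Multiplicative.toAdd (χ z) with hc
    have hceven : ∑ x, c x = 0 := hev _
    suffices hj : ∃ j, c = almostOnes j by
      obtain ⟨j, hj⟩ := hj
      exact ⟨j, congrArg Subtype.val (hχinj (a₁ := z) (a₂ := y j)
        (Multiplicative.toAdd.injective (hj.trans (hχy j).symm)))⟩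
    set T1 : Finset (Fin (2 * m + 1)) := Finset.univ.filter fun x => c x = 1
    have hcne : T1.Nonempty := by
      by_contra hne
      have hz0 : χ z = χ 1 := by
        rw [map_one]
        refine Multiplicative.toAdd.injective (funext fun x => (h01 (c x)).resolve_right fun hx => hne ⟨x, ?_⟩)
        simp [T1, hx]
      have h1 : (z : G) = 1 := congrArg Subtype.val (hχinj hz0)
      have h2 : χ (y i) = 1 := by
        rw [show y i = 1 from Subtype.ext (by simpa [z, mul_inv_eq_one] using h1), map_one]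
      have h4 := congrArg Multiplicative.toAdd h2
      rw [hχy] at h4
      obtain ⟨x, hx⟩ := Fintype.exists_ne_of_one_lt_card (by rw [Fintype.card_fin]; omega) i
      simpa [almostOnes, hx] using congrFun h4 x
    have hsum : (T1.card : ZMod 2) = 0 := by
      rw [← hceven, Finset.card_filter, Nat.cast_sum]
      refine Finset.sum_congr rfl fun x _ => ?_
      rcases h01 (c x) with hx | hx <;> simp [hx]
    rw [ZMod.natCast_eq_zero_iff_even] at hsum
    by_contra hj
    push Not at hj
    have hT2 : 2 ≤ T1ᶜ.card := by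
      by_contra hlt
      have h1 := T1.card_compl
      rw [Fintype.card_fin] at h1
      have hle := T1.card_le_univ
      rw [Fintype.card_fin] at hle
      obtain ⟨k, hk⟩ := hsum
      obtain ⟨j, hj'⟩ := Finset.card_eq_one.1 (show T1ᶜ.card = 1 by omega)
      refine hj j (funext fun x => ?_)
      have hx : x ∈ T1ᶜ ↔ x = j := by rw [hj', Finset.mem_singleton]
      simp only [T1, Finset.mem_compl, Finset.mem_filter, Finset.mem_univ, true_and] at hx
      simp only [almostOnes]
      split_ifs with hxj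
      · exact (h01 (c x)).resolve_right (hx.2 hxj)
      · exact not_not.1 fun hne => hxj (hx.1 hne)
    set F : Finset (Fin (2 * m + 1) → ZMod 2) :=
      Finset.univ.image fun k => Multiplicative.toAdd (χ ⟨_, hmemY h hh (y k)⟩)
    have hmapsto : ∀ ab ∈ T1 ×ˢ T1ᶜ, c + Pi.single ab.1 1 + Pi.single ab.2 1 ∈ F := by
      rintro ⟨a, b⟩ hab
      simp only [Finset.mem_product, Finset.mem_compl, T1, Finset.mem_filter, Finset.mem_univ, true_and] at hab
      obtain ⟨ha, hb⟩ := hab
      have hb0 : c b = 0 := (h01 _).resolve_right hb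
      obtain ⟨d, hd, hdb⟩ := Finset.exists_mem_ne (s := T1ᶜ) hT2 b
      simp only [T1, Finset.mem_compl, Finset.mem_filter, Finset.mem_univ, true_and] at hd
      have hd0 : c d = 0 := (h01 _).resolve_right hd
      have hab' : a ≠ b := fun e => hb (e ▸ ha)
      have had : a ≠ d := fun e => hd (e ▸ ha)
      obtain ⟨e, he⟩ : Equiv.swap a d * Equiv.swap a b ∈ ρ.range := by
        rw [hρ, Equiv.Perm.mem_alternatingGroup, map_mul, Equiv.Perm.sign_swap had, Equiv.Perm.sign_swap hab']
        rfl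
      obtain ⟨k, hk⟩ : ∃ k, (h⁻¹ * e * h) * y i * (h⁻¹ * e * h)⁻¹ = y k :=
        ⟨_, hequi ⟨h⁻¹ * e * h, (mem_normalizer_iff''.1 hh _).1 e.2⟩ i⟩
      refine Finset.mem_image.2 ⟨k, Finset.mem_univ _, ?_⟩
      have hz : (⟨_, hmemY h hh (y k)⟩ : ↥(WE 2 E)) = ⟨_, hmemY _ (le_normalizer e.2) z⟩ := Subtype.ext (by
        show h * (y k : G) * h⁻¹ = (e : G) * (h * y i * h⁻¹) * (e : G)⁻¹
        rw [← hk]; group)
      rw [hz]
      funext x
      rw [hχact e z x, he, ← hc, Pi.add_apply, Pi.add_apply, _root_.mul_inv_rev, Equiv.swap_inv, Equiv.swap_inv,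
        Equiv.Perm.mul_apply]
      simp only [Pi.single_apply]
      by_cases hxa : x = a
      · subst hxa
        rw [Equiv.swap_apply_left, Equiv.swap_apply_of_ne_of_ne (Ne.symm had) hdb, hd0, ha]
        simp [hab', CharTwo.add_self_eq_zero]
      by_cases hxb : x = b
      · subst hxb
        rw [Equiv.swap_apply_of_ne_of_ne hxa (Ne.symm hdb), Equiv.swap_apply_right, ha, hb0]
        simp [hxa]
      by_cases hxd : x = d
      · subst hxd
        rw [Equiv.swap_apply_right, Equiv.swap_apply_left, hb0, hd0]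
        simp [hxa, hxb]
      · rw [Equiv.swap_apply_of_ne_of_ne hxa hxd, Equiv.swap_apply_of_ne_of_ne hxa hxb]
        simp [hxa, hxb]
    have hinjon : Set.InjOn (fun ab : Fin (2 * m + 1) × Fin (2 * m + 1) => c + Pi.single ab.1 1 + Pi.single ab.2 1)
        (T1 ×ˢ T1ᶜ : Finset _) := by
      rintro ⟨a, b⟩ hab ⟨a', b'⟩ hab' heq
      simp only [Finset.coe_product, Set.mem_prod, Finset.mem_coe, Finset.mem_compl, T1, Finset.mem_filter,
        Finset.mem_univ, true_and] at hab hab'
      have hne : a ≠ b := fun e => hab.2 (e ▸ hab.1)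
      have hne' : a' ≠ b' := fun e => hab'.2 (e ▸ hab'.1)
      have hne1 : a ≠ b' := fun e => hab'.2 (e ▸ hab.1)
      have hne2 : b ≠ a' := fun e => hab.2 (e ▸ hab'.1)
      simp only [add_assoc, add_right_inj] at heq
      have e1 := congrFun heq a
      have e2 := congrFun heq b
      simp only [Pi.add_apply, Pi.single_apply, if_true, if_neg hne, if_neg hne1, add_zero] at e1
      simp only [Pi.add_apply, Pi.single_apply, if_true, if_neg hne.symm, if_neg hne2, zero_add] at e2
      split_ifs at e1 with ha'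
      · split_ifs at e2 with hb'
        · rw [ha', hb']
        · exact absurd e2 zmod_two_ne.2
      · exact absurd e1 zmod_two_ne.2
    have hle : (T1 ×ˢ T1ᶜ).card ≤ 2 * m + 1 := by
      refine (Finset.card_le_card_of_injOn _ hmapsto hinjon).trans (Finset.card_image_le.trans ?_)
      simp
    rw [Finset.card_product, Finset.card_compl, Fintype.card_fin] at hle
    rw [Finset.card_compl, Fintype.card_fin] at hT2
    have hjpos : 0 < T1.card := hcne.card_pos
    obtain ⟨k, hk⟩ := hsum
    have h2 : 2 ≤ T1.card := by omega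
    have hsumn : T1.card + (2 * m + 1 - T1.card) = 2 * m + 1 := by omega
    generalize 2 * m + 1 - T1.card = r at hle hT2 hsumn
    have := Nat.mul_le_mul_right r h2
    have := Nat.mul_le_mul_left T1.card hT2
    omega
  choose π hπ using hperm
  have hyinj : ∀ {i j}, (y i : G) = y j → i = j := fun {i j} h => hvinj (by rw [← hχy i, ← hχy j, Subtype.ext h])
  have hπinj : ∀ h hh, Function.Injective (π h hh) := fun h hh i j e => hyinj (by
    have h1 := hπ h hh i
    rw [e, ← hπ h hh j] at h1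
    simpa using h1)
  let Pm : ↥(normalizer (E : Set G)) →* Equiv.Perm (Fin (2 * m + 1)) :=
    MonoidHom.mk' (fun h => Equiv.ofBijective (π h h.2) (Finite.injective_iff_bijective.1 (hπinj h h.2))) fun a b =>
      Equiv.ext fun i => hyinj (by
        show (y (π ((a : G) * b) (mul_mem a.2 b.2) i) : G) = y (π a a.2 (π b b.2 i))
        rw [← hπ, ← hπ, ← hπ]; group)
  intro x hx
  have hxN : x ∈ normalizer (E : Set G) :=
    (commutator_le.2 fun a ha b hb => mul_mem (mul_mem (mul_mem ha hb) (inv_mem ha)) (inv_mem hb)) hx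
  have hsign : Pm ⟨x, hxN⟩ ∈ alternatingGroup (Fin (2 * m + 1)) := by
    have hle : (⁅normalizer (E : Set G), normalizer (E : Set G)⁆ : Subgroup G) ≤
        (Equiv.Perm.sign.comp Pm).ker.map (normalizer (E : Set G)).subtype := commutator_le.2 fun a ha b hb =>
      ⟨⁅(⟨a, ha⟩ : ↥(normalizer (E : Set G))), ⟨b, hb⟩⁆, by
        rw [SetLike.mem_coe, MonoidHom.mem_ker, map_commutatorElement, commutatorElement_eq_one_iff_mul_comm,
          mul_comm], rfl⟩
    obtain ⟨x', hx', hxx⟩ := hle hx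
    rw [show (⟨x, hxN⟩ : ↥(normalizer (E : Set G))) = x' from Subtype.ext hxx.symm]
    exact Equiv.Perm.mem_alternatingGroup.2 hx'
  obtain ⟨e, he⟩ := hρ.ge hsign
  rw [show x = (e : G) * ((e : G)⁻¹ * x) by group]
  refine mul_mem_sup e.2 (mem_centralizer_iff.2 fun z hz => ?_)
  have hle : Y0 ≤ centralizer ({(e : G)⁻¹ * x} : Set G) := by
    rintro _ ⟨_, ⟨c, -, rfl⟩, rfl⟩
    refine (Subgroup.mem_subgroupOf (K := WE 2 E) (H := centralizer ({(e : G)⁻¹ * x} : Set G)) (h := Pr c)).1 ?_
    show (∏ i, if Multiplicative.toAdd c i = 1 then y i else 1) ∈ _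
    refine Subgroup.prod_mem _ fun i _ => ?_
    split_ifs
    · refine mem_subgroupOf.2 (mem_centralizer_singleton_iff.2 ?_)
      have h1 : (e : G) * y i * (e : G)⁻¹ = x * y i * x⁻¹ := by
        rw [hequi, he]
        exact (hπ x hxN i).symm
      calc (y i : G) * ((e : G)⁻¹ * x) = (e : G)⁻¹ * ((e : G) * y i * (e : G)⁻¹) * x := by group
        _ = (e : G)⁻¹ * x * y i := by rw [h1]; group
    · exact one_mem _
  exact mem_centralizer_singleton_iff.1 (hle (hY0 hz))

end Cfsg.Agent.LAE79
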