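import Mathlib
import Cfsg.Agent.LAE79.BlockModuleFix

/-!
The orbit of a block under a `p`-subgroup: products over the conjugates, central elements and offenders.
-/

set_option autoImplicit false

open Subgroup
open scoped commutatorElement Pointwise IsMulCommutative

namespace Cfsg.Agent.LAE79

open LAE62.BlockCent LAE62.Baumann

variable {G : Type*} [Group G] [Finite G] {p : ℕ} [hp : Fact p.Prime]

/-- The first centre of the core. -/
abbrev Z1 (p : ℕ) (G : Type*) [Group G] : Subgroup G := Cfsg.omegaOneCenter p (Cfsg.pCore p G)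

/-- A subgroup of the module usable for counting. -/
structure Carrier (p : ℕ) (R E U : Subgroup G) : Prop where
  le : U ≤ WE p E
  norm : R ≤ normalizer (U : Set G)
  cent : U ⊓ centralizer (E : Set G) = ⊥
  big : 2 < Nat.card ↥U

instance Z1_normal : (Z1 p G).Normal :=
  haveI := Cores.pCore_normal_inst p G
  omegaOneCenter_normal

instance Z1_comm : IsMulCommutative ↥(Z1 p G) := ⟨⟨fun a b => Subtype.ext (omegaOneCenter_comm a.2 b.2)⟩⟩

omit [Finite G] hp in
theorem Z1_le_centralizer : Z1 p G ≤ centralizer (Cfsg.pCore p G : Set G) := omegaOneCenter_le_centralizer _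

theorem Z1_le_sylow (T : Sylow p G) : Z1 p G ≤ (T : Subgroup G) :=
  (omegaOneCenter_le _).trans (Cores.pCore_le_sylow T)

variable {S : Sylow p G} {E : Subgroup G}

omit [Finite G] hp in
theorem map_cj_eq_iff {a b : G} : E.map (cj a) = E.map (cj b) ↔ a⁻¹ * b ∈ normalizer (E : Set G) := by
  rw [mem_normalizer_iff_map_conj_eq]
  show _ ↔ E.map (cj (a⁻¹ * b)) = E
  have e : E.map (cj (a⁻¹ * b)) = (E.map (cj b)).map (cj a⁻¹) := by
    rw [map_map]; congr 1; ext x; simp [MulAut.conj_apply, mul_assoc]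
  rw [e]
  constructor
  · intro h
    rw [← h, map_map]
    ext x; simp [Subgroup.mem_map, MulAut.conj_apply, mul_assoc]
  · intro h
    conv_lhs => rw [← h]
    rw [map_map]
    ext x; simp [Subgroup.mem_map, MulAut.conj_apply, mul_assoc]

theorem conj_commute (hE : BlockSetting S E) (sE : E.IsSubnormal) {a b : G}
    (hab : a⁻¹ * b ∉ normalizer (E : Set G)) : ⁅E.map (cj a), E.map (cj b)⁆ = ⊥ := by
  obtain ⟨Sa, ha⟩ := blockSetting_map a hE
  obtain ⟨Sb, hb⟩ := blockSetting_map b hE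
  exact (pair_eq_or_commute (Nat.card ↥(E.map (cj a) ⊔ E.map (cj b)) + 1) _ _ ⟨Sa, ha⟩ (isSubnormal_map a sE)
    ⟨Sb, hb⟩ (isSubnormal_map b sE) (Nat.lt_succ_self _)).resolve_left fun h => hab (map_cj_eq_iff.1 h)

section Orbit

variable (H : Subgroup G)

/-- The stabilizer of the block in `H`. -/
abbrev stab (E H : Subgroup G) : Subgroup ↥H := (H ⊓ normalizer (E : Set G)).subgroupOf H

/-- A representative. -/
noncomputable def rep (E : Subgroup G) {H : Subgroup G} (q : ↥H ⧸ stab E H) : G := ((q.out : ↥H) : G)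

omit [Finite G] in
theorem rep_mem {q : ↥H ⧸ stab E H} : rep E q ∈ H := q.out.2

omit [Finite G] in
theorem rep_ne {q q' : ↥H ⧸ stab E H} (h : q ≠ q') : (rep E q)⁻¹ * rep E q' ∉ normalizer (E : Set G) := by
  intro hn
  refine h ?_
  rw [← q.out_eq, ← q'.out_eq]
  exact QuotientGroup.eq.2 (mem_subgroupOf.2 ⟨H.mul_mem (H.inv_mem q.out.2) q'.out.2, hn⟩)

omit [Finite G] in
theorem rep_smul (x : ↥H) (q : ↥H ⧸ stab E H) :
    (rep E (x • q))⁻¹ * (x : G) * rep E q ∈ H ⊓ normalizer (E : Set G) := by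
  have h : (QuotientGroup.mk (x • q).out : ↥H ⧸ stab E H) = QuotientGroup.mk (x * q.out) := by
    rw [QuotientGroup.out_eq']
    conv_lhs => rw [← QuotientGroup.out_eq' q]
    exact MulAction.Quotient.smul_mk _ _ _
  have := mem_subgroupOf.1 (QuotientGroup.eq.1 h)
  simpa [rep, mul_assoc] using this

variable (hE : BlockSetting S E) (sE : E.IsSubnormal)
variable {U : Subgroup G}

/-- The product over the orbit. -/
noncomputable def orbitProd [Fintype (↥H ⧸ stab E H)] (hU : U ≤ Z1 p G) :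
    (↥H ⧸ stab E H → ↥U) →* ↥(Z1 p G) where
  toFun u := ∏ q, MulAut.conjNormal (H := Z1 p G) (rep E q) (Subgroup.inclusion hU (u q))
  map_one' := by simp
  map_mul' u v := by simp [Finset.prod_mul_distrib]

include hE sE

/-- A component of the product fixed by the corresponding conjugate is trivial. -/
theorem component [Fintype (↥H ⧸ stab E H)] (hU : U ≤ Z1 p G) (hUY : U ≤ WE p E)
    (hc : U ⊓ centralizer (E : Set G) = ⊥) (u : ↥H ⧸ stab E H → ↥U) (q₀ : ↥H ⧸ stab E H)
    (h : (orbitProd H hU u : G) ∈ centralizer (E.map (cj (rep E q₀)) : Set G)) : u q₀ = 1 := by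
  classical
  set f : ↥H ⧸ stab E H → ↥(Z1 p G) := fun q =>
    MulAut.conjNormal (H := Z1 p G) (rep E q) (Subgroup.inclusion hU (u q))
  set K : Subgroup ↥(Z1 p G) := (centralizer (E.map (cj (rep E q₀)) : Set G)).subgroupOf (Z1 p G)
  have hrest : ∏ q ∈ Finset.univ.erase q₀, f q ∈ K := by
    refine K.prod_mem fun q hq => mem_subgroupOf.2 ?_
    have hb := conj_commute hE sE (rep_ne H (Finset.ne_of_mem_erase hq))
    refine commutator_eq_bot_iff_le_centralizer.1 hb ⟨(u q : G), WE_le_E hE (hUY (u q).2), ?_⟩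
    simp [f, MulAut.conjNormal_apply]
  have h0 : f q₀ ∈ K := by
    have e : (orbitProd H hU u) = f q₀ * ∏ q ∈ Finset.univ.erase q₀, f q :=
      (Finset.mul_prod_erase _ f (Finset.mem_univ q₀)).symm
    have h' : orbitProd H hU u ∈ K := mem_subgroupOf.2 h
    rw [e] at h'
    exact (K.mul_mem_cancel_right hrest).1 h'
  have h1 := mem_centralizer_iff.1 (mem_subgroupOf.1 h0)
  refine Subtype.ext (mem_bot.1 (hc ▸ ⟨(u q₀).2, mem_centralizer_iff.2 fun e he => ?_⟩))
  have h2 := h1 _ ⟨e, he, rfl⟩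
  simp [f, MulAut.conjNormal_apply, MulAut.conj_apply, mul_assoc] at h2
  rw [← mul_assoc, ← mul_assoc, mul_left_inj] at h2
  exact h2

theorem orbitProd_injective [Fintype (↥H ⧸ stab E H)] (hU : U ≤ Z1 p G) (hUY : U ≤ WE p E)
    (hc : U ⊓ centralizer (E : Set G) = ⊥) : Function.Injective (orbitProd H (E := E) hU) :=
  (injective_iff_map_eq_one _).2 fun u hu => funext fun q =>
    component H hE sE hU hUY hc u q (by rw [hu]; exact one_mem _)

omit hE sE in
/-- Translating the product. -/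
theorem orbitProd_conj [Fintype (↥H ⧸ stab E H)] (hU : U ≤ Z1 p G)
    (hnU : H ⊓ normalizer (E : Set G) ≤ normalizer (U : Set G)) (x : ↥H) (u : ↥H ⧸ stab E H → ↥U) :
    ∃ v : ↥H ⧸ stab E H → ↥U, (orbitProd H hU v : G) = (x : G) * orbitProd H hU u * (x : G)⁻¹ ∧
      ∀ q, (v (x • q) : G) = ((rep E (x • q))⁻¹ * (x : G) * rep E q) * u q *
        ((rep E (x • q))⁻¹ * (x : G) * rep E q)⁻¹ := by
  classical
  let k : ↥H ⧸ stab E H → G := fun q => (rep E (x • q))⁻¹ * (x : G) * rep E q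
  let v : ↥H ⧸ stab E H → ↥U := fun r => ⟨k (x⁻¹ • r) * u (x⁻¹ • r) * (k (x⁻¹ • r))⁻¹,
    (mem_normalizer_iff.1 (hnU (rep_smul H x (x⁻¹ • r))) _).1 (u (x⁻¹ • r)).2⟩
  have hv : ∀ q, (v (x • q) : G) = k q * u q * (k q)⁻¹ := fun q => by
    show k (x⁻¹ • x • q) * _ * _ = _
    rw [inv_smul_smul]
  refine ⟨v, ?_, hv⟩
  have key : orbitProd H hU v = MulAut.conjNormal (H := Z1 p G) (x : G) (orbitProd H hU u) := by
    show ∏ r, _ = MulAut.conjNormal (H := Z1 p G) (x : G) (∏ q, _)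
    rw [map_prod]
    refine (Fintype.prod_equiv (MulAction.toPerm x) _ _ fun q => Subtype.ext ?_).symm
    simp only [MulAut.conjNormal_apply, coe_inclusion, MulAction.toPerm_apply, hv, k]
    group
  rw [key, MulAut.conjNormal_apply]

/-- An element fixed by the stabilizer gives a central element not centralizing the block. -/
theorem exists_fixed_of_orbit (hUY : U ≤ WE p E) (hc : U ⊓ centralizer (E : Set G) = ⊥)
    (hnU : H ⊓ normalizer (E : Set G) ≤ normalizer (U : Set G)) {y : G} (hy : y ∈ U) (hy1 : y ≠ 1)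
    (hfix : y ∈ centralizer ((H ⊓ normalizer (E : Set G) : Subgroup G) : Set G)) :
    ∃ z ∈ Z1 p G, z ∈ centralizer (H : Set G) ∧ z ∉ centralizer (E : Set G) := by
  classical
  haveI := Fintype.ofFinite (↥H ⧸ stab E H)
  have hU : U ≤ Z1 p G := hUY.trans (WE_le_Z1 hE)
  let u : ↥H ⧸ stab E H → ↥U := fun _ => ⟨y, hy⟩
  refine ⟨_, (orbitProd H hU u).2, mem_centralizer_iff.2 fun x hx => ?_, fun hz => ?_⟩
  · obtain ⟨v, hv, hv'⟩ := orbitProd_conj H hU hnU ⟨x, hx⟩ u
    have : v = u := funext fun r => Subtype.ext (by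
      have h := hv' ((⟨x, hx⟩ : ↥H)⁻¹ • r)
      rw [smul_inv_smul] at h
      rw [h, mul_inv_eq_iff_eq_mul]
      have hm := rep_smul (E := E) H ⟨x, hx⟩ ((⟨x, hx⟩ : ↥H)⁻¹ • r)
      rw [smul_inv_smul] at hm
      exact mem_centralizer_iff.1 hfix _ hm)
    rw [this, eq_mul_inv_iff_mul_eq] at hv
    exact hv.symm
  · set q₀ : ↥H ⧸ stab E H := QuotientGroup.mk 1
    have hr : rep E q₀ ∈ normalizer (E : Set G) := by
      have := mem_subgroupOf.1 (QuotientGroup.eq.1 (QuotientGroup.out_eq' q₀).symm)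
      exact (by simpa [rep] using this : rep E q₀ ∈ H ⊓ normalizer (E : Set G)).2
    have h := component H hE sE hU hUY hc u q₀ (by
      have e : E.map (cj (rep E q₀)) = E := mem_normalizer_iff_map_conj_eq.1 hr
      rwa [e])
    exact hy1 (congrArg Subtype.val h)

end Orbit

section Offender

/-- The best offender inequality. -/
theorem weight_le {T : Sylow p G} {A : Subgroup G} (hA : A ∈ Modules.maxElemAbIn p (T : Subgroup G))
    {B : Subgroup G} (hB : B ≤ A) :
    Nat.card ↥B * Nat.card ↥(Z1 p G ⊓ centralizer (B : Set G)) ≤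
      Nat.card ↥A * Nat.card ↥(Z1 p G ⊓ centralizer (A : Set G)) := by
  set C := Z1 p G ⊓ centralizer (B : Set G) with hC
  have hBC : B ≤ centralizer (C : Set G) := le_centralizer_iff.1 inf_le_right
  have h1 := Modules.card_sup_mul_card_inf (B := B) (V := C) (hBC.trans (centralizer_le_normalizer' _))
  have hel : Cfsg.IsElementaryAbelian p (B ⊔ C) := Modules.elemAb_sup (A := B) (B := C)
    (Modules.elemAb_mono hB hA.2.1)
    ⟨⟨⟨fun a b => Subtype.ext (omegaOneCenter_comm a.2.1 b.2.1)⟩⟩, fun c hc => omegaOneCenter_pow hc.1⟩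
    inf_le_right
  have h2 : Nat.card ↥(B ⊔ C) ≤ Nat.card ↥A :=
    hA.2.2 _ (sup_le (hB.trans hA.1) (inf_le_left.trans (Z1_le_sylow T))) hel
  have h3 : Nat.card ↥(B ⊓ C) ≤ Nat.card ↥(Z1 p G ⊓ centralizer (A : Set G)) :=
    card_le_of_le fun x hx => ⟨hx.2.1, Modules.elemAb_le_centralizer hA.2.1 (hB hx.1)⟩
  calc _ = Nat.card ↥(B ⊔ C) * Nat.card ↥(B ⊓ C) := h1.symm
    _ ≤ _ := Nat.mul_le_mul h2 h3

theorem exists_mem_commutator_le {R U C : Subgroup G} (hR : IsPGroup p R) (hU : IsPGroup p U)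
    (hRU : R ≤ normalizer (U : Set G)) (hne : ¬ U ≤ C) : ∃ u ∈ U, u ∉ C ∧ ∀ a ∈ R, ⁅a, u⁆ ∈ C := by
  haveI := Fintype.ofFinite G
  obtain ⟨X, ⟨hX1, hX2, hX3⟩, hmin⟩ := WellFounded.has_min (wellFounded_lt (α := Subgroup G))
    {X | X ≤ U ∧ R ≤ normalizer (X : Set G) ∧ ¬ X ≤ C} ⟨U, le_rfl, hRU, hne⟩
  obtain ⟨u, huX, huC⟩ := SetLike.not_le_iff_exists.1 hX3
  refine ⟨u, hX1 huX, huC, fun a ha => ?_⟩
  by_contra hc
  set X' := ⁅X, R⁆
  have hle : X' ≤ X := Modules.commutator_le_of_normalizes hX2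
  have hnot : ¬ X' ≤ C := fun h => hc (by
    rw [← commutatorElement_inv]
    exact inv_mem (h (commutator_mem_commutator huX ha)))
  have hX' : X' = X := eq_of_le_of_not_lt hle (hmin X' ⟨hle.trans hX1, normalizer_commutator_ge_right _ _, hnot⟩)
  obtain ⟨T, hT⟩ := (IsPGroup.to_sup_of_normal_left' (hU.to_le hX1) hR hX2).exists_le_sylow
  haveI : Group.IsNilpotent ↥(T : Subgroup G) := T.2.isNilpotent
  refine hnot (le_trans ?_ bot_le)
  rw [hX']
  set N := X.subgroupOf (T : Subgroup G)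
  have hXT : X ≤ (T : Subgroup G) := le_sup_left.trans hT
  have hN : N ≤ ⁅N, ⊤⁆ := by
    refine (map_le_map_iff_of_injective (T : Subgroup G).subtype_injective).1 ?_
    rw [map_commutator, subgroupOf_map_subtype, inf_eq_left.2 hXT, ← MonoidHom.range_eq_map, range_subtype]
    exact hX'.ge.trans (commutator_mono le_rfl (le_sup_right.trans hT))
  have hN0 : N = ⊥ := Modules.eq_bot_of_le_commutator_top hN
  intro x hx
  have : (⟨x, hXT hx⟩ : ↥(T : Subgroup G)) ∈ N := mem_subgroupOf.2 hx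
  rw [hN0, mem_bot] at this
  exact mem_bot.2 (congrArg Subtype.val this)

variable (hE : BlockSetting S E) (sE : E.IsSubnormal)
variable (hinv : ∀ R : Subgroup G, IsPGroup p R → R ≤ normalizer (E : Set G) → ∃ U, Carrier p R E U)
include hE sE hinv

/-- An elementary abelian subgroup of largest order fixes the block. -/
theorem maxElemAb_le_normalizer {T : Sylow p G} {A : Subgroup G}
    (hA : A ∈ Modules.maxElemAbIn p (T : Subgroup G)) : A ≤ normalizer (E : Set G) := by
  classical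
  by_contra hAE
  set A0 := A ⊓ normalizer (E : Set G) with hA0
  have hAp : IsPGroup p A := T.2.to_le hA.1
  haveI hAc : IsMulCommutative ↥A := hA.2.1.1
  obtain ⟨U, hUY, hnU, hc, hbig⟩ := hinv A0 (hAp.to_le inf_le_left) inf_le_right
  have hU : U ≤ Z1 p G := hUY.trans (WE_le_Z1 hE)
  have hUp : IsPGroup p U := (WE_isPGroup hE).to_le hUY
  set C0 := U ⊓ centralizer (A0 : Set G) with hC0
  -- the subgroups used for the comparison
  obtain ⟨U1, B1, hU1, hB1, hB1U, hcase⟩ : ∃ U1 B1 : Subgroup G, U1 ≤ U ∧ B1 ≤ A0 ∧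
      U1 ≤ centralizer (B1 : Set G) ∧
        ((U1 = U ∧ C0 = U ∧ B1 = A0) ∨
          (2 * Nat.card ↥C0 ≤ Nat.card ↥U1 ∧ Nat.card ↥A0 ≤ Nat.card ↥C0 * Nat.card ↥B1)) := by
    by_cases hCU : U ≤ C0
    · exact ⟨U, A0, le_rfl, le_rfl, hCU.trans inf_le_right, Or.inl ⟨rfl, le_antisymm inf_le_left hCU, rfl⟩⟩
    obtain ⟨u, hu, huC, hcomm⟩ := exists_mem_commutator_le (hAp.to_le inf_le_left) hUp hnU hCU
    refine ⟨C0 ⊔ zpowers u, A0 ⊓ centralizer ({u} : Set G), sup_le inf_le_left (zpowers_le.2 hu), inf_le_left,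
      sup_le (inf_le_right.trans (centralizer_le fun x hx => hx.1)) (zpowers_le.2 (mem_centralizer_iff.2
        fun b hb => (mem_centralizer_singleton_iff.1 hb.2))), Or.inr ⟨?_, ?_⟩⟩
    · obtain ⟨t, ht⟩ := card_dvd_of_le (le_sup_left : C0 ≤ C0 ⊔ zpowers u)
      have hpos := Nat.card_pos (α := ↥(C0 ⊔ zpowers u))
      rw [ht] at hpos ⊢
      have ht0 : 0 < t := Nat.pos_of_mul_pos_left hpos
      have ht1 : t ≠ 1 := fun h1 => huC (by
        rw [h1, mul_one] at ht
        rw [eq_of_le_of_card_ge (le_sup_left : C0 ≤ C0 ⊔ zpowers u) ht.le]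
        exact mem_sup_right (mem_zpowers u))
      calc 2 * Nat.card ↥C0 = Nat.card ↥C0 * 2 := mul_comm _ _
        _ ≤ _ := Nat.mul_le_mul_left _ (by omega)
    · rw [← Modules.card_mul_relIndex_of_le (inf_le_left : A0 ⊓ centralizer ({u} : Set G) ≤ A0),
        mul_comm (Nat.card ↥C0)]
      refine Nat.mul_le_mul_left _ ?_
      rw [relIndex, Subgroup.index_eq_card]
      refine Nat.card_le_card_of_injective (fun q => (⟨⁅((q.out : ↥A0) : G), u⁆, hcomm _ q.out.2⟩ : ↥C0)) fun q q' h => ?_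
      have h' : ⁅((q.out : ↥A0) : G), u⁆ = ⁅((q'.out : ↥A0) : G), u⁆ := congrArg Subtype.val h
      rw [← q.out_eq, ← q'.out_eq]
      refine QuotientGroup.eq.2 (mem_subgroupOf.2 ⟨(q.out⁻¹ * q'.out).2, mem_centralizer_singleton_iff.2 ?_⟩)
      simp only [commutatorElement_def, mul_left_inj] at h'
      simp only [Subgroup.coe_mul, InvMemClass.coe_inv]
      calc ((q.out : ↥A0) : G)⁻¹ * (q'.out : ↥A0) * u
          = ((q.out : ↥A0) : G)⁻¹ * ((q'.out : ↥A0) * u * ((q'.out : ↥A0) : G)⁻¹) * (q'.out : ↥A0) := by group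
        _ = _ := by rw [← h']; group
  haveI := Fintype.ofFinite (↥A ⧸ stab E A)
  have hnU' : A ⊓ normalizer (E : Set G) ≤ normalizer (U : Set G) := hnU
  let Φ := orbitProd (p := p) A (E := E) hU
  have hΦ : Function.Injective Φ := orbitProd_injective A hE sE hU hUY hc
  let ι : (↥A ⧸ stab E A → ↥U1) →* (↥A ⧸ stab E A → ↥U) :=
    { toFun := fun u q => Subgroup.inclusion hU1 (u q), map_one' := rfl, map_mul' := fun _ _ => rfl }
  have hι : Function.Injective ι := fun u v h => funext fun q => inclusion_injective hU1 (congrFun h q)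
  set D : Subgroup G := (Φ.comp ι).range.map (Z1 p G).subtype with hD
  have hDcard : Nat.card ↥D = Nat.card ↥U1 ^ Nat.card (↥A ⧸ stab E A) := by
    rw [hD, card_map_of_injective (Z1 p G).subtype_injective,
      ← Nat.card_congr (MonoidHom.ofInjective (f := Φ.comp ι) (hΦ.comp hι)).toEquiv, Nat.card_fun]
  set C := Z1 p G ⊓ centralizer (A : Set G) with hC
  have hDle : D ≤ Z1 p G ⊓ centralizer (B1 : Set G) := by
    rintro _ ⟨_, ⟨u, rfl⟩, rfl⟩
    refine ⟨(Φ (ι u)).2, mem_centralizer_iff.2 fun b hb => ?_⟩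
    have hK : Φ (ι u) ∈ (centralizer ({b} : Set G)).subgroupOf (Z1 p G) := by
      show ∏ q, _ ∈ _
      refine Subgroup.prod_mem _ fun q _ => mem_subgroupOf.2 (mem_centralizer_singleton_iff.2 ?_)
      simp only [MulAut.conjNormal_apply, coe_inclusion, ι, MonoidHom.coe_mk, OneHom.coe_mk]
      have c1 : Commute b (rep E q) := Modules.elemAb_comm hA.2.1 (hB1 hb).1 (rep_mem A)
      have c2 : Commute b (u q : G) := mem_centralizer_iff.1 (hB1U (u q).2) b hb
      exact ((c1.mul_right c2).mul_right c1.inv_right).eq.symm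
    exact (mem_centralizer_singleton_iff.1 (mem_subgroupOf.1 hK)).symm
  have hinf : Nat.card ↥(C ⊓ D) ≤ Nat.card ↥C0 := by
    set q₀ : ↥A ⧸ stab E A := QuotientGroup.mk 1
    have hpre : ∀ d : ↥(C ⊓ D), ∃ u : ↥A ⧸ stab E A → ↥U, (Φ u : G) = d ∧ (∀ q, (u q : G) ∈ C0) ∧
        ∀ q, u q = u q₀ := by
      rintro ⟨d, hdC, hdD⟩
      obtain ⟨_, ⟨u, rfl⟩, rfl⟩ := hdD
      have hfix : ∀ x : ↥A, ∀ q, (ι u (x • q) : G) =
          ((rep E (x • q))⁻¹ * (x : G) * rep E q) * ι u q * ((rep E (x • q))⁻¹ * (x : G) * rep E q)⁻¹ := by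
        intro x q
        obtain ⟨v, hv, hv'⟩ := orbitProd_conj A hU hnU' x (ι u)
        have e : v = ι u := hΦ (Subtype.ext (by
          rw [hv, mul_inv_eq_iff_eq_mul]
          exact mem_centralizer_iff.1 hdC.2 x x.2))
        rw [← hv' q, e]
      have hC0 : ∀ q, (ι u q : G) ∈ C0 := fun q => ⟨(ι u q).2, mem_centralizer_iff.2 fun a ha => by
        have hq : (⟨a, ha.1⟩ : ↥A) • q = q := by
          conv_lhs => rw [← QuotientGroup.out_eq' q]
          conv_rhs => rw [← QuotientGroup.out_eq' q]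
          refine (MulAction.Quotient.smul_mk _ _ _).trans (QuotientGroup.eq.2 (mem_subgroupOf.2 ?_))
          have c : Commute a (q.out : G) := Modules.elemAb_comm hA.2.1 ha.1 q.out.2
          convert A0.inv_mem ha using 1
          simp [mul_assoc, c.inv_left.eq]
        have h := hfix ⟨a, ha.1⟩ q
        rw [hq] at h
        have c : Commute a (rep E q) := Modules.elemAb_comm hA.2.1 ha.1 (rep_mem A)
        rw [show (rep E q)⁻¹ * a * rep E q = a by rw [mul_assoc, c.eq]; group] at h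
        exact (eq_mul_inv_iff_mul_eq.1 h).symm⟩
      refine ⟨ι u, rfl, hC0, fun q => ?_⟩
      obtain ⟨x, rfl⟩ := MulAction.exists_smul_eq ↥A q₀ q
      refine Subtype.ext ?_
      rw [hfix x q₀, mul_inv_eq_iff_eq_mul]
      exact mem_centralizer_iff.1 (hC0 q₀).2 _ (rep_smul A x q₀)
    choose u hu hu0 huc using hpre
    refine Nat.card_le_card_of_injective (fun d => (⟨u d q₀, hu0 d q₀⟩ : ↥C0)) fun d d' h => Subtype.ext ?_
    have e : u d = u d' := funext fun q => by
      rw [huc d q, huc d' q]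
      refine Subtype.ext ?_
      have h' := congrArg Subtype.val h
      exact h'
    rw [← hu d, ← hu d', e]
  -- the inequality
  obtain ⟨k, hk⟩ : ∃ k, k = Nat.card (↥A ⧸ stab E A) := ⟨_, rfl⟩
  rw [← hk] at hDcard
  have hsum := Modules.card_sup_mul_card_inf (B := C) (V := D) fun x hx => centralizer_le_normalizer' D
    (mem_centralizer_iff.2 fun d hd => omegaOneCenter_comm (hDle hd).1 hx.1)
  have hw := weight_le hA (hB1.trans inf_le_left)
  have hle1 : Nat.card ↥(C ⊔ D) ≤ Nat.card ↥(Z1 p G ⊓ centralizer (B1 : Set G)) :=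
    card_le_of_le (sup_le (le_inf inf_le_left (inf_le_right.trans (centralizer_le (hB1.trans inf_le_left)))) hDle)
  have hA0card : Nat.card ↥A = Nat.card ↥A0 * k := by
    rw [hk, ← Subgroup.index_eq_card, ← Modules.card_mul_relIndex_of_le (inf_le_left : A0 ≤ A)]
    rfl
  have hk2 : 2 ≤ k := by
    by_contra hk'
    have hpos : 0 < k := hk ▸ Nat.card_pos
    refine hAE ?_
    rw [show k = 1 by omega, mul_one] at hA0card
    exact le_inf_iff.1 (eq_of_le_of_card_ge (inf_le_left : A0 ≤ A) hA0card.le).ge |>.2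
  set c := Nat.card ↥C0
  set c1 := Nat.card ↥U1
  have hkey : Nat.card ↥B1 * c1 ^ k ≤ Nat.card ↥A0 * k * c := by
    refine Nat.le_of_mul_le_mul_right ?_ (Nat.card_pos (α := ↥C))
    calc Nat.card ↥B1 * c1 ^ k * Nat.card ↥C = Nat.card ↥B1 * (Nat.card ↥(C ⊔ D) * Nat.card ↥(C ⊓ D)) := by
          rw [hsum, hDcard]; ring
      _ ≤ Nat.card ↥B1 * (Nat.card ↥(Z1 p G ⊓ centralizer (B1 : Set G)) * c) :=
          Nat.mul_le_mul_left _ (Nat.mul_le_mul hle1 hinf)
      _ = Nat.card ↥B1 * Nat.card ↥(Z1 p G ⊓ centralizer (B1 : Set G)) * c := by ring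
      _ ≤ Nat.card ↥A * Nat.card ↥C * c := Nat.mul_le_mul_right _ hw
      _ = _ := by rw [hA0card]; ring
  obtain ⟨m, rfl⟩ : ∃ m, k = m + 2 := ⟨k - 2, by omega⟩
  rcases hcase with ⟨rfl, hCU, rfl⟩ | ⟨hc1, hA01⟩
  · have e : c1 = c := by simp only [c, c1, hCU]
    rw [e, mul_assoc] at hkey
    have h1 : c ^ (m + 1) ≤ m + 2 := by
      refine Nat.le_of_mul_le_mul_right (c := c) ?_ Nat.card_pos
      rw [← pow_succ]
      exact Nat.le_of_mul_le_mul_left hkey Nat.card_pos
    have hc3 : 3 ≤ c := e ▸ hbig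
    have h2 : m + 2 < 3 ^ (m + 1) := by
      clear * -
      induction m with
      | zero => norm_num
      | succ m ih => rw [pow_succ]; omega
    have := Nat.pow_le_pow_left hc3 (m + 1)
    omega
  · have hcpos : 0 < c := Nat.card_pos
    have h1 : c1 ^ (m + 2) ≤ (m + 2) * c ^ 2 := by
      refine Nat.le_of_mul_le_mul_left ?_ (Nat.card_pos (α := ↥B1))
      calc _ ≤ Nat.card ↥A0 * (m + 2) * c := hkey
        _ ≤ c * Nat.card ↥B1 * (m + 2) * c := by gcongr
        _ = _ := by ring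
    have h2 : (2 * c) ^ (m + 2) ≤ (m + 2) * c ^ (m + 2) :=
      ((Nat.pow_le_pow_left hc1 _).trans h1).trans
        (Nat.mul_le_mul_left _ (Nat.pow_le_pow_right hcpos (by omega)))
    rw [mul_pow] at h2
    have h3 := Nat.le_of_mul_le_mul_right h2 (pow_pos hcpos _)
    exact absurd h3 (Nat.not_le.2 Nat.lt_two_pow_self)

/-- Every Baumann subgroup fixes the block. -/
theorem baumann_le_normalizer (T : Sylow p G) :
    Cfsg.baumannSubgroupOf p (T : Subgroup G) ≤ normalizer (E : Set G) := by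
  set J := Cfsg.thompsonSubgroupOf p (T : Subgroup G) with hJdef
  have hJE : J ≤ normalizer (E : Set G) := by
    rw [hJdef, Modules.thompsonSubgroupOf_eq_sSup]
    exact sSup_le fun A hA => maxElemAb_le_normalizer hE sE hinv hA
  have hJp : IsPGroup p J := T.2.to_le (Modules.thompsonSubgroupOf_le p _)
  obtain ⟨U, hUY, hnU, hc, hbig⟩ := hinv J hJp hJE
  have hne : ¬ U ≤ (⊥ : Subgroup G) := fun h => by
    rw [le_bot_iff.1 h, card_bot] at hbig; omega
  obtain ⟨y, hyU, hy1, hyJ⟩ := exists_mem_commutator_le hJp ((WE_isPGroup hE).to_le hUY) hnU hne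
  have hyZ : y ∈ Z1 p G := WE_le_Z1 hE (hUY hyU)
  have hcomm : ∀ a ∈ J, Commute a y := fun a ha => commutatorElement_eq_one_iff_mul_comm.1 (mem_bot.1 (hyJ a ha))
  have hyΩ : y ∈ Cfsg.omegaOne p (Cfsg.centerThompsonOf p (T : Subgroup G)) := by
    rw [Modules.omegaOne_centerThompsonOf_eq, mem_sInf]
    exact fun A hA => Modules.mem_maxElemAbIn_of_centralizing hA (Z1_le_sylow T hyZ)
      (mem_centralizer_iff.2 fun a ha => hcomm a (Modules.le_thompsonSubgroupOf hA ha)) (omegaOneCenter_pow hyZ)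
  intro b hb
  by_contra hbE
  have hby : Commute y b := mem_centralizer_iff.1 hb.2 y hyΩ
  have h := conj_commute hE sE (a := 1) (b := b) (by simpa using hbE)
  refine hy1 (hc ▸ ⟨hyU, mem_centralizer_iff.2 fun e he => commutatorElement_eq_one_iff_mul_comm.1
    (mem_bot.1 (h ▸ commutator_mem_commutator ⟨e, he, by simp [MulAut.conj_apply]⟩ ⟨y, WE_le_E hE (hUY hyU), ?_⟩))⟩)
  show b * y * b⁻¹ = y
  rw [← hby.eq]; group

end Offender

end Cfsg.Agent.LAE79
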