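import Mathlib
import Cfsg.Agent.LAE79.BlockOrbit
import Cfsg.Agent.EvenLocal.Qd

/-!
Coordinates on the module of a linear block; the blocks over the fields with two and three elements.
-/

set_option autoImplicit false

open Subgroup Matrix
open scoped commutatorElement

namespace Cfsg.Agent.LAE79

open LAE62 LAE62.BlockCent LAE62.Baumann

variable {G : Type*} [Group G] [Finite G] {p : ℕ} [hp : Fact p.Prime]

/-- Coordinates on the module of a linear block. -/
structure Coord (p : ℕ) (E : Subgroup G) (F : Type) [Field F] where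
  ρ : ↥E →* SpecialLinearGroup (Fin 2) F
  v : G → Fin 2 → F
  range : ρ.range = commutator (SpecialLinearGroup (Fin 2) F)
  add : ∀ a ∈ WE p E, ∀ b ∈ WE p E, v (a * b) = v a + v b
  zero : ∀ y ∈ WE p E, v y = 0 ↔ y ∈ centralizer (E : Set G)
  surj : ∀ x, ∃ y ∈ WE p E, v y = x
  act : ∀ (e : ↥E), ∀ y ∈ WE p E, v ((e : G) * y * (e : G)⁻¹) = (ρ e : Matrix (Fin 2) (Fin 2) F) *ᵥ v y

variable {S : Sylow p G} {E : Subgroup G} {F : Type} [Field F]

theorem exists_coord (hE : BlockSetting S E)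
    (hact : Cfsg.ActsAsSL2OnSection F (commutator (SpecialLinearGroup (Fin 2) F)) E (Wc p E)
      (Wc p E ⊓ centralizer (E : Set G))) : Nonempty (Coord p E F) := by
  obtain ⟨-, -, ρ, ψ, hρ, hψ, hker, hactw⟩ := hact
  refine ⟨⟨ρ, extendFun ψ, hρ, fun a ha b hb => ?_, fun y hy => ?_, fun x => ?_, fun e y hy => ?_⟩⟩
  · rw [extendFun_apply ψ (WE_le_Wc hE ha), extendFun_apply ψ (WE_le_Wc hE hb),
      extendFun_apply ψ (mul_mem (WE_le_Wc hE ha) (WE_le_Wc hE hb)), ← toAdd_mul, ← map_mul]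
    rfl
  · rw [extendFun_apply ψ (WE_le_Wc hE hy)]
    constructor
    · intro h
      exact ((hker _).1 (Multiplicative.toAdd.injective (h.trans toAdd_one.symm))).2
    · intro h
      rw [(hker _).2 ⟨WE_le_Wc hE hy, h⟩]; rfl
  · obtain ⟨u, hu⟩ := hψ (Multiplicative.ofAdd x)
    obtain ⟨y, hy, hz⟩ := WE_decomp hE u.2
    refine ⟨y, hy, ?_⟩
    rw [extendFun_apply ψ (WE_le_Wc hE hy)]
    have h1 : ψ (⟨y, WE_le_Wc hE hy⟩⁻¹ * u) = 1 := (hker _).2 hz
    rw [map_mul, map_inv, inv_mul_eq_one] at h1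
    rw [h1, hu, toAdd_ofAdd]
  · obtain ⟨w, hw, hw'⟩ := hactw e ⟨y, WE_le_Wc hE hy⟩
    rw [extendFun_apply ψ (WE_le_Wc hE hy), extendFun_apply ψ (hw ▸ w.2 : (e : G) * y * (e : G)⁻¹ ∈ Wc p E), ← hw']
    exact congrArg (fun z => Multiplicative.toAdd (ψ z)) (Subtype.ext hw.symm)

namespace Coord

variable (c : Coord p E F) (hE : BlockSetting S E)

omit hp in
theorem v_one : c.v 1 = 0 := by
  have h := c.add 1 (one_mem _) 1 (one_mem _)
  rw [one_mul] at h
  exact left_eq_add.1 h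

omit hp in
theorem v_inv {y : G} (hy : y ∈ WE p E) : c.v y⁻¹ = - c.v y := by
  have h := c.add y hy y⁻¹ (inv_mem hy)
  rw [mul_inv_cancel, c.v_one] at h
  exact (neg_eq_of_add_eq_zero_right h.symm).symm

omit hp in
theorem div_mem {a b : G} (ha : a ∈ WE p E) (hb : b ∈ WE p E) (h : c.v a = c.v b) :
    a⁻¹ * b ∈ centralizer (E : Set G) :=
  (c.zero _ (mul_mem (inv_mem ha) hb)).1 (by rw [c.add _ (inv_mem ha) _ hb, c.v_inv ha, h, neg_add_cancel])

omit hp in
theorem conj_mem {g y : G} (hg : g ∈ normalizer (E : Set G)) (hy : y ∈ WE p E) : g * y * g⁻¹ ∈ WE p E :=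
  (mem_normalizer_iff.1 (normalizer_le_normalizer_module p E hg) _).1 hy

omit hp in
/-- Conjugation by an element normalizing the block is defined on coordinates. -/
theorem v_conj_congr {g a b : G} (hg : g ∈ normalizer (E : Set G)) (ha : a ∈ WE p E) (hb : b ∈ WE p E)
    (h : c.v a = c.v b) : c.v (g * a * g⁻¹) = c.v (g * b * g⁻¹) := by
  have h1 : g * (a⁻¹ * b) * g⁻¹ ∈ centralizer (E : Set G) :=
    (mem_normalizer_iff.1 (Modules.normalizes_centralizer le_rfl hg) _).1 (c.div_mem ha hb h)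
  have h2 : c.v (g * b * g⁻¹) = c.v (g * a * g⁻¹) + c.v (g * (a⁻¹ * b) * g⁻¹) := by
    rw [← c.add _ (conj_mem hg ha) _ (conj_mem hg (mul_mem (inv_mem ha) hb))]
    congr 1; group
  rw [h2, (c.zero _ (conj_mem hg (mul_mem (inv_mem ha) hb))).2 h1, add_zero]

omit hp in
theorem v_conj_add {g a b : G} (hg : g ∈ normalizer (E : Set G)) (ha : a ∈ WE p E) (hb : b ∈ WE p E) :
    c.v (g * (a * b) * g⁻¹) = c.v (g * a * g⁻¹) + c.v (g * b * g⁻¹) := by
  rw [← c.add _ (conj_mem hg ha) _ (conj_mem hg hb)]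
  congr 1; group

omit hp in
theorem ρ_of_centralizes {e : ↥E} (he : (e : G) ∈ centralizer (WE p E : Set G)) : c.ρ e = 1 := by
  refine Subtype.ext (Matrix.ext_iff_mulVec.2 fun x => ?_)
  obtain ⟨y, hy, rfl⟩ := c.surj x
  rw [← c.act e y hy, ← mem_centralizer_iff.1 he y hy, mul_inv_cancel_right]
  simp

include hE in
theorem mem_Qc_of_ρ {e : ↥E} (he : c.ρ e = 1) : (e : G) ∈ Qc p E := by
  refine mem_Qc_of_trivial hE e.2 fun y hy => (c.zero _ ?_).1 ?_
  · rw [commutatorElement_def]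
    exact mul_mem (conj_mem (le_normalizer e.2) hy) (inv_mem hy)
  · rw [commutatorElement_def, c.add _ (conj_mem (le_normalizer e.2) hy) _ (inv_mem hy), c.act e y hy, he,
      c.v_inv hy]
    simp

include hE in
theorem ρ_Qc {e : ↥E} (he : (e : G) ∈ Qc p E) : c.ρ e = 1 :=
  c.ρ_of_centralizes (Qc_le_centralizer_WE hE he)

include hE in
/-- Equal matrices act equally. -/
theorem conj_eq_of_ρ {e e' : ↥E} (h : c.ρ e = c.ρ e') {y : G} (hy : y ∈ WE p E) :
    (e : G) * y * (e : G)⁻¹ = e' * y * (e' : G)⁻¹ := by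
  have h1 : ((e'⁻¹ * e : ↥E) : G) ∈ centralizer (WE p E : Set G) :=
    Qc_le_centralizer_WE hE (c.mem_Qc_of_ρ hE (by rw [map_mul, map_inv, h, inv_mul_cancel]))
  have h2 := mem_centralizer_iff.1 h1 y hy
  simp only [Subgroup.coe_mul, InvMemClass.coe_inv] at h2
  calc (e : G) * y * (e : G)⁻¹ = e' * (((e' : G)⁻¹ * e) * y) * (e : G)⁻¹ := by group
    _ = _ := by rw [← h2]; group

omit hp in
theorem v_pow {y : G} (hy : y ∈ WE p E) (k : ℕ) : c.v (y ^ k) = (k : F) • c.v y := by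
  induction k with
  | zero => simp [c.v_one]
  | succ k ih => rw [pow_succ, c.add _ (pow_mem hy k) _ hy, ih, Nat.cast_succ, add_smul, one_smul]

end Coord

/-- The abelian quotient of `SL(2, F)` has exponent `p`. -/
theorem mem_commutator_of_coprime [CharP F p] {s : SpecialLinearGroup (Fin 2) F} (hs : (orderOf s).Coprime p) :
    s ∈ commutator (SpecialLinearGroup (Fin 2) F) := by
  set X : Subgroup (SpecialLinearGroup (Fin 2) F) :=
    ((powMonoidHom p).comp (Abelianization.of (G := SpecialLinearGroup (Fin 2) F))).ker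
  have hup : ∀ x : F, ∀ n : ℕ, upU x ^ n = upU ((n : F) * x) := fun x n => by
    induction n with
    | zero => simp [upU_zero]
    | succ n ih => rw [pow_succ, ih, ← upU_add]; congr 1; push_cast; ring
  have hlo : ∀ x : F, ∀ n : ℕ, loU x ^ n = loU ((n : F) * x) := fun x n => by
    induction n with
    | zero => simp [loU_zero]
    | succ n ih => rw [pow_succ, ih, ← loU_add]; congr 1; push_cast; ring
  have htop : X = ⊤ := LAE62.eq_top_of_unipotents X
    (fun x => by
      show Abelianization.of (upU x) ^ p = 1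
      rw [← map_pow, hup, CharP.cast_eq_zero, zero_mul, upU_zero, map_one])
    (fun x => by
      show Abelianization.of (loU x) ^ p = 1
      rw [← map_pow, hlo, CharP.cast_eq_zero, zero_mul, loU_zero, map_one])
  have h1 : Abelianization.of s ^ p = 1 := show s ∈ X from htop ▸ mem_top s
  have h2 : orderOf (Abelianization.of s) = 1 :=
    Nat.eq_one_of_dvd_coprimes hs (orderOf_map_dvd _ s) (orderOf_dvd_of_pow_eq_one h1)
  rw [← Abelianization.ker_of]
  exact orderOf_eq_one_iff.1 h2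

/-- The blocks over prime fields with two and three elements. -/
theorem small_module [Fintype F] (hE : BlockSetting S E) (c : Coord p E F) (hcard : Fintype.card F = p)
    (hp23 : p = 2 ∨ p = 3) :
    WE p E ⊓ centralizer (E : Set G) = ⊥ ∧
      ∀ f ∈ ⁅normalizer (E : Set G), normalizer (E : Set G)⁆, (orderOf f).Coprime p →
        f ∈ E ⊔ centralizer (WE p E : Set G) := by
  haveI : CharP F p := charP_of_card_eq_prime_pow (f := 1) (by rw [pow_one, hcard])
  have hfix : WE p E ⊓ centralizer (E : Set G) = ⊥ := by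
    haveI : IsMulCommutative ↥(Wc p E) := ⟨⟨fun a b => Subtype.ext (omegaOneCenter_comm a.2 b.2)⟩⟩
    refine LAE60.commutator_inf_centralizer_eq_bot (p := p)
      (Qc_isPGroup.to_le (omegaOneCenter_le _)) (E_le_normalizer_Wc hE) fun e he ⟨i, hi⟩ => ?_
    have h2 : e ^ (if p = 2 then 3 else 4) ∈ Qc p E := by
      refine c.mem_Qc_of_ρ hE (e := (⟨e, he⟩ : ↥E) ^ _) ?_
      rw [map_pow]
      exact pow_of_commutator_small hcard hp23 (c.range.le ⟨⟨e, he⟩, rfl⟩)
    refine Qc_le_centralizer_Wc (LAE62.mem_of_pow_coprime ?_ h2 (hi ▸ one_mem _ : e ^ p ^ i ∈ Qc p E))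
    rcases hp23 with rfl | rfl
    · exact Nat.Coprime.pow_right _ (by norm_num)
    · exact Nat.Coprime.pow_right _ (by norm_num)
  refine ⟨hfix, ?_⟩
  have hinj : ∀ {a b : G}, a ∈ WE p E → b ∈ WE p E → c.v a = c.v b → a = b := fun ha hb h =>
    inv_mul_eq_one.1 (mem_bot.1 (hfix ▸ ⟨(WE p E).mul_mem ((WE p E).inv_mem ha) hb, c.div_mem ha hb h⟩))
  choose b hb hbv using fun j : Fin 2 => c.surj (Pi.single j 1)
  have hnat : ∀ x : F, ∃ k : ℕ, (k : F) = x := fun x => by
    let e : ZMod p ≃+* F := ZMod.ringEquivOfPrime F hp.1 hcard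
    exact ⟨(e.symm x).val, by rw [← map_natCast e, ZMod.natCast_val, ZMod.cast_id, e.apply_symm_apply]⟩
  let M : G → Matrix (Fin 2) (Fin 2) F := fun g => Matrix.of fun i j => c.v (g * b j * g⁻¹) i
  have hM : ∀ g ∈ normalizer (E : Set G), ∀ y ∈ WE p E, c.v (g * y * g⁻¹) = M g *ᵥ c.v y := by
    intro g hg y hy
    obtain ⟨k0, hk0⟩ := hnat (c.v y 0)
    obtain ⟨k1, hk1⟩ := hnat (c.v y 1)
    have hy' : y = b 0 ^ k0 * b 1 ^ k1 := hinj hy (mul_mem (pow_mem (hb 0) _) (pow_mem (hb 1) _)) (by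
      rw [c.add _ (pow_mem (hb 0) _) _ (pow_mem (hb 1) _), c.v_pow (hb 0), c.v_pow (hb 1), hbv, hbv, hk0, hk1]
      ext i; fin_cases i <;> simp)
    conv_lhs => rw [hy', c.v_conj_add hg (pow_mem (hb 0) _) (pow_mem (hb 1) _), ← conj_pow, ← conj_pow,
      c.v_pow (Coord.conj_mem hg (hb 0)), c.v_pow (Coord.conj_mem hg (hb 1)), hk0, hk1]
    ext i
    simp [M, mulVec, dotProduct, Fin.sum_univ_two, mul_comm]
  have hext : ∀ A B : Matrix (Fin 2) (Fin 2) F, (∀ y ∈ WE p E, A *ᵥ c.v y = B *ᵥ c.v y) → A = B :=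
    fun A B h => Matrix.ext_iff_mulVec.2 fun x => by obtain ⟨y, hy, rfl⟩ := c.surj x; exact h y hy
  let μ : ↥(normalizer (E : Set G)) →* Matrix (Fin 2) (Fin 2) F :=
    { toFun := fun g => M g
      map_one' := hext _ _ fun y hy => by
        show M ((1 : ↥(normalizer (E : Set G))) : G) *ᵥ _ = _
        rw [OneMemClass.coe_one, ← hM _ (one_mem _) y hy]; simp
      map_mul' := fun g h => hext _ _ fun y hy => by
        rw [← mulVec_mulVec, ← hM h h.2 y hy, ← hM g g.2 _ (Coord.conj_mem h.2 hy), ← hM _ (g * h).2 y hy]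
        simp only [Subgroup.coe_mul]
        congr 1; group }
  let δ : ↥(normalizer (E : Set G)) →* Fˣ := (Matrix.detMonoidHom.comp μ).toHomUnits
  intro f hf hcop
  have hle : (⁅normalizer (E : Set G), normalizer (E : Set G)⁆ : Subgroup G) ≤
      δ.ker.map (normalizer (E : Set G)).subtype := commutator_le.2 fun x hx y hy =>
    ⟨⁅(⟨x, hx⟩ : ↥(normalizer (E : Set G))), ⟨y, hy⟩⁆, by
      rw [SetLike.mem_coe, MonoidHom.mem_ker, map_commutatorElement, commutatorElement_eq_one_iff_mul_comm,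
        mul_comm], rfl⟩
  obtain ⟨g, hg, rfl⟩ := hle hf
  have hdet : ∀ x : ↥δ.ker, (μ x).det = 1 := fun x => congrArg Units.val x.2
  let ν : ↥δ.ker →* SpecialLinearGroup (Fin 2) F :=
    { toFun := fun x => ⟨μ x, hdet x⟩
      map_one' := Subtype.ext (map_one μ)
      map_mul' := fun x y => Subtype.ext (map_mul μ _ _) }
  have hs : (orderOf (ν ⟨g, hg⟩)).Coprime p := by
    refine Nat.Coprime.coprime_dvd_left (orderOf_map_dvd ν _) ?_
    rw [orderOf_mk, ← orderOf_coe g]
    exact hcop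
  obtain ⟨e, he⟩ := c.range.ge (mem_commutator_of_coprime hs)
  show (g : G) ∈ _
  rw [show (g : G) = (e : G) * ((e : G)⁻¹ * g) by group]
  refine mul_mem_sup e.2 (mem_centralizer_iff.2 fun y hy => ?_)
  have h : (e : G) * y * (e : G)⁻¹ = g * y * (g : G)⁻¹ := hinj (Coord.conj_mem (le_normalizer e.2) hy)
    (Coord.conj_mem g.2 hy) (by rw [c.act e y hy, hM g g.2 y hy, he]; rfl)
  calc y * ((e : G)⁻¹ * g) = (e : G)⁻¹ * ((e : G) * y * (e : G)⁻¹) * g := by group
    _ = (e : G)⁻¹ * g * y := by rw [h]; group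

end Cfsg.Agent.LAE79
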