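import Mathlib
import Cfsg.Agent.LAE79.BlockCoord
import Cfsg.Agent.LAE62.SubnormalSylow

/-!
The fixed line of a Sylow subgroup of a linear block over a field with at least four elements.
-/

set_option autoImplicit false

open Subgroup Matrix
open scoped commutatorElement

namespace Cfsg.Agent.LAE79

open LAE62 LAE62.BlockCent LAE62.Baumann

variable {G : Type*} [Group G] [Finite G] {p : ℕ} [hp : Fact p.Prime]
variable {S : Sylow p G} {E : Subgroup G} {F : Type} [Field F] [Fintype F]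

/-- A linear block over a field with at least four elements. -/
structure Line (p : ℕ) (S : Sylow p G) (E : Subgroup G) (F : Type) [Field F] [Fintype F] extends Coord p E F where
  hE : BlockSetting S E
  sE : E.IsSubnormal
  chF : CharP F p
  four : 4 ≤ Fintype.card F

omit [Fintype F] in
theorem fixed_dep {m : SpecialLinearGroup (Fin 2) F} (hm : m ≠ 1) {x x' : Fin 2 → F}
    (hx : (m : Matrix (Fin 2) (Fin 2) F) *ᵥ x = x) (hx' : (m : Matrix (Fin 2) (Fin 2) F) *ᵥ x' = x') :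
    x 0 * x' 1 = x 1 * x' 0 := by
  by_contra hd
  refine hm (Subtype.ext ?_)
  have hd' : x 0 * x' 1 - x 1 * x' 0 ≠ 0 := sub_ne_zero.2 hd
  have a0 := congrFun hx 0; have a1 := congrFun hx 1
  have b0 := congrFun hx' 0; have b1 := congrFun hx' 1
  simp [mulVec, dotProduct, Fin.sum_univ_two] at a0 a1 b0 b1
  have e00 : (m : Matrix (Fin 2) (Fin 2) F) 0 0 = 1 :=
    mul_right_cancel₀ hd' (by linear_combination x' 1 * a0 - x 1 * b0)
  have e01 : (m : Matrix (Fin 2) (Fin 2) F) 0 1 = 0 :=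
    mul_right_cancel₀ hd' (by linear_combination x 0 * b0 - x' 0 * a0)
  have e10 : (m : Matrix (Fin 2) (Fin 2) F) 1 0 = 0 :=
    mul_right_cancel₀ hd' (by linear_combination x' 1 * a1 - x 1 * b1)
  have e11 : (m : Matrix (Fin 2) (Fin 2) F) 1 1 = 1 :=
    mul_right_cancel₀ hd' (by linear_combination x 0 * b1 - x' 0 * a1)
  ext i j
  fin_cases i <;> fin_cases j <;> simp [e00, e01, e10, e11]

omit [Fintype F] in
theorem mul_mulVec_SL (A B : SpecialLinearGroup (Fin 2) F) (x : Fin 2 → F) :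
    ((A * B : SpecialLinearGroup (Fin 2) F) : Matrix (Fin 2) (Fin 2) F) *ᵥ x =
      (A : Matrix (Fin 2) (Fin 2) F) *ᵥ ((B : Matrix (Fin 2) (Fin 2) F) *ᵥ x) :=
  (mulVec_mulVec x (A : Matrix (Fin 2) (Fin 2) F) (B : Matrix (Fin 2) (Fin 2) F)).symm

namespace Line

variable (c : Line p S E F)

theorem surjρ : Function.Surjective c.ρ := fun m => by
  have h := c.range.ge
  rw [(sl2_large c.four).1] at h
  exact h (mem_top m)

/-- The preimage of the stabilizer of the first basis vector. -/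
def S0 : Subgroup G :=
  ({ carrier := {e | (c.ρ e : Matrix (Fin 2) (Fin 2) F) *ᵥ ![1, 0] = ![1, 0]}
     one_mem' := by simp
     mul_mem' := fun {a b} ha hb => by
       simp only [Set.mem_setOf_eq] at ha hb ⊢
       simp [map_mul, ← mulVec_mulVec, hb, ha]
     inv_mem' := fun {a} ha => by
       simp only [Set.mem_setOf_eq] at ha ⊢
       have h1 : ((c.ρ a⁻¹ * c.ρ a : SpecialLinearGroup (Fin 2) F) : Matrix (Fin 2) (Fin 2) F) *ᵥ ![1, 0] =
           ![1, 0] := by rw [← map_mul, inv_mul_cancel, map_one]; simp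
       have h2 := (mul_mulVec_SL _ _ _).symm.trans h1
       rwa [ha] at h2 } : Subgroup ↥E).map E.subtype

theorem S0_le : c.S0 ≤ E := map_subtype_le _

theorem mem_S0 (e : ↥E) : (e : G) ∈ c.S0 ↔ ∃ t, c.ρ e = upU t := by
  constructor
  · rintro ⟨e', he', he''⟩
    obtain rfl : e' = e := Subtype.ext he''
    refine ⟨c.ρ e' 0 1, Subtype.ext ?_⟩
    have hd := (c.ρ e').2
    rw [det_fin_two] at hd
    have e0 := congrFun (show (c.ρ e' : Matrix (Fin 2) (Fin 2) F) *ᵥ ![1, 0] = ![1, 0] from he') 0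
    have e1 := congrFun (show (c.ρ e' : Matrix (Fin 2) (Fin 2) F) *ᵥ ![1, 0] = ![1, 0] from he') 1
    simp [mulVec, dotProduct, Fin.sum_univ_two] at e0 e1
    rw [e0, e1, one_mul, mul_zero, sub_zero] at hd
    ext i j
    fin_cases i <;> fin_cases j <;> simp [upU_coe, e0, e1, hd]
  · rintro ⟨t, ht⟩
    refine ⟨e, ?_, rfl⟩
    show (c.ρ e : Matrix (Fin 2) (Fin 2) F) *ᵥ ![1, 0] = ![1, 0]
    rw [ht, upU_coe]
    ext i; fin_cases i <;> simp [mulVec, dotProduct, Fin.sum_univ_two]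

theorem exists_upU (t : F) : ∃ e : ↥E, (e : G) ∈ c.S0 ∧ c.ρ e = upU t := by
  obtain ⟨e, he⟩ := c.surjρ (upU t)
  exact ⟨e, (c.mem_S0 e).2 ⟨t, he⟩, he⟩

theorem Qc_le_S0 : Qc p E ≤ c.S0 := fun q hq =>
  (c.mem_S0 ⟨q, Qc_le hq⟩).2 ⟨0, by
    rw [upU_zero]; exact c.ρ_of_centralizes (Qc_le_centralizer_WE c.hE hq)⟩

theorem S0_isPGroup : IsPGroup p c.S0 := by
  haveI := c.chF
  rintro ⟨g, hg⟩
  obtain ⟨t, ht⟩ := (c.mem_S0 ⟨g, c.S0_le hg⟩).1 hg
  have hup : ∀ n : ℕ, upU t ^ n = upU ((n : F) * t) := fun n => by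
    induction n with
    | zero => simp [upU_zero]
    | succ n ih => rw [pow_succ, ih, ← upU_add]; congr 1; push_cast; ring
  have h1 : ((⟨g, c.S0_le hg⟩ : ↥E) ^ p : ↥E).1 ∈ Qc p E := c.mem_Qc_of_ρ c.hE (by
    rw [map_pow, ht, hup, CharP.cast_eq_zero, zero_mul, upU_zero])
  obtain ⟨k, hk⟩ := Qc_isPGroup (p := p) ⟨_, h1⟩
  refine ⟨1 + k, Subtype.ext ?_⟩
  have hk' : (g ^ p) ^ p ^ k = 1 := by simpa using congrArg Subtype.val hk
  show g ^ p ^ (1 + k) = 1
  rw [pow_add, pow_one, pow_mul, hk']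

theorem exists_fixed {K : Subgroup G} (hK : K ≤ E) (hKp : IsPGroup p K) :
    ∃ x : Fin 2 → F, x ≠ 0 ∧ ∀ e : ↥E, (e : G) ∈ K → (c.ρ e : Matrix (Fin 2) (Fin 2) F) *ᵥ x = x := by
  haveI := c.chF
  obtain ⟨x, hx, h⟩ := EvenLocal.Qd.exists_fixed_vector (p := p) ((K.subgroupOf E).map c.ρ)
    ((hKp.comap_of_injective E.subtype E.subtype_injective).map _)
  exact ⟨x, hx, fun e he => h _ ⟨e, mem_subgroupOf.2 he, rfl⟩⟩

theorem S0_max {K : Subgroup G} (hK : K ≤ E) (hKp : IsPGroup p K) (hle : c.S0 ≤ K) : K ≤ c.S0 := by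
  obtain ⟨x, hx, hfix⟩ := c.exists_fixed hK hKp
  obtain ⟨u, hu, hu'⟩ := c.exists_upU 1
  have h1 := congrFun (hfix u (hle hu)) 0
  rw [hu', upU_coe] at h1
  simp [mulVec, dotProduct, Fin.sum_univ_two] at h1
  have hx0 : x 0 ≠ 0 := fun h0 => hx (funext fun i => by fin_cases i <;> simp [h0, h1])
  intro g hg
  have h2 := hfix ⟨g, hK hg⟩ hg
  have hxe : x = x 0 • ![1, 0] := funext fun i => by fin_cases i <;> simp [h1]
  rw [hxe, mulVec_smul] at h2
  exact ⟨⟨g, hK hg⟩, smul_right_injective _ hx0 h2, rfl⟩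

theorem exists_conj (T : Sylow p G) : ∃ e ∈ E, ((T : Subgroup G) ⊓ E).map (cj e) = c.S0 := by
  obtain ⟨x, hx, hfix⟩ := c.exists_fixed (inf_le_right : (T : Subgroup G) ⊓ E ≤ E) (T.2.to_le inf_le_left)
  obtain ⟨A, hA⟩ := EvenLocal.Qd.exists_mulVec_eq hx
  obtain ⟨e, he⟩ := c.surjρ A⁻¹
  refine ⟨e, e.2, eq_of_le_of_card_ge ?_ ?_⟩
  · rintro _ ⟨g, hg, rfl⟩
    refine ⟨e * ⟨g, hg.2⟩ * e⁻¹, ?_, rfl⟩
    show (c.ρ (e * ⟨g, hg.2⟩ * e⁻¹) : Matrix (Fin 2) (Fin 2) F) *ᵥ ![1, 0] = ![1, 0]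
    have h1 : ((A⁻¹ * A : SpecialLinearGroup (Fin 2) F) : Matrix (Fin 2) (Fin 2) F) *ᵥ ![1, 0] = ![1, 0] := by
      rw [inv_mul_cancel]; simp
    replace h1 := (mul_mulVec_SL _ _ _).symm.trans h1
    rw [hA] at h1
    rw [map_mul, map_mul, map_inv, he, inv_inv]
    refine (mul_mulVec_SL _ _ _).trans ?_
    rw [hA]
    refine (mul_mulVec_SL _ _ _).trans ?_
    rw [hfix ⟨g, hg.2⟩ hg, h1]
  · obtain ⟨T2, hT2⟩ := c.S0_isPGroup.exists_le_sylow
    refine (card_le_of_le (le_inf hT2 c.S0_le)).trans ?_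
    rw [card_map_of_injective (cj_injective _), card_inf_sylow_of_isSubnormal c.sE T2,
      card_inf_sylow_of_isSubnormal c.sE T]

/-- The normalizer of `S0` in the block. -/
abbrev N0 : Subgroup G := E ⊓ normalizer (c.S0 : Set G)

/-- The fixed points of `S0` on the module. -/
abbrev A0 : Subgroup G := WE p E ⊓ centralizer (c.S0 : Set G)

/-- The fixed line. -/
abbrev M0 : Subgroup G := ⁅c.A0, c.N0⁆

/-- The stabilizer of the block and of `S0`. -/
abbrev N1 : Subgroup G := normalizer (E : Set G) ⊓ normalizer (c.S0 : Set G)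

theorem upper_mem_N0 (e : ↥E) (h : c.ρ e 1 0 = 0) : (e : G) ∈ c.N0 := by
  refine ⟨e.2, LAE62.mem_normalizer_of_conj_mem fun s hs => ?_⟩
  obtain ⟨t, ht⟩ := (c.mem_S0 ⟨s, c.S0_le hs⟩).1 hs
  exact (c.mem_S0 (e * ⟨s, c.S0_le hs⟩ * e⁻¹)).2 ⟨_, by rw [map_mul, map_mul, map_inv, ht, conj_upU_of_zero h]⟩

theorem N0_upper {e : ↥E} (h : (e : G) ∈ c.N0) : c.ρ e 1 0 = 0 := by
  obtain ⟨u, hu, hu'⟩ := c.exists_upU 1
  obtain ⟨t, ht⟩ := (c.mem_S0 (e * u * e⁻¹)).1 ((mem_normalizer_iff.1 h.2 _).1 hu)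
  rw [map_mul, map_mul, map_inv, hu'] at ht
  have h1 := congrArg (fun m : SpecialLinearGroup (Fin 2) F => m 1 0) ht
  simp only [conj_upU] at h1
  simpa [upU_coe] using h1

theorem exists_torus {a : F} (ha : a ≠ 0) : ∃ e : ↥E, (e : G) ∈ c.N0 ∧ c.ρ e = hU a := by
  obtain ⟨e, he⟩ := c.surjρ (hU a)
  exact ⟨e, c.upper_mem_N0 e (by rw [he, hU_coe ha]; simp), he⟩

theorem S0_le_N0 : c.S0 ≤ c.N0 := le_inf c.S0_le le_normalizer

theorem N1_le_normalizer_M0 : c.N1 ≤ normalizer (c.M0 : Set G) :=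
  (le_inf ((le_inf (inf_le_left.trans (normalizer_le_normalizer_module p E))
      (inf_le_right.trans (normalizer_le_normalizer_centralizer _))).trans inf_normalizer_le_normalizer_inf)
    ((le_inf inf_le_left (inf_le_right.trans le_normalizer)).trans inf_normalizer_le_normalizer_inf)).trans
    (normalizer_inf_le_normalizer_commutator _ _)

theorem N0_le_normalizer_A0 : c.N0 ≤ normalizer (c.A0 : Set G) :=
  (le_inf (inf_le_left.trans E_le_L) (inf_le_right.trans (normalizer_le_normalizer_centralizer _))).trans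
    inf_normalizer_le_normalizer_inf

theorem M0_le : c.M0 ≤ c.A0 := Modules.commutator_le_of_normalizes c.N0_le_normalizer_A0

theorem M0_inf : c.M0 ⊓ centralizer (E : Set G) = ⊥ := by
  haveI : IsMulCommutative ↥c.A0 :=
    ⟨⟨fun a b => Subtype.ext (omegaOneCenter_comm (WE_le_Wc c.hE a.2.1) (WE_le_Wc c.hE b.2.1))⟩⟩
  refine eq_bot_iff.2 ((inf_le_inf_left _ (centralizer_le (inf_le_left : c.N0 ≤ E))).trans
    (LAE60.commutator_inf_centralizer_eq_bot (p := p) ((WE_isPGroup c.hE).to_le inf_le_left)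
      c.N0_le_normalizer_A0 fun n hn ⟨k, hk⟩ => ?_).le)
  have hz : IsPGroup p (zpowers n) := by
    refine IsPGroup.of_card (n := (Nat.card (zpowers n)).factorization p) ?_
    rw [Nat.card_zpowers]
    obtain ⟨i, -, hi⟩ := (Nat.dvd_prime_pow hp.1).1 (orderOf_dvd_of_pow_eq_one hk)
    rw [hi, Nat.factorization_pow, hp.1.factorization]; simp
  have h := c.S0_max (sup_le c.S0_le (zpowers_le.2 hn.1))
    (IsPGroup.to_sup_of_normal_left' c.S0_isPGroup hz (zpowers_le.2 hn.2)) le_sup_left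
    (mem_sup_right (mem_zpowers n))
  exact mem_centralizer_iff.2 fun y hy => (mem_centralizer_iff.1 hy.2 n h).symm

theorem v_A0 {y : G} (hy : y ∈ c.A0) : c.v y 1 = 0 := by
  obtain ⟨u, hu, hu'⟩ := c.exists_upU 1
  have h := c.act u y hy.1
  rw [mem_centralizer_iff.1 hy.2 _ hu, mul_inv_cancel_right, hu', upU_coe] at h
  have h0 := congrFun h 0
  simpa [mulVec, dotProduct, Fin.sum_univ_two] using h0

theorem M0_mem_WE {y : G} (hy : y ∈ c.M0) : y ∈ WE p E := (c.M0_le hy).1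

theorem M0_eq {a b : G} (ha : a ∈ c.M0) (hb : b ∈ c.M0) (h : c.v a 0 = c.v b 0) : a = b := by
  refine inv_mul_eq_one.1 (mem_bot.1 (c.M0_inf ▸ ⟨c.M0.mul_mem (c.M0.inv_mem ha) hb,
    c.div_mem (c.M0_mem_WE ha) (c.M0_mem_WE hb) (funext fun i => ?_)⟩))
  fin_cases i
  · exact h
  · simp [c.v_A0 (c.M0_le ha), c.v_A0 (c.M0_le hb)]

/-- The central element of a Sylow subgroup forces the line to be nontrivial. -/
theorem M0_ne : c.M0 ≠ ⊥ := by
  intro hbot
  haveI := c.chF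
  obtain ⟨e₁, he₁, hmap⟩ := c.exists_conj S
  have hz : ∃ z ∈ Z1 p G, z ∈ centralizer (c.S0 : Set G) ∧ z ∉ centralizer (E : Set G) := by
    by_contra hall
    push Not at hall
    refine c.hE.block.2.2.2.1 ?_
    rw [commutator_comm, commutator_eq_bot_iff_le_centralizer]
    refine (closure_le _).2 fun x hx => ?_
    have hxc : x ∈ centralizer (Cfsg.pCore p G : Set G) :=
      centralizer_le (Cores.pCore_le_sylow S) hx.1.2
    have hxZ : x ∈ Z1 p G := subset_closure ⟨⟨c.hE.char hxc, hxc⟩, hx.2⟩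
    have h1 := hall (e₁ * x * e₁⁻¹) (Z1_normal.conj_mem x hxZ e₁) ?_
    · refine mem_centralizer_iff.2 fun e he => ?_
      have h2 := mem_centralizer_iff.1 h1 (e₁ * e * e₁⁻¹) (E.mul_mem (E.mul_mem he₁ he) (E.inv_mem he₁))
      calc e * x = e₁⁻¹ * ((e₁ * e * e₁⁻¹) * (e₁ * x * e₁⁻¹)) * e₁ := by group
        _ = e₁⁻¹ * ((e₁ * x * e₁⁻¹) * (e₁ * e * e₁⁻¹)) * e₁ := by rw [h2]
        _ = _ := by group
    · rw [← hmap]
      refine mem_centralizer_iff.2 ?_
      rintro _ ⟨s, hs, rfl⟩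
      have h3 := mem_centralizer_iff.1 hx.1.2 s hs.1
      rw [cj_apply]
      calc e₁ * s * e₁⁻¹ * (e₁ * x * e₁⁻¹) = e₁ * (s * x) * e₁⁻¹ := by group
        _ = _ := by rw [h3]; group
  obtain ⟨z, hzZ, hzS, hzE⟩ := hz
  have hA0 : ∀ n ∈ c.N0, ∀ y ∈ c.A0, Commute n y := fun n hn y hy => by
    have h := commutatorElement_eq_one_iff_mul_comm.1
      (mem_bot.1 (hbot ▸ commutator_mem_commutator hy hn : ⁅y, n⁆ ∈ (⊥ : Subgroup G)))
    exact h.symm
  have hcop : ∀ n ∈ c.N0, (orderOf n).Coprime p → ⁅n, z⁆ = 1 := fun n hn hn' => by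
    have h1 : ⁅n, z⁆ ∈ WE p E := comm_Z1_mem c.hE c.sE hn.1 hzZ
    refine comm_eq_one_of_coprime (WE_isPGroup c.hE) hn' h1 (hA0 n hn _ ⟨h1, mem_centralizer_iff.2 fun s hs => ?_⟩)
    have hs' : n⁻¹ * s * n ∈ c.S0 := (mem_normalizer_iff''.1 hn.2 _).1 hs
    have c1 : Commute (n⁻¹ * s * n) z := mem_centralizer_iff.1 hzS _ hs'
    have c2 : Commute s z := mem_centralizer_iff.1 hzS _ hs
    have c3 : Commute s (n * z * n⁻¹) := by
      have := c1.map (MulAut.conj n).toMonoidHom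
      simpa [MulAut.conj_apply, mul_assoc] using this
    rw [commutatorElement_def]
    exact (c3.mul_right c2.inv_right).eq
  -- a torus element of order prime to `p`
  obtain ⟨a, ha⟩ : ∃ a : Fˣ, a ≠ 1 := by
    classical
    haveI : Nontrivial Fˣ := Fintype.one_lt_card_iff_nontrivial.1 (by
      rw [Fintype.card_units]; have := c.four; omega)
    exact exists_ne 1
  obtain ⟨w, hw⟩ := c.surjρ (wU 1)
  obtain ⟨t0, ht0, ht0'⟩ := c.exists_torus a.ne_zero
  obtain ⟨k, hk, j, rfl⟩ := commute_pow_of_quotient (p := p) (t0 : G)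
  set t := t0 ^ p ^ j with ht
  have hρt : ∃ a' : F, a' ≠ 0 ∧ a' ≠ 1 ∧ c.ρ t = hU a' := by
    refine ⟨(a : F) ^ p ^ j, pow_ne_zero _ a.ne_zero, fun h => ha (Units.ext ?_), ?_⟩
    · exact iterateFrobenius_inj F p j (by simpa [iterateFrobenius_def] using h)
    · rw [ht, map_pow, ht0']
      induction p ^ j with
      | zero => rw [pow_zero, pow_zero]; exact (Subtype.ext (by rw [hU_coe one_ne_zero]; simp [Matrix.one_fin_two])).symm
      | succ n ih => rw [pow_succ, pow_succ, ih, ← hU_mul (pow_ne_zero _ a.ne_zero) a.ne_zero]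
  obtain ⟨a', ha0, ha1, hρt⟩ := hρt
  have hcop_t : (orderOf (t : G)).Coprime p := by simpa [ht] using hk
  have htN : (t : G) ∈ c.N0 := c.upper_mem_N0 t (by rw [hρt, hU_coe ha0]; simp)
  have hwt : ((w⁻¹ * t * w : ↥E) : G) ∈ c.N0 ∧ (orderOf ((w⁻¹ * t * w : ↥E) : G)).Coprime p := by
    refine ⟨c.upper_mem_N0 _ ?_, ?_⟩
    · rw [map_mul, map_mul, map_inv, hw, hρt]
      show ((((wU (1 : F))⁻¹ : SpecialLinearGroup (Fin 2) F) : Matrix (Fin 2) (Fin 2) F) *
        (hU a' : Matrix (Fin 2) (Fin 2) F) * (wU (1 : F) : Matrix (Fin 2) (Fin 2) F)) 1 0 = 0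
      rw [wU_inv_coe one_ne_zero, wU_coe one_ne_zero, hU_coe ha0]
      simp [Matrix.mul_apply, Fin.sum_univ_two]
    · have : orderOf ((w⁻¹ * t * w : ↥E) : G) = orderOf (t : G) := by
        rw [show ((w⁻¹ * t * w : ↥E) : G) = MulAut.conj (w : G)⁻¹ (t : G) by simp [MulAut.conj_apply],
          MulEquiv.orderOf_eq]
      rwa [this]
  have hwz : ⁅(w : G), z⁆ ∈ centralizer (E : Set G) := by
    have h1 : ⁅(w : G), z⁆ ∈ WE p E := comm_Z1_mem c.hE c.sE w.2 hzZ
    have c1 := commutatorElement_eq_one_iff_mul_comm.1 (hcop _ hwt.1 hwt.2)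
    have c2 : Commute (t : G) z := commutatorElement_eq_one_iff_mul_comm.1 (hcop _ htN hcop_t)
    have c3 : Commute (t : G) ((w : G) * z * (w : G)⁻¹) := by
      have := Commute.map (c1 : Commute ((w⁻¹ * t * w : ↥E) : G) z) (MulAut.conj (w : G)).toMonoidHom
      simpa [MulAut.conj_apply, mul_assoc] using this
    have c4 : Commute (t : G) ⁅(w : G), z⁆ := by rw [commutatorElement_def]; exact c3.mul_right c2.inv_right
    refine (c.zero _ h1).1 ?_
    have h2 := c.act t _ h1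
    rw [c4.eq, mul_inv_cancel_right, hρt, hU_coe ha0] at h2
    have e0 := congrFun h2 0
    have e1 := congrFun h2 1
    simp [mulVec, dotProduct, Fin.sum_univ_two] at e0 e1
    ext i
    fin_cases i
    · by_contra hne
      exact ha1 (mul_right_cancel₀ (b := c.v ⁅(w : G), z⁆ 0) hne (by rw [one_mul]; exact e0.symm))
    · by_contra hne
      exact ha1 (inv_eq_one.1 (mul_right_cancel₀ (b := c.v ⁅(w : G), z⁆ 1) hne (by rw [one_mul]; exact e1.symm)))
  -- the elements fixing `z` modulo the fixed points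
  have hEC : E ≤ normalizer ((centralizer (E : Set G) : Subgroup G) : Set G) :=
    le_normalizer.trans (Modules.normalizes_centralizer le_rfl)
  let X : Subgroup ↥E :=
    { carrier := {e | ⁅(e : G), z⁆ ∈ centralizer (E : Set G)}
      one_mem' := by simp
      mul_mem' := fun {a b} ha hb => by
        simp only [Set.mem_setOf_eq] at ha hb ⊢
        rw [Subgroup.coe_mul, show ⁅(a : G) * b, z⁆ = a * ⁅(b : G), z⁆ * (a : G)⁻¹ * ⁅(a : G), z⁆ by
          simp only [commutatorElement_def]; group]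
        exact mul_mem ((mem_normalizer_iff.1 (hEC a.2) _).1 hb) ha
      inv_mem' := fun {a} ha => by
        simp only [Set.mem_setOf_eq] at ha ⊢
        rw [InvMemClass.coe_inv, show ⁅(a : G)⁻¹, z⁆ = (a : G)⁻¹ * ⁅(a : G), z⁆⁻¹ * a by
          simp only [commutatorElement_def]; group]
        exact (mem_normalizer_iff''.1 (hEC a.2) _).1 (inv_mem ha) }
  have hS0X : ∀ e : ↥E, (e : G) ∈ c.S0 → e ∈ X := fun e he => by
    show ⁅(e : G), z⁆ ∈ centralizer (E : Set G)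
    rw [commutatorElement_eq_one_iff_mul_comm.2 (mem_centralizer_iff.1 hzS _ he)]
    exact one_mem _
  have hX : X.map c.ρ = ⊤ := by
    have hu : ∀ x, upU x ∈ X.map c.ρ := fun x => by
      obtain ⟨e, he, hx⟩ := c.exists_upU x
      exact ⟨e, hS0X e he, hx⟩
    refine LAE62.eq_top_of_unipotents _ hu fun x => ?_
    have hwX : wU 1 ∈ X.map c.ρ := ⟨w, hwz, hw⟩
    have h1 := (X.map c.ρ).mul_mem ((X.map c.ρ).inv_mem hwX) ((X.map c.ρ).mul_mem (hu (-x)) hwX)
    rw [upU_mul_wU one_ne_zero, inv_mul_cancel_left] at h1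
    simpa using h1
  refine hzE (mem_centralizer_iff.2 fun e he => commutatorElement_eq_one_iff_mul_comm.1 (mem_bot.1 ?_))
  refine stable_le (W := WE p E ⊓ centralizer (E : Set G)) (W' := ⊥) (A := {z}) c.hE.block.1
    (by rw [normalizer_eq_top]; exact le_top)
    (fun e he y hy => mem_bot.2 (commutatorElement_eq_one_iff_mul_comm.2 (mem_centralizer_iff.1 hy.2 e he)))
    (fun y hy => omegaOneCenter_pow (WE_le_Wc c.hE hy.1))
    (fun e he b hb => ?_) he rfl
  rw [show b = z from hb]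
  refine ⟨comm_Z1_mem c.hE c.sE he hzZ, ?_⟩
  obtain ⟨e', he', hee⟩ : c.ρ ⟨e, he⟩ ∈ X.map c.ρ := hX ▸ mem_top _
  have hq : ((e'⁻¹ * ⟨e, he⟩ : ↥E) : G) ∈ c.S0 :=
    c.Qc_le_S0 (c.mem_Qc_of_ρ c.hE (by rw [map_mul, map_inv, hee, inv_mul_cancel]))
  have := X.mul_mem he' (hS0X _ hq)
  rw [mul_inv_cancel_left] at this
  exact this

theorem exists_M0 (x : F) : ∃ m ∈ c.M0, c.v m = ![x, 0] := by
  let T : AddSubgroup F :=
    { carrier := {x | ∃ m ∈ c.M0, c.v m = ![x, 0]}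
      zero_mem' := ⟨1, one_mem _, by rw [c.v_one]; ext i; fin_cases i <;> rfl⟩
      add_mem' := by
        rintro x y ⟨m, hm, hmx⟩ ⟨m', hm', hmy⟩
        exact ⟨_, c.M0.mul_mem hm hm', by rw [c.add _ (c.M0_mem_WE hm) _ (c.M0_mem_WE hm'), hmx, hmy]; simp⟩
      neg_mem' := by
        rintro x ⟨m, hm, hmx⟩
        exact ⟨_, c.M0.inv_mem hm, by rw [c.v_inv (c.M0_mem_WE hm), hmx]; simp⟩ }
  obtain ⟨m, hm, hm1⟩ := (c.M0.bot_or_exists_ne_one).resolve_left c.M0_ne
  have hv0 : c.v m = ![c.v m 0, 0] := funext fun i => by fin_cases i <;> simp [c.v_A0 (c.M0_le hm)]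
  have hne : c.v m 0 ≠ 0 := fun h => hm1 (c.M0_eq hm (one_mem _) (by rw [h, c.v_one]; rfl))
  have key : ∀ a : F, a ≠ 0 → ∀ x ∈ T, a * x ∈ T := by
    rintro a ha x ⟨n, hn, hnx⟩
    obtain ⟨e, he, he'⟩ := c.exists_torus ha
    refine ⟨e * n * (e : G)⁻¹, (mem_normalizer_iff.1 (c.N1_le_normalizer_M0 ⟨le_normalizer e.2, he.2⟩) _).1 hn, ?_⟩
    rw [c.act e n (c.M0_mem_WE hn), hnx, he', hU_coe ha]
    ext i; fin_cases i <;> simp [mulVec, dotProduct, Fin.sum_univ_two]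
  by_cases hx : x = 0
  · subst hx; exact T.zero_mem
  · have := key (x / c.v m 0) (div_ne_zero hx hne) _ ⟨m, hm, hv0⟩
    rwa [div_mul_cancel₀ _ hne] at this

include c in
/-- The subgroup used for counting. -/
theorem exists_carrier (R : Subgroup G) (hR : IsPGroup p R) (hRE : R ≤ normalizer (E : Set G)) :
    ∃ U, Carrier p R E U := by
  obtain ⟨T1, hT1⟩ := hR.exists_le_sylow
  obtain ⟨e, he, hmap⟩ := c.exists_conj T1
  choose m hm hmv using c.exists_M0
  have hcard : Fintype.card F ≤ Nat.card ↥c.M0 := by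
    rw [← Nat.card_eq_fintype_card]
    refine Nat.card_le_card_of_injective (fun x => (⟨m x, hm x⟩ : ↥c.M0)) fun x y h => ?_
    have := congrArg (fun z : ↥c.M0 => c.v (z : G) 0) h
    simpa [hmv] using this
  refine ⟨c.M0.map (cj e⁻¹), ?_, fun r hr => ?_, eq_bot_iff.2 ?_, ?_⟩
  · rintro _ ⟨x, hx, rfl⟩
    exact (mem_normalizer_iff.1 (E_le_L (E.inv_mem he)) _).1 (c.M0_mem_WE hx)
  · have hr' : e * r * e⁻¹ ∈ c.N1 := by
      refine ⟨mul_mem (mul_mem (le_normalizer he) (hRE hr)) ((normalizer (E : Set G)).inv_mem (le_normalizer he)), ?_⟩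
      refine LAE62.mem_normalizer_of_conj_mem fun s hs => ?_
      rw [← hmap] at hs ⊢
      obtain ⟨s, hs, rfl⟩ := hs
      refine ⟨r * s * r⁻¹, ⟨(T1 : Subgroup G).mul_mem ((T1 : Subgroup G).mul_mem (hT1 hr) hs.1)
        ((T1 : Subgroup G).inv_mem (hT1 hr)), (mem_normalizer_iff.1 (hRE hr) _).1 hs.2⟩, ?_⟩
      simp [MulAut.conj_apply, mul_assoc]
    refine LAE62.mem_normalizer_of_conj_mem ?_
    rintro _ ⟨x, hx, rfl⟩
    refine ⟨e * r * e⁻¹ * x * (e * r * e⁻¹)⁻¹, (mem_normalizer_iff.1 (c.N1_le_normalizer_M0 hr') _).1 hx, ?_⟩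
    simp [MulAut.conj_apply, mul_assoc]
  · rintro _ ⟨⟨x, hx, rfl⟩, hxc⟩
    have hxC : x ∈ centralizer (E : Set G) := by
      have := (mem_normalizer_iff.1 (Modules.normalizes_centralizer le_rfl (le_normalizer he)) _).1 hxc
      simpa [MulAut.conj_apply, mul_assoc] using this
    rw [mem_bot.1 (c.M0_inf ▸ ⟨hx, hxC⟩ : x ∈ (⊥ : Subgroup G)), map_one]
    exact one_mem _
  · rw [card_map_of_injective (cj_injective _)]
    have := c.four
    omega

end Line

end Cfsg.Agent.LAE79
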