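import Mathlib
import Cfsg.Agent.LAE79.BlockLine

/-!
The Baumann subgroups induce inner automorphisms on a linear block over a field with at least four elements.
-/

set_option autoImplicit false

open Subgroup Matrix
open scoped commutatorElement Pointwise

namespace Cfsg.Agent.LAE79

open LAE62 LAE62.BlockCent LAE62.Baumann

variable {G : Type*} [Group G] [Finite G] {p : ℕ} [hp : Fact p.Prime]
variable {S : Sylow p G} {E : Subgroup G} {F : Type} [Field F] [Fintype F]

/-- The offender inequality for a subgroup of the first centre. -/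
theorem weight_module {T : Sylow p G} {A : Subgroup G} (hA : A ∈ Modules.maxElemAbIn p (T : Subgroup G))
    {M : Subgroup G} (hM : M ≤ Z1 p G) :
    Nat.card ↥M * Nat.card ↥(A ⊓ centralizer (M : Set G)) ≤
      Nat.card ↥A * Nat.card ↥(M ⊓ centralizer (A : Set G)) := by
  set C := Z1 p G ⊓ centralizer (A : Set G)
  set B := A ⊓ centralizer (M : Set G)
  have h1 := Modules.card_sup_mul_card_inf (B := C) (V := M) fun x hx => centralizer_le_normalizer' M
    (mem_centralizer_iff.2 fun d hd => omegaOneCenter_comm (hM hd) hx.1)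
  have h2 : Nat.card ↥(C ⊔ M) ≤ Nat.card ↥(Z1 p G ⊓ centralizer (B : Set G)) :=
    card_le_of_le (sup_le (le_inf inf_le_left (inf_le_right.trans (centralizer_le inf_le_left)))
      (le_inf hM (le_centralizer_iff.1 inf_le_right)))
  have h3 : Nat.card ↥(C ⊓ M) ≤ Nat.card ↥(M ⊓ centralizer (A : Set G)) :=
    card_le_of_le fun x hx => ⟨hx.2, hx.1.2⟩
  have h4 := weight_le hA (inf_le_left : B ≤ A)
  refine Nat.le_of_mul_le_mul_right ?_ (Nat.card_pos (α := ↥C))
  calc Nat.card ↥M * Nat.card ↥B * Nat.card ↥C = Nat.card ↥B * (Nat.card ↥(C ⊔ M) * Nat.card ↥(C ⊓ M)) := by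
        rw [h1]; ring
    _ ≤ Nat.card ↥B * (Nat.card ↥(Z1 p G ⊓ centralizer (B : Set G)) * Nat.card ↥(M ⊓ centralizer (A : Set G))) :=
        Nat.mul_le_mul_left _ (Nat.mul_le_mul h2 h3)
    _ = Nat.card ↥B * Nat.card ↥(Z1 p G ⊓ centralizer (B : Set G)) * Nat.card ↥(M ⊓ centralizer (A : Set G)) := by
        ring
    _ ≤ Nat.card ↥A * Nat.card ↥C * Nat.card ↥(M ⊓ centralizer (A : Set G)) := Nat.mul_le_mul_right _ h4
    _ = _ := by ring

namespace Line

variable (c : Line p S E F)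

/-- The element of the line with a given coordinate. -/
noncomputable def pt (x : F) : G := (c.exists_M0 x).choose

theorem pt_mem (x : F) : c.pt x ∈ c.M0 := (c.exists_M0 x).choose_spec.1

theorem v_pt (x : F) : c.v (c.pt x) = ![x, 0] := (c.exists_M0 x).choose_spec.2

theorem eq_pt {m : G} (hm : m ∈ c.M0) : m = c.pt (c.v m 0) := c.M0_eq hm (c.pt_mem _) (by rw [v_pt]; rfl)

theorem pt_add (x y : F) : c.pt (x + y) = c.pt x * c.pt y :=
  c.M0_eq (c.pt_mem _) (c.M0.mul_mem (c.pt_mem _) (c.pt_mem _))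
    (by rw [v_pt, c.add _ (c.M0_mem_WE (c.pt_mem _)) _ (c.M0_mem_WE (c.pt_mem _)), v_pt, v_pt]; simp)

theorem conj_pt_mem {g : G} (hg : g ∈ c.N1) (x : F) : g * c.pt x * g⁻¹ ∈ c.M0 :=
  (mem_normalizer_iff.1 (c.N1_le_normalizer_M0 hg) _).1 (c.pt_mem x)

theorem conj_pt_N0 {e : ↥E} (he : (e : G) ∈ c.N0) (x : F) :
    (e : G) * c.pt x * (e : G)⁻¹ = c.pt ((c.ρ e : Matrix (Fin 2) (Fin 2) F) 0 0 * x) := by
  refine c.M0_eq (c.conj_pt_mem ⟨le_normalizer e.2, he.2⟩ x) (c.pt_mem _) ?_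
  rw [c.act e _ (c.M0_mem_WE (c.pt_mem x)), v_pt, v_pt]
  simp [mulVec, dotProduct, Fin.sum_univ_two]

/-- The map induced on the line. -/
noncomputable def τ (g : G) (x : F) : F := c.v (g * c.pt x * g⁻¹) 0

theorem conj_pt {g : G} (hg : g ∈ c.N1) (x : F) : g * c.pt x * g⁻¹ = c.pt (c.τ g x) := c.eq_pt (c.conj_pt_mem hg x)

theorem τ_add {g : G} (hg : g ∈ c.N1) (x y : F) : c.τ g (x + y) = c.τ g x + c.τ g y := by
  simp only [τ, pt_add]
  rw [c.v_conj_add hg.1 (c.M0_mem_WE (c.pt_mem _)) (c.M0_mem_WE (c.pt_mem _))]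
  rfl

theorem τ_mul {g h : G} (hh : h ∈ c.N1) (x : F) : c.τ (g * h) x = c.τ g (c.τ h x) := by
  show c.v (g * h * c.pt x * (g * h)⁻¹) 0 = c.v (g * c.pt (c.τ h x) * g⁻¹) 0
  rw [show g * h * c.pt x * (g * h)⁻¹ = g * (h * c.pt x * h⁻¹) * g⁻¹ by group, c.conj_pt hh x]

theorem τ_one (x : F) : c.τ 1 x = x := by simp [τ, v_pt]

theorem τ_inj {g : G} (hg : g ∈ c.N1) : Function.Injective (c.τ g) := fun x y h => by
  have h1 : g * c.pt x * g⁻¹ = g * c.pt y * g⁻¹ := by rw [c.conj_pt hg, c.conj_pt hg, h]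
  have h2 := congrArg (fun z => c.v z 0) (mul_left_cancel (mul_right_cancel h1))
  simpa [v_pt] using h2

theorem τ_zero {g : G} (hg : g ∈ c.N1) : c.τ g 0 = 0 := by
  have h := c.τ_add hg 0 0
  rw [add_zero] at h
  exact left_eq_add.1 h

theorem τ_one_ne {g : G} (hg : g ∈ c.N1) : c.τ g 1 ≠ 0 := fun h =>
  one_ne_zero (c.τ_inj hg (h.trans (c.τ_zero hg).symm))

/-- The conjugate of an element of `N0` by an element of `N1`. -/
theorem conj_mem_N0 {g : G} (hg : g ∈ c.N1) (e : ↥E) (he : (e : G) ∈ c.N0) :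
    ∃ e' : ↥E, (e' : G) ∈ c.N0 ∧ (e' : G) = g * e * g⁻¹ ∧
      ∀ x, c.τ g ((c.ρ e : Matrix (Fin 2) (Fin 2) F) 0 0 * x) =
        (c.ρ e' : Matrix (Fin 2) (Fin 2) F) 0 0 * c.τ g x := by
  have hE' : g * e * g⁻¹ ∈ E := (mem_normalizer_iff.1 hg.1 _).1 e.2
  have hN : g * e * g⁻¹ ∈ c.N0 := ⟨hE', mul_mem (mul_mem hg.2 he.2) ((normalizer (c.S0 : Set G)).inv_mem hg.2)⟩
  refine ⟨⟨_, hE'⟩, hN, rfl, fun x => ?_⟩
  have h1 : g * ((e : G) * c.pt x * (e : G)⁻¹) * g⁻¹ =
      (g * e * g⁻¹) * (g * c.pt x * g⁻¹) * (g * e * g⁻¹)⁻¹ := by group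
  rw [c.conj_pt_N0 he, c.conj_pt hg, c.conj_pt hg, c.conj_pt_N0 (e := ⟨_, hE'⟩) hN] at h1
  simpa [v_pt] using congrArg (fun z => c.v z 0) h1

/-- The field automorphism induced on the line. -/
noncomputable def σ (g : G) (x : F) : F := c.τ g x / c.τ g 1

theorem τ_smul {g : G} (hg : g ∈ c.N1) (a x : F) : c.τ g (a * x) = c.σ g a * c.τ g x := by
  by_cases ha : a = 0
  · simp [ha, σ, c.τ_zero hg]
  obtain ⟨e, he, he'⟩ := c.exists_torus ha
  obtain ⟨e', -, -, h⟩ := c.conj_mem_N0 hg e he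
  have h00 : (c.ρ e : Matrix (Fin 2) (Fin 2) F) 0 0 = a := by rw [he', hU_coe ha]; simp
  rw [h00] at h
  have h1 := h 1
  rw [mul_one] at h1
  rw [h x, σ, h1, mul_div_assoc, div_self (c.τ_one_ne hg), mul_one]

theorem σ_fixed {g : G} (hg : g ∈ c.N1) {x₀ x : F} (hx : x₀ ≠ 0) (h0 : c.τ g x₀ = x₀) (h : c.τ g x = x) :
    c.σ g (x / x₀) = x / x₀ := by
  have h1 := c.τ_smul hg (x / x₀) x₀
  rw [div_mul_cancel₀ _ hx, h, h0] at h1
  exact (eq_div_iff hx).2 h1.symm

/-- The homomorphism to the field automorphisms. -/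
noncomputable def σHom : ↥c.N1 →* RingAut F where
  toFun g := RingEquiv.ofBijective
    ({ toFun := c.σ (g : G)
       map_one' := div_self (c.τ_one_ne g.2)
       map_mul' := fun a b => by
         show c.τ (g : G) (a * b) / c.τ (g : G) 1 = c.σ (g : G) a * (c.τ (g : G) b / c.τ (g : G) 1)
         rw [c.τ_smul g.2, mul_div_assoc]
       map_zero' := by simp [σ, c.τ_zero g.2]
       map_add' := fun a b => by simp [σ, c.τ_add g.2, add_div] } : F →+* F)
    (Finite.injective_iff_bijective.1 (RingHom.injective _))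
  map_one' := RingEquiv.ext fun x => by
    show c.σ ((1 : ↥c.N1) : G) x = x
    simp [σ, τ_one]
  map_mul' g h := RingEquiv.ext fun x => by
    show c.σ ((g : G) * h) x = c.σ (g : G) (c.σ (h : G) x)
    have hne := c.τ_one_ne (mul_mem g.2 h.2 : (g : G) * h ∈ c.N1)
    rw [c.τ_mul h.2] at hne
    have hx : c.τ (h : G) x = c.σ (h : G) x * c.τ (h : G) 1 := by
      rw [σ, div_mul_cancel₀ _ (c.τ_one_ne h.2)]
    conv_lhs => rw [σ, c.τ_mul h.2, c.τ_mul h.2, hx, c.τ_smul g.2, mul_div_assoc, div_self hne, mul_one]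

/-- A `p`-element acting linearly on the line fixes it. -/
theorem centralizes_of_σ {g : G} (hg : g ∈ c.N1) (hgp : ∃ k, g ^ p ^ k = 1) (hσ : ∀ x, c.σ g x = x) :
    g ∈ centralizer (c.M0 : Set G) := by
  haveI := c.chF
  have hτ : ∀ x, c.τ g x = x * c.τ g 1 := fun x => by rw [← mul_one x, c.τ_smul hg, hσ, mul_one]
  have hpow : ∀ n : ℕ, c.τ (g ^ n) 1 = c.τ g 1 ^ n := fun n => by
    induction n with
    | zero => simp [τ_one]
    | succ n ih => rw [pow_succ', c.τ_mul (pow_mem hg n), ih, hτ, pow_succ]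
  obtain ⟨k, hk⟩ := hgp
  have h1 := hpow (p ^ k)
  rw [hk, τ_one] at h1
  have hb : c.τ g 1 = 1 := iterateFrobenius_inj F p k (by simp [iterateFrobenius_def, ← h1])
  refine mem_centralizer_iff.2 fun m hm => ?_
  have h2 := c.conj_pt hg (c.v m 0)
  rw [hτ, hb, mul_one, ← c.eq_pt hm, mul_inv_eq_iff_eq_mul] at h2
  exact h2.symm

theorem exists_pow_of_mem {T : Sylow p G} {g : G} (hg : g ∈ (T : Subgroup G)) : ∃ k, g ^ p ^ k = 1 := by
  obtain ⟨k, hk⟩ := T.2 ⟨g, hg⟩
  exact ⟨k, by simpa using congrArg Subtype.val hk⟩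

/-- A `p`-element fixing the line induces an element of `S0`. -/
theorem unipotent {g : G} (hg : g ∈ c.N1) (hgp : ∃ k, g ^ p ^ k = 1) (hgM : g ∈ centralizer (c.M0 : Set G)) :
    ∃ u ∈ c.S0, u⁻¹ * g ∈ centralizer (WE p E : Set G) := by
  haveI := c.chF
  obtain ⟨w, hw⟩ := c.surjρ (wU 1)
  obtain ⟨s, hs, hs'⟩ := c.exists_upU 1
  have hwNE : (w : G) ∈ normalizer (E : Set G) := le_normalizer w.2
  -- the second line
  set m₁ : G := (w : G) * c.pt (-1) * (w : G)⁻¹ with hm₁
  have hm₁Y : m₁ ∈ WE p E := Coord.conj_mem hwNE (c.M0_mem_WE (c.pt_mem _))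
  have hm₁v : c.v m₁ = ![0, 1] := by
    rw [hm₁, c.act w _ (c.M0_mem_WE (c.pt_mem _)), v_pt, hw, wU_coe one_ne_zero]
    ext i; fin_cases i <;> simp [mulVec, dotProduct, Fin.sum_univ_two]
  -- fixed points of a conjugate unipotent element
  have hfix : ∀ g' ∈ normalizer (E : Set G), ∃ m' : SpecialLinearGroup (Fin 2) F, m' ≠ 1 ∧
      ∀ x : F, (m' : Matrix (Fin 2) (Fin 2) F) *ᵥ c.v (g' * ((w : G) * c.pt x * (w : G)⁻¹) * g'⁻¹) =
        c.v (g' * ((w : G) * c.pt x * (w : G)⁻¹) * g'⁻¹) := by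
    intro g' hg'
    have hh : g' * w ∈ normalizer (E : Set G) := mul_mem hg' hwNE
    refine ⟨c.ρ ⟨_, (mem_normalizer_iff.1 hh _).1 s.2⟩, fun h1 => ?_, fun x => ?_⟩
    · have h2 := c.mem_Qc_of_ρ c.hE h1
      have h3 : (s : G) ∈ Qc p E :=
        (mem_normalizer_iff.1 (LocalP.normalizer_le_normalizer_pCoreOf E hh) _).2 h2
      have h4 := c.ρ_Qc c.hE h3
      rw [hs', ← upU_zero] at h4
      exact one_ne_zero (upU_inj h4)
    · rw [← c.act _ _ (Coord.conj_mem hg' (Coord.conj_mem hwNE (c.M0_mem_WE (c.pt_mem x))))]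
      have hc : (s : G) * c.pt x * (s : G)⁻¹ = c.pt x := by
        rw [mem_centralizer_iff.1 (c.M0_le (c.pt_mem x)).2 _ hs, mul_inv_cancel_right]
      congr 1
      show g' * w * s * (g' * w)⁻¹ * (g' * ((w : G) * c.pt x * (w : G)⁻¹) * g'⁻¹) * (g' * w * s * (g' * w)⁻¹)⁻¹ = _
      calc _ = g' * w * ((s : G) * c.pt x * (s : G)⁻¹) * (g' * w)⁻¹ := by group
        _ = _ := by rw [hc]; group
  -- fixing the line
  have hMfix : ∀ g', g' ∈ centralizer (c.M0 : Set G) → ∀ x, g' * c.pt x * g'⁻¹ = c.pt x := fun g' hg' x => by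
    rw [← mem_centralizer_iff.1 hg' _ (c.pt_mem x), mul_inv_cancel_right]
  -- the second coordinate
  set x' := c.v (g * m₁ * g⁻¹) with hx'
  have hgN := hg.1
  have hx1 : x' 1 ≠ 0 := by
    intro h0
    have h1 : c.v (g * m₁ * g⁻¹) = c.v (g * c.pt (x' 0) * g⁻¹) := by
      rw [hMfix g hgM, v_pt]
      ext i; fin_cases i
      · rfl
      · exact h0
    have h2 := c.v_conj_congr (inv_mem hgN) (Coord.conj_mem hgN hm₁Y)
      (Coord.conj_mem hgN (c.M0_mem_WE (c.pt_mem _))) h1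
    rw [show g⁻¹ * (g * m₁ * g⁻¹) * g⁻¹⁻¹ = m₁ by group,
      show g⁻¹ * (g * c.pt (x' 0) * g⁻¹) * g⁻¹⁻¹ = c.pt (x' 0) by group, hm₁v, v_pt] at h2
    simpa using congrFun h2 1
  obtain ⟨u, hu, hu'⟩ := c.exists_upU (-(x' 0 / x' 1))
  set g' := (u : G) * g with hg'
  have hg'N : g' ∈ c.N1 := mul_mem (⟨le_normalizer u.2, le_normalizer hu⟩ : (u : G) ∈ c.N1) hg
  have hg'M : g' ∈ centralizer (c.M0 : Set G) := mul_mem
    (mem_centralizer_iff.2 fun m hm => (mem_centralizer_iff.1 (c.M0_le hm).2 _ hu).symm) hgM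
  set b := x' 1 with hb
  have hg'1 : c.v (g' * m₁ * g'⁻¹) = ![0, b] := by
    rw [hg', show (u : G) * g * m₁ * ((u : G) * g)⁻¹ = (u : G) * (g * m₁ * g⁻¹) * (u : G)⁻¹ by group,
      c.act u _ (Coord.conj_mem hgN hm₁Y), ← hx', hu', upU_coe]
    ext i; fin_cases i
    · simp [mulVec, dotProduct, Fin.sum_univ_two]; field_simp; rw [hb]; ring
    · simp [mulVec, dotProduct, Fin.sum_univ_two, hb]
  have hlin : ∀ l : F, ∀ m ∈ WE p E, c.v m = ![0, l] → c.v (g' * m * g'⁻¹) = ![0, l * b] := by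
    intro l m hm hmv
    by_cases hl : l = 0
    · subst hl
      have h0 := c.v_conj_congr hg'N.1 hm (one_mem _) (by rw [hmv, c.v_one]; ext i; fin_cases i <;> rfl)
      rw [mul_one, mul_inv_cancel, c.v_one] at h0
      rw [h0, zero_mul]; ext i; fin_cases i <;> rfl
    obtain ⟨e, he, he'⟩ := c.exists_torus (inv_ne_zero hl)
    obtain ⟨e', heN', hee, hτ⟩ := c.conj_mem_N0 hg'N e he
    have h00 : (c.ρ e' : Matrix (Fin 2) (Fin 2) F) 0 0 = l⁻¹ := by
      have h := hτ 1
      simp only [τ, hMfix g' hg'M, v_pt, mul_one] at h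
      rw [he', hU_coe (inv_ne_zero hl)] at h
      simpa using h.symm
    have h10 := c.N0_upper heN'
    have h11 : (c.ρ e' : Matrix (Fin 2) (Fin 2) F) 1 1 = l := by
      have hd := (c.ρ e').2
      rw [det_fin_two, h00, h10, mul_zero, sub_zero] at hd
      field_simp at hd
      exact hd
    have hmv' : c.v m = c.v ((e : G) * m₁ * (e : G)⁻¹) := by
      rw [c.act e _ hm₁Y, hm₁v, hmv, he', hU_coe (inv_ne_zero hl)]
      ext i; fin_cases i <;> simp [mulVec, dotProduct, Fin.sum_univ_two]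
    have h1 := c.v_conj_congr hg'N.1 hm (Coord.conj_mem (le_normalizer e.2) hm₁Y) hmv'
    rw [show g' * ((e : G) * m₁ * (e : G)⁻¹) * g'⁻¹ = (e' : G) * (g' * m₁ * g'⁻¹) * (e' : G)⁻¹ by
      rw [hee]; group, c.act e' _ (Coord.conj_mem hg'N.1 hm₁Y), hg'1] at h1
    have h1' : c.v (g' * m * g'⁻¹) 1 = l * b := by
      rw [h1]; simp [mulVec, dotProduct, Fin.sum_univ_two, h11]
    -- the line is preserved
    obtain ⟨m', hm'1, hm'⟩ := hfix g' hg'N.1
    have hwm : c.v m = c.v ((w : G) * c.pt (-l) * (w : G)⁻¹) := by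
      rw [c.act w _ (c.M0_mem_WE (c.pt_mem _)), v_pt, hw, wU_coe one_ne_zero, hmv]
      ext i; fin_cases i <;> simp [mulVec, dotProduct, Fin.sum_univ_two]
    have h2 := hm' (-l)
    rw [← c.v_conj_congr hg'N.1 hm (Coord.conj_mem hwNE (c.M0_mem_WE (c.pt_mem _))) hwm] at h2
    have h3 := hm' (-1)
    rw [← hm₁, hg'1] at h3
    have h4 := fixed_dep hm'1 h2 h3
    have h5 : c.v (g' * m * g'⁻¹) 0 = 0 := by
      simp [hx1, hb] at h4
      exact h4.resolve_right hx1
    ext i; fin_cases i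
    · simpa using h5
    · simpa using h1'
  have hpow : ∀ n : ℕ, c.v (g' ^ n * m₁ * (g' ^ n)⁻¹) = ![0, b ^ n] := fun n => by
    induction n with
    | zero => simp [hm₁v]
    | succ n ih =>
      have h := hlin (b ^ n) _ (Coord.conj_mem (pow_mem hg'N.1 n) hm₁Y) ih
      rw [pow_succ' g', pow_succ b]
      rw [← h]; congr 1; group
  have hg'p : ∃ k, g' ^ p ^ k = 1 := by
    have hz : IsPGroup p (zpowers g) := by
      obtain ⟨k, hk⟩ := hgp
      rintro ⟨x, hx⟩
      refine ⟨k, Subtype.ext ?_⟩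
      obtain ⟨i, rfl⟩ := mem_zpowers_iff.1 hx
      show (g ^ i) ^ p ^ k = 1
      rw [← zpow_natCast, ← _root_.zpow_mul, mul_comm, _root_.zpow_mul, zpow_natCast, hk, _root_.one_zpow]
    obtain ⟨k, hk⟩ := IsPGroup.to_sup_of_normal_left' c.S0_isPGroup hz (zpowers_le.2 hg.2)
      ⟨g', mul_mem_sup hu (mem_zpowers g)⟩
    exact ⟨k, by simpa using congrArg Subtype.val hk⟩
  obtain ⟨k, hk⟩ := hg'p
  have hb1 : b = 1 := by
    have h := hpow (p ^ k)
    rw [hk, one_mul, inv_one, mul_one, hm₁v] at h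
    have h' := congrFun h 1
    simp at h'
    exact iterateFrobenius_inj F p k (by simp [iterateFrobenius_def, ← h'])
  have htriv : g' ∈ centralizer (WE p E : Set G) := by
    refine trivial_mod_fixed c.hE hg'N.1 fun y hy => ?_
    obtain ⟨m, hm, hmv⟩ := c.surj ![0, c.v y 1]
    have hy' : c.v y = c.v (c.pt (c.v y 0) * m) := by
      rw [c.add _ (c.M0_mem_WE (c.pt_mem _)) _ hm, v_pt, hmv]
      ext i; fin_cases i <;> simp
    have h1 := c.v_conj_congr hg'N.1 hy ((WE p E).mul_mem (c.M0_mem_WE (c.pt_mem _)) hm) hy'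
    rw [c.v_conj_add hg'N.1 (c.M0_mem_WE (c.pt_mem _)) hm, hMfix g' hg'M, v_pt, hlin _ _ hm hmv, hb1, mul_one] at h1
    refine (c.zero _ ((WE p E).mul_mem (Coord.conj_mem hg'N.1 hy) ((WE p E).inv_mem hy))).1 ?_
    show c.v (g' * y * g'⁻¹ * y⁻¹) = 0
    rw [c.add _ (Coord.conj_mem hg'N.1 hy) _ ((WE p E).inv_mem hy), c.v_inv hy, h1]
    ext i; fin_cases i <;> simp
  exact ⟨(u : G)⁻¹, c.S0.inv_mem hu, by rwa [inv_inv]⟩

/-- An elementary abelian subgroup of largest order fixes the line. -/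
theorem maxElemAb_centralizes {T : Sylow p G} (hT : (T : Subgroup G) ⊓ E = c.S0) {A : Subgroup G}
    (hA : A ∈ Modules.maxElemAbIn p (T : Subgroup G)) (hAE : A ≤ normalizer (E : Set G)) :
    A ≤ centralizer (c.M0 : Set G) := by
  classical
  haveI := c.chF
  have hAN : A ≤ c.N1 := fun a ha => ⟨hAE ha, by
    rw [← hT]
    exact inf_normalizer_le_normalizer_inf ⟨le_normalizer (hA.1 ha), hAE ha⟩⟩
  set f : ↥A →* RingAut F := c.σHom.comp (inclusion hAN) with hf
  have hfapp : ∀ (a : ↥A) x, f a x = c.σ (a : G) x := fun _ _ => rfl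
  by_cases hd : ∀ a : ↥A, f a = 1
  · intro a ha
    exact c.centralizes_of_σ (hAN ha) (exists_pow_of_mem (hA.1 ha)) fun x => by
      rw [← hfapp ⟨a, ha⟩ x, hd]; rfl
  exfalso
  push Not at hd
  obtain ⟨a, ha⟩ := hd
  -- the kernel
  set B := A ⊓ centralizer (c.M0 : Set G) with hB
  have hker : ∀ b : ↥A, f b = 1 ↔ (b : G) ∈ B := by
    refine fun b => ⟨fun hb => ⟨b.2, c.centralizes_of_σ (hAN b.2) (exists_pow_of_mem (hA.1 b.2)) fun x => by
      rw [← hfapp b x, hb]; rfl⟩, fun hb => RingEquiv.ext fun x => ?_⟩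
    have h1 : ∀ y, c.τ (b : G) y = y := fun y => by
      simp only [τ]
      rw [← mem_centralizer_iff.1 hb.2 _ (c.pt_mem y), mul_inv_cancel_right, v_pt]
      rfl
    show c.σ (b : G) x = x
    simp [σ, h1]
  set H := f.range with hH
  have hcardA : Nat.card ↥A = Nat.card ↥B * Nat.card ↥H := by
    rw [← Modules.card_mul_relIndex_of_le (inf_le_left : B ≤ A), hH, ← Subgroup.index_ker, relIndex]
    congr 2
    ext b; rw [mem_subgroupOf, MonoidHom.mem_ker, hker]
  -- the fixed field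
  haveI : Finite ↥H := Finite.of_surjective f.rangeRestrict f.rangeRestrict_surjective
  haveI : Fintype ↥H := Fintype.ofFinite _
  set K := FixedPoints.subfield ↥H F
  have hdeg : Module.finrank ↥K F = Nat.card ↥H := by
    rw [FixedPoints.finrank_eq_card, Nat.card_eq_fintype_card]
  have hFK : Nat.card F = Nat.card ↥K ^ Nat.card ↥H := by rw [Module.natCard_eq_pow_finrank (K := ↥K), hdeg]
  have hCM : Nat.card ↥(c.M0 ⊓ centralizer (A : Set G)) ≤ Nat.card ↥K := by
    by_cases htriv : ∀ m ∈ c.M0 ⊓ centralizer (A : Set G), c.v m 0 = 0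
    · have : c.M0 ⊓ centralizer (A : Set G) = ⊥ := eq_bot_iff.2 fun m hm => mem_bot.2
        (c.M0_eq hm.1 (one_mem _) (by rw [htriv m hm, c.v_one]; rfl))
      rw [this, card_bot]; exact Nat.card_pos
    push Not at htriv
    obtain ⟨m₀, hm₀, hx₀⟩ := htriv
    have hfixed : ∀ m ∈ c.M0 ⊓ centralizer (A : Set G), ∀ b : ↥A, c.τ (b : G) (c.v m 0) = c.v m 0 := fun m hm b => by
      show c.v ((b : G) * c.pt (c.v m 0) * (b : G)⁻¹) 0 = _
      rw [← c.eq_pt hm.1, mem_centralizer_iff.1 hm.2 _ b.2, mul_inv_cancel_right]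
    refine Nat.card_le_card_of_injective (fun m => (⟨c.v (m : G) 0 / c.v m₀ 0, ?_⟩ : ↥K)) fun m m' h => ?_
    · rintro ⟨_, b, rfl⟩
      exact c.σ_fixed (hAN b.2) hx₀ (hfixed m₀ hm₀ b) (hfixed m m.2 b)
    · have h' := congrArg Subtype.val h
      simp only [div_left_inj' hx₀] at h'
      exact Subtype.ext (c.M0_eq m.2.1 m'.2.1 h')
  have hM0card : Nat.card F ≤ Nat.card ↥c.M0 := by
    refine Nat.card_le_card_of_injective (fun x => (⟨c.pt x, c.pt_mem x⟩ : ↥c.M0)) fun x y h => ?_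
    have := congrArg (fun z : ↥c.M0 => c.v (z : G) 0) h
    simpa [v_pt] using this
  have hw := weight_module hA ((c.M0_le.trans inf_le_left).trans (WE_le_Z1 c.hE))
  have hineq : Nat.card F ≤ Nat.card ↥H * Nat.card ↥K := by
    refine Nat.le_of_mul_le_mul_right ?_ (Nat.card_pos (α := ↥B))
    calc Nat.card F * Nat.card ↥B ≤ Nat.card ↥c.M0 * Nat.card ↥B := Nat.mul_le_mul_right _ hM0card
      _ ≤ Nat.card ↥A * Nat.card ↥(c.M0 ⊓ centralizer (A : Set G)) := hw
      _ ≤ Nat.card ↥B * Nat.card ↥H * Nat.card ↥K := by rw [hcardA]; exact Nat.mul_le_mul_left _ hCM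
      _ = _ := by ring
  have hK2 : 2 ≤ Nat.card ↥K := Finite.one_lt_card
  obtain ⟨d, hdH⟩ : ∃ d, Nat.card ↥H = d + 2 := by
    refine ⟨Nat.card ↥H - 2, ?_⟩
    have : Nontrivial ↥H := ⟨⟨f a, a, rfl⟩, 1, fun h => ha (congrArg Subtype.val h)⟩
    have := Finite.one_lt_card (α := ↥H)
    omega
  obtain ⟨hd0, hK0⟩ : d = 0 ∧ Nat.card ↥K = 2 := by
    rw [hFK, hdH, pow_succ] at hineq
    have h1 : Nat.card ↥K ^ (d + 1) ≤ d + 2 := Nat.le_of_mul_le_mul_right hineq (by omega)
    cases d with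
    | zero => exact ⟨rfl, le_antisymm (by simpa using h1) hK2⟩
    | succ d =>
      exfalso
      have h2 : d + 3 < 2 ^ (d + 2) := by
        clear * -
        induction d with
        | zero => norm_num
        | succ d ih => rw [pow_succ]; omega
      have := Nat.pow_le_pow_left hK2 (d + 2)
      simp only [Nat.add_assoc, Nat.reduceAdd] at h1
      omega
  -- four elements: the image on the line of the fixed points is too small
  have hF4 : Nat.card F = 4 := by rw [hFK, hdH, hd0, hK0]; rfl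
  have hH2 : Nat.card ↥H = 2 := by rw [hdH, hd0]
  have hσa : ∃ x, c.σ (a : G) x ≠ x := by
    by_contra hall
    push Not at hall
    exact ha (RingEquiv.ext fun x => hall x)
  have hHa : ∀ x, c.σ (a : G) x = x → x ∈ K := by
    rintro x hx ⟨h, hh⟩
    have : ∀ h' : ↥H, h' = 1 ∨ h' = ⟨f a, a, rfl⟩ := by
      intro h'
      by_contra hcon
      push Not at hcon
      have h3 : ({1, ⟨f a, a, rfl⟩, h'} : Finset ↥H).card = 3 := by
        rw [Finset.card_insert_of_notMem, Finset.card_pair hcon.2.symm]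
        simp only [Finset.mem_insert, Finset.mem_singleton, not_or]
        exact ⟨fun e => ha (congrArg Subtype.val e).symm, hcon.1.symm⟩
      have h4 := Finset.card_le_univ ({1, ⟨f a, a, rfl⟩, h'} : Finset ↥H)
      rw [← Nat.card_eq_fintype_card, hH2, h3] at h4
      omega
    rcases this ⟨h, hh⟩ with e | e
    · rw [e]; exact one_smul _ x
    · rw [e]; exact hx
  -- coordinates of the fixed points
  set X := WE p E ⊓ centralizer (A : Set G) with hX
  let vh : ↥(WE p E) →* Multiplicative (Fin 2 → F) :=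
    MonoidHom.mk' (fun y => Multiplicative.ofAdd (c.v y)) fun x y => by
      rw [← ofAdd_add, Subgroup.coe_mul, c.add _ x.2 _ y.2]
  set V := (X.subgroupOf (WE p E)).map vh with hV
  have hX' : Nat.card ↥X ≤ Nat.card ↥vh.ker * Nat.card ↥V := by
    let g := vh.comp (X.subgroupOf (WE p E)).subtype
    have h1 : Nat.card ↥(X.subgroupOf (WE p E)) = Nat.card ↥g.ker * Nat.card ↥g.range := by
      rw [← Subgroup.index_ker, Subgroup.card_mul_index]
    rw [← Nat.card_congr (subgroupOfEquivOfLe (inf_le_left : X ≤ WE p E)).toEquiv, h1, hV,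
      show g.range = (X.subgroupOf (WE p E)).map vh by rw [MonoidHom.range_comp, range_subtype]]
    refine Nat.mul_le_mul_right _ (Nat.card_le_card_of_injective (fun x => (⟨((x : ↥g.ker) : ↥(X.subgroupOf (WE p E))), x.2⟩ : ↥vh.ker))
      fun x y h => ?_)
    exact Subtype.ext (Subtype.ext (congrArg (fun z : ↥vh.ker => (z : ↥(WE p E))) h))
  have hY : Nat.card ↥(WE p E) = Nat.card ↥vh.ker * (Nat.card F * Nat.card F) := by
    rw [← Subgroup.card_mul_index vh.ker, Subgroup.index_ker, MonoidHom.range_eq_top.2 fun x => by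
      obtain ⟨y, hy, hyv⟩ := c.surj (Multiplicative.toAdd x)
      exact ⟨⟨y, hy⟩, congrArg Multiplicative.ofAdd hyv⟩, card_top]
    congr 1
    rw [Nat.card_congr Multiplicative.toAdd, Nat.card_fun, Nat.card_eq_fintype_card (α := Fin 2), Fintype.card_fin,
      pow_two]
  have hw2 := weight_module hA ((WE_le_Z1 c.hE) : WE p E ≤ Z1 p G)
  set BY := A ⊓ centralizer (WE p E : Set G) with hBY
  have hineq2 : 16 * Nat.card ↥BY ≤ Nat.card ↥A * Nat.card ↥V := by
    refine Nat.le_of_mul_le_mul_left ?_ (Nat.card_pos (α := ↥vh.ker))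
    calc Nat.card ↥vh.ker * (16 * Nat.card ↥BY) = Nat.card ↥(WE p E) * Nat.card ↥BY := by rw [hY, hF4]; ring
      _ ≤ Nat.card ↥A * Nat.card ↥X := hw2
      _ ≤ Nat.card ↥A * (Nat.card ↥vh.ker * Nat.card ↥V) := Nat.mul_le_mul_left _ hX'
      _ = _ := by ring
  have hVmem : ∀ z : Multiplicative (Fin 2 → F), z ∈ V → ∃ y, y ∈ X ∧ c.v y = Multiplicative.toAdd z := by
    rintro _ ⟨y, hy, rfl⟩
    exact ⟨y, mem_subgroupOf.1 hy, rfl⟩
  have hK01 : ∀ x ∈ K, x = 0 ∨ x = 1 := by
    intro x hx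
    by_contra hcon
    push Not at hcon
    haveI : Fintype ↥K := Fintype.ofFinite _
    have h3 : ({0, 1, ⟨x, hx⟩} : Finset ↥K).card = 3 := by
      rw [Finset.card_insert_of_notMem, Finset.card_pair (fun e => hcon.2 (congrArg Subtype.val e).symm)]
      simp only [Finset.mem_insert, Finset.mem_singleton, not_or]
      exact ⟨zero_ne_one, fun e => hcon.1 (congrArg Subtype.val e).symm⟩
    have h4 := Finset.card_le_univ ({0, 1, ⟨x, hx⟩} : Finset ↥K)
    rw [← Nat.card_eq_fintype_card, hK0, h3] at h4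
    omega
  let snd : Multiplicative (Fin 2 → F) →* Multiplicative F :=
    MonoidHom.mk' (fun z => Multiplicative.ofAdd (Multiplicative.toAdd z 1)) fun x y => by
      rw [← ofAdd_add]; rfl
  -- the fixed points on the line
  have hL : Nat.card ↥(snd.comp V.subtype).ker ≤ 2 := by
    have hfix : ∀ z : ↥(snd.comp V.subtype).ker, (Multiplicative.toAdd ((z : ↥V) : Multiplicative (Fin 2 → F))) 1 = 0 ∧
        c.τ (a : G) (Multiplicative.toAdd ((z : ↥V) : Multiplicative (Fin 2 → F)) 0) =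
          Multiplicative.toAdd ((z : ↥V) : Multiplicative (Fin 2 → F)) 0 := by
      rintro ⟨⟨z, hz⟩, hzk⟩
      have h1 : Multiplicative.toAdd z 1 = 0 := congrArg Multiplicative.toAdd hzk
      obtain ⟨y, hy, hyv⟩ := hVmem z hz
      refine ⟨h1, ?_⟩
      show c.τ (a : G) (Multiplicative.toAdd z 0) = Multiplicative.toAdd z 0
      rw [← hyv] at h1 ⊢
      have h2 : c.v y = c.v (c.pt (c.v y 0)) := by rw [v_pt]; ext i; fin_cases i <;> simp [h1]
      have h3 := c.v_conj_congr (hAE a.2) hy.1 (c.M0_mem_WE (c.pt_mem _)) h2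
      rw [mem_centralizer_iff.1 hy.2 _ a.2, mul_inv_cancel_right] at h3
      exact (congrFun h3 0).symm
    classical
    let g : ↥(snd.comp V.subtype).ker → Bool := fun z =>
      decide (Multiplicative.toAdd ((z : ↥V) : Multiplicative (Fin 2 → F)) 0 = 0)
    refine (Nat.card_le_card_of_injective g fun z z' h => ?_).trans (by simp)
    obtain ⟨z1, ht⟩ := hfix z
    obtain ⟨z1', ht'⟩ := hfix z'
    refine Subtype.ext (Subtype.ext (Multiplicative.toAdd.injective (funext fun i => ?_)))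
    fin_cases i
    · simp only [g, decide_eq_decide] at h
      show Multiplicative.toAdd ((z : ↥V) : Multiplicative (Fin 2 → F)) 0 =
        Multiplicative.toAdd ((z' : ↥V) : Multiplicative (Fin 2 → F)) 0
      by_cases h0 : Multiplicative.toAdd ((z : ↥V) : Multiplicative (Fin 2 → F)) 0 = 0
      · rw [h0, h.1 h0]
      · rcases hK01 _ (hHa _ (c.σ_fixed (hAN a.2) h0 ht ht')) with e | e
        · exact absurd ((div_eq_zero_iff.1 e).resolve_right h0) (fun e' => h0 (h.2 e'))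
        · exact ((div_eq_one_iff_eq h0).1 e).symm
    · exact z1.trans z1'.symm
  have hVcard : Nat.card ↥V = Nat.card ↥(snd.comp V.subtype).ker * Nat.card ↥(snd.comp V.subtype).range := by
    rw [← Subgroup.index_ker, Subgroup.card_mul_index]
  have hBYB : BY ≤ B := le_inf inf_le_left (inf_le_right.trans (centralizer_le (c.M0_le.trans inf_le_left)))
  by_cases hcase : B ≤ BY
  · -- the second coordinates are everything
    have hcB : Nat.card ↥B = Nat.card ↥BY := by rw [le_antisymm hcase hBYB]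
    rw [hcardA, hH2, hcB] at hineq2
    have h8 : 8 ≤ Nat.card ↥V := by
      refine le_of_mul_le_mul_left (a := 2 * Nat.card ↥BY) ?_ (Nat.mul_pos two_pos Nat.card_pos)
      linarith
    have hr : Nat.card ↥(snd.comp V.subtype).range = Nat.card (Multiplicative F) := by
      refine le_antisymm (Nat.card_le_card_of_injective _ Subtype.val_injective) ?_
      rw [Nat.card_congr Multiplicative.toAdd, hF4]
      rw [hVcard] at h8
      nlinarith [hL]
    have htop : (snd.comp V.subtype).range = ⊤ := eq_top_of_card_eq _ hr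
    obtain ⟨x, hx⟩ := hσa
    have hx0 : x ≠ 0 := fun e => hx (by rw [e]; simp [σ, c.τ_zero (hAN a.2)])
    obtain ⟨e, he, he'⟩ := c.exists_torus hx0
    obtain ⟨e', heN', hee, hτ⟩ := c.conj_mem_N0 (hAN a.2) e he
    have hsame : ∀ y ∈ WE p E, c.v ((a : G) * y * (a : G)⁻¹) 1 = c.v y 1 := by
      intro y hy
      obtain ⟨⟨z, hz⟩, hz1⟩ : Multiplicative.ofAdd (c.v y 1) ∈ (snd.comp V.subtype).range := htop ▸ mem_top _
      obtain ⟨y', hy', hyv⟩ := hVmem z hz
      have h1 : c.v y' 1 = c.v y 1 := by rw [hyv]; exact congrArg Multiplicative.toAdd hz1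
      have h2 : c.v y = c.v (y' * c.pt (c.v y 0 - c.v y' 0)) := by
        rw [c.add _ hy'.1 _ (c.M0_mem_WE (c.pt_mem _)), v_pt]
        ext i; fin_cases i <;> simp [h1]
      rw [c.v_conj_congr (hAE a.2) hy (mul_mem hy'.1 (c.M0_mem_WE (c.pt_mem _))) h2,
        c.v_conj_add (hAE a.2) hy'.1 (c.M0_mem_WE (c.pt_mem _)),
        mem_centralizer_iff.1 hy'.2 _ a.2, mul_inv_cancel_right, c.conj_pt (hAN a.2), v_pt]
      simp [h1]
    obtain ⟨m, hm, hmv⟩ := c.surj ![0, 1]
    have h11 : (c.ρ e' : Matrix (Fin 2) (Fin 2) F) 1 1 = x⁻¹ := by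
      have h1 := hsame _ (Coord.conj_mem (le_normalizer e.2) hm)
      rw [show (a : G) * ((e : G) * m * (e : G)⁻¹) * (a : G)⁻¹ = (e' : G) * ((a : G) * m * (a : G)⁻¹) * (e' : G)⁻¹ by
        rw [hee]; group, c.act e' _ (Coord.conj_mem (hAE a.2) hm), c.act e _ hm, hmv, he', hU_coe hx0] at h1
      have h2 : c.v ((a : G) * m * (a : G)⁻¹) 1 = 1 := by rw [hsame m hm, hmv]; rfl
      simp [mulVec, dotProduct, Fin.sum_univ_two, c.N0_upper heN', h2] at h1
      exact h1
    have h00 : (c.ρ e' : Matrix (Fin 2) (Fin 2) F) 0 0 = x := by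
      have hd := (c.ρ e').2
      rw [det_fin_two, h11, c.N0_upper heN', mul_zero, sub_zero] at hd
      field_simp at hd
      exact hd
    have h := hτ 1
    rw [he', hU_coe hx0] at h
    simp at h
    rw [h00] at h
    exact hx (by rw [σ, h, mul_div_assoc, div_self (c.τ_one_ne (hAN a.2)), mul_one])
  · -- some element acts as a nontrivial transvection
    obtain ⟨b, hbB, hbY⟩ := SetLike.not_le_iff_exists.1 hcase
    have hdata : ∀ b : ↥B, ∃ u : ↥E, ∃ t : F, (u : G) ∈ c.S0 ∧ c.ρ u = upU t ∧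
        ((u : G)⁻¹ * b) ∈ centralizer (WE p E : Set G) := by
      intro b
      obtain ⟨u, hu, hub⟩ := c.unipotent (hAN b.2.1) (exists_pow_of_mem (hA.1 b.2.1)) b.2.2
      obtain ⟨t, ht⟩ := (c.mem_S0 ⟨u, c.S0_le hu⟩).1 hu
      exact ⟨⟨u, c.S0_le hu⟩, t, hu, ht, hub⟩
    choose u t hu htu hub using hdata
    have hconj : ∀ (b : ↥B), ∀ y ∈ WE p E, (b : G) * y * (b : G)⁻¹ = (u b : G) * y * (u b : G)⁻¹ := by
      intro b y hy
      have h := mem_centralizer_iff.1 (hub b) y hy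
      calc (b : G) * y * (b : G)⁻¹ = (u b : G) * (((u b : G)⁻¹ * b) * y) * (b : G)⁻¹ := by group
        _ = _ := by rw [← h]; group
    have ht0 : t ⟨b, hbB⟩ ≠ 0 := fun e => hbY ⟨hbB.1, mem_centralizer_iff.2 fun y hy => by
      have h := hconj ⟨b, hbB⟩ y hy
      rw [c.conj_eq_of_ρ c.hE (e' := 1) (by rw [htu, e, upU_zero, map_one]) hy] at h
      simp at h
      exact (mul_inv_eq_iff_eq_mul.1 h).symm⟩
    -- all fixed points lie on the line
    have hr1 : Nat.card ↥(snd.comp V.subtype).range = 1 := by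
      rw [card_eq_one, eq_bot_iff]
      rintro _ ⟨⟨z, hz⟩, rfl⟩
      obtain ⟨y, hy, hyv⟩ := hVmem z hz
      have h := c.act (u ⟨b, hbB⟩) y hy.1
      rw [← hconj ⟨b, hbB⟩ y hy.1, mem_centralizer_iff.1 hy.2 _ hbB.1, mul_inv_cancel_right, htu, upU_coe] at h
      have h0 := congrFun h 0
      simp [mulVec, dotProduct, Fin.sum_univ_two, ht0] at h0
      refine mem_bot.2 (Multiplicative.toAdd.injective ?_)
      show Multiplicative.toAdd z 1 = 0
      rw [← hyv]; exact h0
    have hV2 : Nat.card ↥V ≤ 2 := by rw [hVcard, hr1, mul_one]; exact hL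
    -- the kernel has index at most two
    have hp2 : p = 2 := by
      have h4 : ((4 : ℕ) : F) = 0 := by rw [← hF4, Nat.card_eq_fintype_card]; exact FiniteField.cast_card_eq_zero F
      have h := (CharP.cast_eq_zero_iff F p 4).1 h4
      exact (Nat.prime_dvd_prime_iff_eq hp.1 Nat.prime_two).1 (hp.1.dvd_of_dvd_pow (n := 2) (by simpa using h))
    haveI : CharP F 2 := hp2 ▸ c.chF
    have hsame : ∀ b b' : ↥B, t b ≠ 0 → t b' ≠ 0 → t b' = t b := by
      intro b b' hb hb'
      obtain ⟨l, hl⟩ := isSquare_of_charTwo' (R := F) (t b' / t b)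
      have hl0 : l ≠ 0 := fun e => by simp [e, hb, hb'] at hl
      obtain ⟨e, he, he'⟩ := c.exists_torus hl0
      obtain ⟨e', heN', hee, hτ⟩ := c.conj_mem_N0 (hAN a.2) e he
      have haE : (a : G) ∈ normalizer (E : Set G) := hAE a.2
      -- `a` fixes the transvections
      have hau : ∀ b : ↥B, c.ρ ⟨_, (mem_normalizer_iff.1 haE _).1 (u b).2⟩ = upU (t b) := by
        intro b
        rw [← htu b]
        refine Subtype.ext (Matrix.ext_iff_mulVec.2 fun x => ?_)
        obtain ⟨y, hy, rfl⟩ := c.surj x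
        rw [← c.act _ y hy, ← c.act _ y hy]
        congr 1
        show (a : G) * u b * (a : G)⁻¹ * y * ((a : G) * u b * (a : G)⁻¹)⁻¹ = _
        have hy' : (a : G)⁻¹ * y * a ∈ WE p E :=
          (mem_normalizer_iff''.1 (normalizer_le_normalizer_module p E haE) _).1 hy
        have hab : Commute (a : G) (b : G) := Modules.elemAb_comm hA.2.1 a.2 b.2.1
        calc _ = (a : G) * ((u b : G) * ((a : G)⁻¹ * y * a) * (u b : G)⁻¹) * (a : G)⁻¹ := by group
          _ = ((a : G) * b) * ((a : G)⁻¹ * y * a) * ((a : G) * b)⁻¹ := by rw [← hconj b _ hy']; group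
          _ = (b : G) * y * (b : G)⁻¹ := by rw [hab.eq]; group
          _ = _ := hconj b y hy
      have hx1 : c.ρ (e * u b * e⁻¹) = upU (t b') := by
        rw [map_mul, map_mul, map_inv, htu, conj_upU_of_zero (by rw [he', hU_coe hl0]; simp), he', hU_coe hl0]
        congr 1
        simp only [Matrix.of_apply, Matrix.cons_val', Matrix.cons_val_zero, Matrix.cons_val_fin_one]
        rw [← hl, div_mul_cancel₀ _ hb]
      have hd : (((e * u b * e⁻¹)⁻¹ * u b' : ↥E) : G) ∈ Qc p E :=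
        c.mem_Qc_of_ρ c.hE (by rw [map_mul, map_inv, hx1, htu, inv_mul_cancel])
      have hx2 : c.ρ ⟨_, (mem_normalizer_iff.1 haE _).1 (e * u b * e⁻¹ : ↥E).2⟩ = upU (t b') := by
        rw [← hau b', ← inv_mul_eq_one, ← map_inv, ← map_mul]
        refine c.ρ_Qc c.hE ?_
        have h := (mem_normalizer_iff.1 (LocalP.normalizer_le_normalizer_pCoreOf E haE) _).1 hd
        convert h using 1
        simp only [Subgroup.coe_mul, InvMemClass.coe_inv]
        group
      have hx3 : c.ρ ⟨_, (mem_normalizer_iff.1 haE _).1 (e * u b * e⁻¹ : ↥E).2⟩ =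
          upU ((c.ρ e' : Matrix (Fin 2) (Fin 2) F) 0 0 * (c.ρ e' : Matrix (Fin 2) (Fin 2) F) 0 0 * t b) := by
        rw [← conj_upU_of_zero (c.N0_upper heN'), ← hau b, ← map_inv, ← map_mul, ← map_mul]
        refine congrArg _ (Subtype.ext ?_)
        simp only [Subgroup.coe_mul, InvMemClass.coe_inv, hee]
        group
      have h := upU_inj (hx3.symm.trans hx2)
      have hl2 : (c.ρ e' : Matrix (Fin 2) (Fin 2) F) 0 0 = l := by
        refine frobenius_inj F 2 ?_
        rw [frobenius_def, frobenius_def, pow_two, pow_two, ← hl, eq_div_iff hb]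
        exact h
      have hσl : c.σ (a : G) l = l := by
        have h1 := hτ 1
        rw [he', hU_coe hl0] at h1
        simp at h1
        rw [hl2] at h1
        rw [σ, h1, mul_div_assoc, div_self (c.τ_one_ne (hAN a.2)), mul_one]
      rcases hK01 l (hHa l hσl) with e1 | e1
      · exact absurd e1 hl0
      · rw [e1, one_mul, div_eq_one_iff_eq hb] at hl; exact hl
    classical
    have hB2 : Nat.card ↥B ≤ Nat.card ↥BY * 2 := by
      rw [← Modules.card_mul_relIndex_of_le hBYB]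
      refine Nat.mul_le_mul_left _ ?_
      rw [relIndex, Subgroup.index_eq_card]
      refine (Nat.card_le_card_of_injective (fun q => decide (t (q.out : ↥B) = 0)) fun q q' h => ?_).trans (by simp)
      simp only [decide_eq_decide] at h
      have ht : t q.out = t q'.out := by
        by_cases h0 : t q.out = 0
        · rw [h0, h.1 h0]
        · exact (hsame _ _ h0 fun e => h0 (h.2 e)).symm
      rw [← q.out_eq, ← q'.out_eq]
      refine QuotientGroup.eq.2 (mem_subgroupOf.2 ⟨(q.out⁻¹ * q'.out).2.1, mem_centralizer_iff.2 fun y hy => ?_⟩)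
      have h1 : (q.out : G) * y * (q.out : G)⁻¹ = (q'.out : G) * y * (q'.out : G)⁻¹ := by
        rw [hconj _ y hy, hconj _ y hy]
        exact c.conj_eq_of_ρ c.hE (by rw [htu, htu, ht]) hy
      simp only [Subgroup.coe_mul, InvMemClass.coe_inv]
      calc y * ((q.out : G)⁻¹ * (q'.out : G)) = (q.out : G)⁻¹ * ((q.out : G) * y * (q.out : G)⁻¹) * (q'.out : G) := by
            group
        _ = _ := by rw [h1]; group
    have hpos := Nat.card_pos (α := ↥BY)
    rw [hcardA, hH2] at hineq2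
    nlinarith [Nat.mul_le_mul_left (Nat.card ↥B * 2) hV2]

/-- A Baumann subgroup over the line fixes it. -/
theorem baumann_centralizes {T : Sylow p G} (hT : (T : Subgroup G) ⊓ E = c.S0)
    (hBE : Cfsg.baumannSubgroupOf p (T : Subgroup G) ≤ normalizer (E : Set G)) :
    Cfsg.baumannSubgroupOf p (T : Subgroup G) ≤ E ⊔ centralizer (WE p E : Set G) := by
  intro b hb
  have hbN : b ∈ c.N1 := ⟨hBE hb, by
    rw [← hT]
    exact inf_normalizer_le_normalizer_inf ⟨le_normalizer hb.1, hBE hb⟩⟩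
  have hM : c.M0 ≤ Cfsg.omegaOne p (Cfsg.centerThompsonOf p (T : Subgroup G)) := fun m hm => by
    have hZ : m ∈ Z1 p G := WE_le_Z1 c.hE (c.M0_mem_WE hm)
    rw [Modules.omegaOne_centerThompsonOf_eq, mem_sInf]
    exact fun A hA => Modules.mem_maxElemAbIn_of_centralizing hA (Z1_le_sylow T hZ)
      (le_centralizer_iff.1 (c.maxElemAb_centralizes hT hA
        ((Modules.le_thompsonSubgroupOf hA).trans ((thompson_le_baumann _).trans hBE))) hm) (omegaOneCenter_pow hZ)
  obtain ⟨u, hu, hub⟩ := c.unipotent hbN (exists_pow_of_mem hb.1) (centralizer_le hM hb.2)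
  rw [show b = u * (u⁻¹ * b) by group]
  exact mul_mem_sup (c.S0_le hu) hub

include c in
/-- Every Baumann subgroup induces inner automorphisms on the module. -/
theorem baumann_le_sup (T : Sylow p G)
    (hBE : ∀ T' : Sylow p G, Cfsg.baumannSubgroupOf p (T' : Subgroup G) ≤ normalizer (E : Set G)) :
    Cfsg.baumannSubgroupOf p (T : Subgroup G) ≤ E ⊔ centralizer (WE p E : Set G) := by
  obtain ⟨e, he, hmap⟩ := c.exists_conj T
  have hT : ((e • T : Sylow p G) : Subgroup G) ⊓ E = c.S0 := by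
    have hEe : E.map (cj e) = E := mem_normalizer_iff_map_conj_eq.1 (le_normalizer he)
    rw [← hmap, map_inf _ _ _ (cj_injective e), hEe, Sylow.coe_subgroup_smul]
    rfl
  have h := c.baumann_centralizes hT (hBE _)
  intro b hb
  have hb' : e * b * e⁻¹ ∈ E ⊔ centralizer (WE p E : Set G) := by
    refine h ?_
    rw [Sylow.coe_subgroup_smul, show (MulAut.conj e • (T : Subgroup G)) = (T : Subgroup G).map (cj e) from rfl,
      ← map_baumannSubgroupOf (cj_injective e)]
    exact ⟨b, hb, rfl⟩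
  rw [show b = e⁻¹ * (e * b * e⁻¹) * e by group]
  exact mul_mem (mul_mem (mem_sup_left (E.inv_mem he)) hb') (mem_sup_left he)

end Line

end Cfsg.Agent.LAE79
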