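import Mathlib
import Cfsg.Agent.LAE79.BlockAlt
import Cfsg.Agent.LAE79.BlockLineBaumann

/-!
A subnormal block lies in the Baumann subgroup, is normalized by it, and is a block for every Sylow subgroup.
-/

set_option autoImplicit false

open Subgroup
open scoped commutatorElement Pointwise

namespace Cfsg.Agent.LAE79

open LAE62 LAE62.BlockCent LAE62.Baumann

variable {G : Type*} [Group G] [Finite G] {p : ℕ} [hp : Fact p.Prime]
variable {S T : Sylow p G} {E : Subgroup G}

/-- The two ways in which outer automorphisms of a block are controlled. -/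
theorem module_cases (hE : BlockSetting S E) (sE : E.IsSubnormal) :
    (WE p E ⊓ centralizer (E : Set G) = ⊥ ∧
        ∀ f ∈ ⁅normalizer (E : Set G), normalizer (E : Set G)⁆, (orderOf f).Coprime p →
          f ∈ E ⊔ centralizer (WE p E : Set G)) ∨
      ∃ (F : Type) (_ : Field F) (_ : Fintype F), Nonempty (Line p S E F) := by
  rcases hE.block.2.2.2.2 with ⟨F, iF, iFt, n, hcard, -, hact, -⟩ | ⟨hp2, m, -, hact, -⟩
  · obtain ⟨c⟩ := exists_coord hE hact
    by_cases hq : 4 ≤ Fintype.card F
    · exact Or.inr ⟨F, iF, iFt, ⟨{ toCoord := c, hE := hE, sE := sE, chF := charP_of_card_eq_prime_pow hcard, four := hq }⟩⟩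
    · have h2 : 2 ≤ p := hp.1.two_le
      have hn : n = 1 := by
        rcases n with _ | _ | n
        · exact absurd hcard (by rw [pow_zero]; exact (Fintype.one_lt_card (α := F)).ne')
        · rfl
        · exfalso
          have : 4 ≤ p ^ (n + 1 + 1) :=
            le_trans (show 4 ≤ p ^ 2 by nlinarith) (Nat.pow_le_pow_right (by omega) (by omega))
          omega
      rw [hn, pow_one] at hcard
      exact Or.inl (small_module hE c hcard (by
        have : p < 4 := by omega
        interval_cases p
        · exact Or.inl rfl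
        · exact Or.inr rfl))
  · obtain ⟨h1, h2⟩ := perm_module hE hp2 hact
    exact Or.inl ⟨h1, fun f hf _ => h2 hf⟩

/-- Every `p`-subgroup normalizing the block has a subgroup of the module to count with. -/
theorem exists_carrier (hE : BlockSetting S E) (sE : E.IsSubnormal) (R : Subgroup G) (hR : IsPGroup p R)
    (hRE : R ≤ normalizer (E : Set G)) : ∃ U, Carrier p R E U := by
  rcases module_cases hE sE with ⟨hfix, -⟩ | ⟨F, _, _, ⟨c⟩⟩
  · refine ⟨WE p E, le_rfl, hRE.trans (normalizer_le_normalizer_module p E), hfix, ?_⟩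
    by_contra hle
    push Not at hle
    refine WE_not_le_centralizer hE fun y hy => mem_centralizer_iff.2 fun e he => ?_
    by_cases hy1 : y = 1
    · simp [hy1]
    have hey : e * y * e⁻¹ ∈ WE p E := (mem_normalizer_iff.1 (E_le_L he) _).1 hy
    haveI := Fintype.ofFinite ↥(WE p E)
    classical
    by_contra hne
    have h3 : ({1, ⟨y, hy⟩, ⟨_, hey⟩} : Finset ↥(WE p E)).card = 3 := by
      rw [Finset.card_insert_of_notMem, Finset.card_pair fun h => hne
        (mul_inv_eq_iff_eq_mul.1 (congrArg Subtype.val h).symm)]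
      simp only [Finset.mem_insert, Finset.mem_singleton, not_or]
      refine ⟨fun h => hy1 (congrArg Subtype.val h).symm, fun h => hy1 ?_⟩
      have h' := (congrArg Subtype.val h).symm
      simpa [conj_eq_one_iff] using h'
    have h4 := Finset.card_le_univ ({1, ⟨y, hy⟩, ⟨_, hey⟩} : Finset ↥(WE p E))
    rw [← Nat.card_eq_fintype_card, h3] at h4
    omega
  · exact c.exists_carrier R hR hRE

theorem baumannSubgroup_normal : (Cfsg.baumannSubgroup p G).Normal := by
  refine normalizer_eq_top_iff.1 (eq_top_iff.2 fun g _ => LAE62.mem_normalizer_of_conj_mem fun x hx => ?_)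
  have hle : (Cfsg.baumannSubgroup p G).map (cj g) ≤ Cfsg.baumannSubgroup p G := by
    rw [Cfsg.baumannSubgroup, Subgroup.map_iSup]
    refine iSup_le fun T => le_iSup_of_le (g • T) ?_
    rw [map_baumannSubgroupOf (cj_injective g), Sylow.coe_subgroup_smul]
    rfl
  exact hle ⟨x, hx, rfl⟩

theorem baumannSubgroup_le_normalizer (hE : BlockSetting S E) (sE : E.IsSubnormal) :
    Cfsg.baumannSubgroup p G ≤ normalizer (E : Set G) :=
  iSup_le fun T => baumann_le_normalizer hE sE (exists_carrier hE sE) T

theorem block_le_baumannSubgroup {F : Subgroup G} (hF : Cfsg.IsBaumannBlock p (T : Subgroup G) F) :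
    F ≤ Cfsg.baumannSubgroup p G :=
  le_of_commutator_eq hF.2.1 (le_iSup (fun T : Sylow p G => Cfsg.baumannSubgroupOf p (T : Subgroup G)) T)
    fun e _ n hn => baumannSubgroup_normal.conj_mem n hn e

/-- The block is a block for every Sylow subgroup. -/
theorem block_for_every (hE : BlockSetting S E) (sE : E.IsSubnormal) (T : Sylow p G) : BlockSetting T E := by
  haveI := baumannSubgroup_normal (G := G) (p := p)
  set N := Cfsg.baumannSubgroup p G
  have hBS : Cfsg.baumannSubgroupOf p (S : Subgroup G) ≤ N :=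
    le_iSup (fun T : Sylow p G => Cfsg.baumannSubgroupOf p (T : Subgroup G)) S
  obtain ⟨n, hn, hconj⟩ := LAE62.exists_conj_le_of_relIndex (T.2.to_le inf_le_left) (inf_le_right : (T : Subgroup G) ⊓ N ≤ N)
    (LAE62.not_dvd_relIndex_sylow_inf_normal T N) (S.2.to_le (baumann_le _)) hBS
  have hEn : E.map (cj n) = E := mem_normalizer_iff_map_conj_eq.1 (baumannSubgroup_le_normalizer hE sE hn)
  have h : Cfsg.IsBaumannBlock p ((S : Subgroup G).map (cj n)) E := by
    have := isBaumannBlock_map n hE.block
    rwa [hEn] at this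
  have hB : Cfsg.baumannSubgroupOf p (T : Subgroup G) =
      Cfsg.baumannSubgroupOf p ((S : Subgroup G).map (cj n)) := by
    have e : ((n • S : Sylow p G) : Subgroup G) = (S : Subgroup G).map (cj n) := by
      rw [Sylow.coe_subgroup_smul]; rfl
    rw [← e]
    refine baumann_eq_of_le (n • S) T ?_
    rw [e, ← map_baumannSubgroupOf (cj_injective n)]
    rintro _ ⟨b, hb, rfl⟩
    exact (hconj b hb).1
  refine ⟨hE.char, h.1, by rw [hB]; exact h.2.1, h.2.2.1, fun hbot => ?_, by rw [hB]; exact h.2.2.2.2⟩
  -- a central element of `T` moving the block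
  obtain ⟨U, hUY, hnU, hc, hbig⟩ := exists_carrier hE sE ((T : Subgroup G) ⊓ normalizer (E : Set G))
    (T.2.to_le inf_le_left) inf_le_right
  have hne : ¬ U ≤ (⊥ : Subgroup G) := fun h => by
    rw [le_bot_iff.1 h, card_bot] at hbig; omega
  obtain ⟨y, hyU, hy1, hyR⟩ := exists_mem_commutator_le (T.2.to_le inf_le_left) ((WE_isPGroup hE).to_le hUY) hnU hne
  obtain ⟨z, hzZ, hzT, hzE⟩ := exists_fixed_of_orbit (T : Subgroup G) hE sE hUY hc hnU hyU
    (fun h => hy1 (h ▸ one_mem _)) (mem_centralizer_iff.2 fun a ha =>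
      commutatorElement_eq_one_iff_mul_comm.1 (mem_bot.1 (hyR a ha)))
  have hzΩ : z ∈ Cfsg.omegaOneCenter p (T : Subgroup G) :=
    subset_closure ⟨⟨Z1_le_sylow T hzZ, hzT⟩, omegaOneCenter_pow hzZ⟩
  exact hzE (mem_centralizer_iff.2 fun e he => commutatorElement_eq_one_iff_mul_comm.1
    (mem_bot.1 (hbot ▸ commutator_mem_commutator he hzΩ)))

end Cfsg.Agent.LAE79
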