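import Mathlib
import Cfsg.Agent.LAE79.BlockInBaumann

/-!
A block either lies in a given subnormal block or commutes with it.
-/

set_option autoImplicit false

open Subgroup
open scoped commutatorElement Pointwise

namespace Cfsg.Agent.LAE79

open LAE62 LAE62.BlockCent LAE62.Baumann

variable {G : Type*} [Group G] [Finite G] {p : ℕ} [hp : Fact p.Prime]
variable {T : Sylow p G} {E F : Subgroup G}

section Both

variable (hE : BlockSetting T E) (sE : E.IsSubnormal) (hF : BlockSetting T F)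
variable (hFE : F ≤ normalizer (E : Set G))
include hE sE hF hFE

/-- A block centralizing the module commutes. -/
theorem commute_of_centralizes (hc : F ≤ centralizer (WE p E : Set G)) : ⁅F, E⁆ = ⊥ := by
  have hnC : E ≤ normalizer ((centralizer (WE p E : Set G) : Subgroup G) : Set G) :=
    E_le_L.trans (normalizer_le_normalizer_centralizer _)
  have hP : ⁅E, F⁆ ≤ Cfsg.pCore p G := commutator_le.2 fun e he f hf => by
    refine Qc_le_pCore hE sE (kernel hE ?_ ?_)
    · rw [commutatorElement_def, show e * f * e⁻¹ * f⁻¹ = e * (f * e⁻¹ * f⁻¹) by group]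
      exact E.mul_mem he ((mem_normalizer_iff.1 (hFE hf) _).1 (E.inv_mem he))
    · rw [commutatorElement_def]
      exact mul_mem ((mem_normalizer_iff.1 (hnC he) _).1 (hc hf)) (inv_mem (hc hf))
  have hEF : E ≤ normalizer (F : Set G) := fun e he => LAE62.mem_normalizer_of_conj_mem fun f hf => by
    have hle : F.map (cj e) ≤ F := le_of_le_sup hF (by rw [← map_pResidualOf', hF.block.1]) (by
      rintro _ ⟨g, hg, rfl⟩
      rw [cj_apply, show e * g * e⁻¹ = ⁅e, g⁆ * g by simp only [commutatorElement_def]; group, sup_comm]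
      exact mul_mem_sup (hP (commutator_mem_commutator he hg)) hg)
    exact hle ⟨f, hf, rfl⟩
  have hEY : E ≤ centralizer (WE p F : Set G) := by
    set X := ⁅WE p F, E⁆ with hX
    have hXF : X ≤ WE p F := Modules.commutator_le_of_normalizes (hEF.trans (normalizer_le_normalizer_module p F))
    have hXE : X ≤ WE p E := commutator_le.2 fun y hy e he => by
      rw [← commutatorElement_inv]
      exact inv_mem (comm_Z1_mem hE sE he (WE_le_Z1 hF hy))
    by_cases h : X ≤ centralizer (F : Set G)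
    · have hQ : ⁅E, F⁆ ≤ Qc p F :=
        (le_inf ((commutator_le_inf hEF hFE).trans inf_le_right) hP).trans inf_pCore_le'
      have h1 : ⁅⁅WE p F, E⁆, F⁆ = ⊥ := commutator_eq_bot_iff_le_centralizer.2 h
      have h2 : ⁅⁅E, F⁆, WE p F⁆ = ⊥ := commutator_eq_bot_iff_le_centralizer.2 (hQ.trans (Qc_le_centralizer_WE hF))
      have h3 := commutator_commutator_eq_bot_of_rotate (H₁ := F) (H₂ := WE p F) (H₃ := E) h1 h2
      rw [commutator_comm F, commutator_WE hF, commutator_eq_bot_iff_le_centralizer] at h3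
      exact le_centralizer_iff.1 h3
    · exfalso
      have hle := (WE_le_of_invariant hF (hXF.trans (WE_le_Wc hF))
        ((le_inf (normalizer_commutator_ge_right _ _ : F ≤ normalizer (WE p F : Set G)) hFE).trans
          (normalizer_inf_le_normalizer_commutator _ _)) h).trans hXE
      exact WE_not_le_centralizer hF (hle.trans (le_centralizer_iff.1 hc))
  rw [commutator_comm]
  exact commute_of_centralize' hE sE hF hEF hFE hP hc hEY

/-- The module of `F` lies in that of `E` when it is moved. -/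
theorem module_le (hc : ¬ F ≤ centralizer (WE p E : Set G)) : WE p F ≤ WE p E := by
  set X := ⁅WE p E, F⁆ with hX
  have hXE : X ≤ WE p E := Modules.commutator_le_of_normalizes (hFE.trans (normalizer_le_normalizer_module p E))
  have hXF : X ≤ WE p F := commutator_le.2 fun y hy f hf => by
    rw [← commutatorElement_inv]
    exact inv_mem (comm_Z1_mem' hF hf (WE_le_Z1 hE hy))
  refine (WE_le_of_invariant hF (hXF.trans (WE_le_Wc hF)) (normalizer_commutator_ge_right _ _) fun h => hc ?_).trans hXE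
  intro f hf
  refine mem_centralizer_iff.2 fun y hy => (commutatorElement_eq_one_iff_mul_comm.1 (mem_bot.1 ?_)).symm
  exact stable_le (W := X) (W' := ⊥) (A := (WE p E : Set G)) hF.block.1
    (by rw [normalizer_eq_top]; exact le_top)
    (fun g hg x hx => mem_bot.2 (commutatorElement_eq_one_iff_mul_comm.2 (mem_centralizer_iff.1 (h hx) g hg)))
    (fun x hx => omegaOneCenter_pow (WE_le_Wc hE (hXE hx)))
    (fun g hg a ha => by rw [← commutatorElement_inv]; exact inv_mem (commutator_mem_commutator ha hg)) hf hy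

omit hF in
/-- A block inducing outer automorphisms only. -/
theorem le_sup_centralizer (hF : BlockSetting T F)
    (hB : ∀ T' : Sylow p G, Cfsg.baumannSubgroupOf p (T' : Subgroup G) ≤ normalizer (E : Set G)) :
    F ≤ E ⊔ centralizer (WE p E : Set G) := by
  rcases module_cases hE sE with ⟨-, h⟩ | ⟨K, _, _, ⟨c⟩⟩
  · conv_lhs => rw [← hF.block.1]
    refine pResidualOf_le fun f hf hcop => h f ?_ hcop
    have : F ≤ ⁅normalizer (E : Set G), normalizer (E : Set G)⁆ := by
      conv_lhs => rw [← hF.block.2.1]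
      exact commutator_mono hFE (hB T)
    exact this hf
  · refine le_of_commutator_eq hF.block.2.1 (c.baumann_le_sup T hB) fun f hf n hn => ?_
    have hfN : f ∈ normalizer ((E ⊔ centralizer (WE p E : Set G) : Subgroup G) : Set G) := by
      rw [mem_normalizer_iff_map_conj_eq]
      show (E ⊔ centralizer (WE p E : Set G)).map (cj f) = _
      rw [Subgroup.map_sup, show E.map (cj f) = E from mem_normalizer_iff_map_conj_eq.1 (hFE hf),
        show (centralizer (WE p E : Set G)).map (cj f) = centralizer (WE p E : Set G) from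
          mem_normalizer_iff_map_conj_eq.1
            (normalizer_le_normalizer_centralizer _ (normalizer_le_normalizer_module p E (hFE hf)))]
    exact (mem_normalizer_iff.1 hfN n).1 hn

/-- The main case: the block lies in `E`. -/
theorem le_of_moved (hc : ¬ F ≤ centralizer (WE p E : Set G))
    (hB : ∀ T' : Sylow p G, Cfsg.baumannSubgroupOf p (T' : Subgroup G) ≤ normalizer (E : Set G)) : F ≤ E := by
  haveI := Cores.pCore_normal_inst p G
  set P := Cfsg.pCore p G with hPdef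
  set C0 := centralizer (WE p E : Set G) with hC0
  have hYFE := module_le hE sE hF hFE hc
  have hC0E : C0 ≤ normalizer (E : Set G) := LAE62.BlockCent.centralizer_le hE.char T E hE.block
  have hC0F : C0 ≤ normalizer (F : Set G) :=
    (Subgroup.centralizer_le hYFE).trans (LAE62.BlockCent.centralizer_le hF.char T F hF.block)
  have hEC0 : E ≤ normalizer (C0 : Set G) := E_le_L.trans (normalizer_le_normalizer_centralizer _)
  have hFC0 : F ≤ normalizer (C0 : Set G) :=
    (hFE.trans (normalizer_le_normalizer_module p E)).trans (normalizer_le_normalizer_centralizer _)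
  have hdecomp : ∀ f ∈ F, ∃ e ∈ E, ∃ c ∈ C0, f = e * c := fun f hf => by
    have h := le_sup_centralizer hE sE hFE hF hB hf
    rw [← SetLike.mem_coe, coe_mul_of_left_le_normalizer_right E C0 hEC0] at h
    obtain ⟨e, he, c, hc, rfl⟩ := h
    exact ⟨e, he, c, hc, rfl⟩
  have hFF : ∀ a ∈ F, ∀ b ∈ F, a * b * a⁻¹ ∈ F := fun a ha b hb => F.mul_mem (F.mul_mem ha hb) (F.inv_mem ha)
  -- the derived group of `F` modulo its core is covered by `E`
  have hder : ⁅F, F⁆ ≤ (E ⊓ F) ⊔ Qc p F := commutator_le.2 fun f hf f' hf' => by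
    obtain ⟨e', he', c', hc', rfl⟩ := hdecomp f' hf'
    have hc'F := hC0F hc'
    have he'F : e' ∈ normalizer (F : Set G) := by
      have := mul_mem (le_normalizer hf' : e' * c' ∈ normalizer (F : Set G)) ((normalizer (F : Set G)).inv_mem hc'F)
      rwa [mul_inv_cancel_right] at this
    have h1 : ⁅f, e'⁆ ∈ E ⊓ F := ⟨by
        rw [commutatorElement_def]
        exact E.mul_mem ((mem_normalizer_iff.1 (hFE hf) _).1 he') (E.inv_mem he'), by
        rw [commutatorElement_def, show f * e' * f⁻¹ * e'⁻¹ = f * (e' * f⁻¹ * e'⁻¹) by group]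
        exact F.mul_mem hf ((mem_normalizer_iff.1 he'F _).1 (F.inv_mem hf))⟩
    have h2 : ⁅f, c'⁆ ∈ Qc p F := by
      refine kernel hF ?_ (Subgroup.centralizer_le hYFE ?_)
      · rw [commutatorElement_def, show f * c' * f⁻¹ * c'⁻¹ = f * (c' * f⁻¹ * c'⁻¹) by group]
        exact F.mul_mem hf ((mem_normalizer_iff.1 hc'F _).1 (F.inv_mem hf))
      · rw [commutatorElement_def]
        exact C0.mul_mem ((mem_normalizer_iff.1 (hFC0 hf) _).1 hc') (C0.inv_mem hc')
    rw [Modules.commutatorElement_mul_right]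
    exact mul_mem_sup h1 ((mem_normalizer_iff.1 (LocalP.normalizer_le_normalizer_pCoreOf F he'F) _).1 h2)
  -- the core of `F` lies in that of `E`
  have hPF : P ≤ normalizer (F : Set G) := pCore_le_normalizer_E hF
  have hPFE : ∀ f ∈ F, ∀ a ∈ P, ⁅f, a⁆ ∈ Qc p E := by
    have hYQ : WE p F ≤ Qc p E := hYFE.trans ((WE_le_Wc hE).trans (omegaOneCenter_le _))
    rcases exc_or hF with heq | hxF
    · exact fun f hf a ha => hYQ (heq.le (commutator_pCore_le hF hf ha))
    set N := ⁅P, F⁆ with hN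
    have hNQ : N ≤ Qc p F := commutator_le.2 fun a ha g hg => commutator_pCore_le' hF hg ha
    by_cases hNW : N ≤ Wc p F
    · exact fun f hf a ha => hYQ (stable_le hF.block.1 E_le_L (fun e he w hw => by
        rw [← commutatorElement_inv]; exact inv_mem (commutator_mem_commutator hw he))
        (fun w hw => omegaOneCenter_pow hw) (A := (P : Set G))
        (fun e he a ha => by
          rw [← commutatorElement_inv]; exact inv_mem (hNW (commutator_mem_commutator ha he))) hf ha)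
    suffices hQFE : Qc p F ≤ Qc p E from fun f hf a ha => hQFE (commutator_pCore_le hF hf ha)
    obtain ⟨n, hn, hnQ⟩ : ∃ n ∈ E ⊓ F, n ∉ Qc p F := by
      by_contra hall
      push Not at hall
      exact hxF.nonab (hder.trans (sup_le hall le_rfl))
    set R := E ⊓ Qc p F ⊓ P with hR
    have hFR : F ≤ normalizer (R : Set G) := fun f hf => LAE62.mem_normalizer_of_conj_mem fun r hr =>
      ⟨⟨(mem_normalizer_iff.1 (hFE hf) _).1 hr.1.1, (mem_normalizer_iff.1 (E_le_normalizer_Qc hf) _).1 hr.1.2⟩,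
        (Cores.pCore_normal_inst p G).conj_mem r hr.2 f⟩
    have hnPF : ∀ a ∈ P, ⁅n, a⁆ ∈ R := fun a ha => by
      refine ⟨⟨?_, commutator_pCore_le hF hn.2 ha⟩, ?_⟩
      · exact Qc_le (commutator_pCore_le hE hn.1 ha)
      · rw [commutatorElement_def]
        exact P.mul_mem ((Cores.pCore_normal_inst p G).conj_mem a ha n) (P.inv_mem ha)
    have hRW : ¬ R ≤ Wc p F := by
      intro hle
      refine hnQ (hxF.ker n hn.2 fun x hx => ?_)
      obtain ⟨r, hr, hw⟩ := hxF.irr N hNQ (normalizer_commutator_ge_right _ _) hNW x hx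
      have hrP : r ∈ P := (commutator_le.2 (fun a ha g _ => by
        rw [commutatorElement_def, show a * g * a⁻¹ * g⁻¹ = a * (g * a⁻¹ * g⁻¹) by group]
        exact P.mul_mem ha ((Cores.pCore_normal_inst p G).conj_mem _ (P.inv_mem ha) g)) : N ≤ P) hr
      rw [show x = r * (r⁻¹ * x) by group, Modules.commutatorElement_mul_right]
      have hW2 : ∀ g ∈ F, g ∈ normalizer (Wc p F : Set G) := fun g hg => E_le_normalizer_Wc hF hg
      refine mul_mem (hle (hnPF r hrP)) ((mem_normalizer_iff.1 (hW2 r (Qc_le (hNQ hr))) _).1 ?_)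
      rw [commutatorElement_def]
      exact mul_mem ((mem_normalizer_iff.1 (hW2 n hn.2) _).1 hw) ((Wc p F).inv_mem hw)
    have hRE : R ≤ Qc p E := fun r hr => inf_pCore_le' ⟨hr.1.1, hr.2⟩
    have hRQ : R ≤ Qc p F := inf_le_left.trans inf_le_right
    have hcen : ⁅Qc p F, Qc p F⁆ ≤ Qc p E := commutator_le.2 fun x hx x' hx' => by
      obtain ⟨r, hr, hw⟩ := hxF.irr R hRQ hFR hRW x hx
      obtain ⟨r', hr', hw'⟩ := hxF.irr R hRQ hFR hRW x' hx'
      rw [show x = r * (r⁻¹ * x) by group, show x' = r' * (r'⁻¹ * x') by group,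
        comm_mul_central (Qc_comm_Wc (hRQ hr') hw) (Qc_comm_Wc (hRQ hr) hw') (omegaOneCenter_comm hw hw')]
      exact (Qc p E).mul_mem ((Qc p E).mul_mem ((Qc p E).mul_mem (hRE hr) (hRE hr')) ((Qc p E).inv_mem (hRE hr)))
        ((Qc p E).inv_mem (hRE hr'))
    intro x hx
    obtain ⟨r, hr, hw⟩ := hxF.irr R hRQ hFR hRW x hx
    obtain ⟨y, hy, hz⟩ := WE_decomp hF hw
    rw [show x = r * y * (y⁻¹ * (r⁻¹ * x)) by group]
    exact mul_mem (mul_mem (hRE hr) ((WE_le_Wc hE).trans (omegaOneCenter_le _) (hYFE hy))) (hcen (hxF.comm.ge hz))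
  -- the centralizing part stabilizes the core
  have hQEn : normalizer (E : Set G) ≤ normalizer (Qc p E : Set G) := LocalP.normalizer_le_normalizer_pCoreOf E
  let C1 : Subgroup G :=
    { carrier := {c | c ∈ C0 ∧ ∀ a ∈ P, ⁅c, a⁆ ∈ Qc p E}
      one_mem' := ⟨C0.one_mem, fun a _ => by rw [commutatorElement_one_left]; exact one_mem _⟩
      mul_mem' := by
        rintro x y ⟨hx, hx'⟩ ⟨hy, hy'⟩
        refine ⟨C0.mul_mem hx hy, fun a ha => ?_⟩
        rw [show ⁅x * y, a⁆ = x * ⁅y, a⁆ * x⁻¹ * ⁅x, a⁆ by simp only [commutatorElement_def]; group]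
        exact mul_mem ((mem_normalizer_iff.1 (hQEn (hC0E hx)) _).1 (hy' a ha)) (hx' a ha)
      inv_mem' := by
        rintro x ⟨hx, hx'⟩
        refine ⟨C0.inv_mem hx, fun a ha => ?_⟩
        rw [show ⁅x⁻¹, a⁆ = x⁻¹ * ⁅x, a⁆⁻¹ * x by simp only [commutatorElement_def]; group]
        exact (mem_normalizer_iff''.1 (hQEn (hC0E hx)) _).1 (inv_mem (hx' a ha)) }
  have hdec1 : ∀ f ∈ F, ∃ e ∈ E, ∃ c ∈ C1, f = e * c := fun f hf => by
    obtain ⟨e, he, c, hc, rfl⟩ := hdecomp f hf
    refine ⟨e, he, c, ⟨hc, fun a ha => ?_⟩, rfl⟩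
    rw [show c = e⁻¹ * (e * c) by group,
      show ⁅e⁻¹ * (e * c), a⁆ = e⁻¹ * ⁅e * c, a⁆ * e⁻¹⁻¹ * ⁅e⁻¹, a⁆ by simp only [commutatorElement_def]; group]
    exact mul_mem ((mem_normalizer_iff.1 (E_le_normalizer_Qc (E.inv_mem he)) _).1 (hPFE _ hf a ha))
      (commutator_pCore_le hE (E.inv_mem he) ha)
  -- the elements trivial on the section
  have hWn : normalizer (E : Set G) ≤ normalizer (Wc p E : Set G) := normalizer_le_normalizer_Wc E
  let D1 : Subgroup G :=
    { carrier := {c | c ∈ C1 ∧ ∀ u ∈ Qc p E, ⁅c, u⁆ ∈ Wc p E}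
      one_mem' := ⟨C1.one_mem, fun a _ => by rw [commutatorElement_one_left]; exact one_mem _⟩
      mul_mem' := by
        rintro x y ⟨hx, hx'⟩ ⟨hy, hy'⟩
        refine ⟨C1.mul_mem hx hy, fun a ha => ?_⟩
        rw [show ⁅x * y, a⁆ = x * ⁅y, a⁆ * x⁻¹ * ⁅x, a⁆ by simp only [commutatorElement_def]; group]
        exact mul_mem ((mem_normalizer_iff.1 (hWn (hC0E hx.1)) _).1 (hy' a ha)) (hx' a ha)
      inv_mem' := by
        rintro x ⟨hx, hx'⟩
        refine ⟨C1.inv_mem hx, fun a ha => ?_⟩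
        rw [show ⁅x⁻¹, a⁆ = x⁻¹ * ⁅x, a⁆⁻¹ * x by simp only [commutatorElement_def]; group]
        exact (mem_normalizer_iff''.1 (hWn (hC0E hx.1)) _).1 (inv_mem (hx' a ha)) }
  have hD1p : IsPGroup p D1 := by
    rintro ⟨c, hc⟩
    obtain ⟨m, hm, k, rfl⟩ := commute_pow_of_quotient (p := p) c
    set d := c ^ p ^ k with hd
    have hdD : d ∈ D1 := D1.pow_mem hc _
    have hdW : d ∈ centralizer (Wc p E : Set G) := by
      refine mem_centralizer_iff.2 fun w hw => ?_
      obtain ⟨y, hy, hz⟩ := WE_decomp hE hw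
      have c1 : Commute y d := mem_centralizer_iff.1 hdD.1.1 y hy
      have c2 : Commute (y⁻¹ * w) d := by
        rcases exc_or hE with heq | hxE
        · have hq : y⁻¹ * w ∈ WE p E := heq.le (omegaOneCenter_le _ hz.1)
          exact mem_centralizer_iff.1 hdD.1.1 _ hq
        · suffices hle : ⁅Qc p E, Qc p E⁆ ≤ centralizer ({d} : Set G) from
            mem_centralizer_singleton_iff.1 (hle (hxE.comm.ge hz))
          refine commutator_le.2 fun q hq q' hq' => mem_centralizer_singleton_iff.2 ?_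
          have hq1 := hdD.2 q hq
          have hq2 := hdD.2 q' hq'
          have e1 : d * q * d⁻¹ = q * ⁅d, q⁆ := by rw [Qc_comm_Wc hq hq1, commutatorElement_def]; group
          have e2 : d * q' * d⁻¹ = q' * ⁅d, q'⁆ := by rw [Qc_comm_Wc hq' hq2, commutatorElement_def]; group
          have h : d * ⁅q, q'⁆ * d⁻¹ = ⁅q, q'⁆ := by
            rw [show d * ⁅q, q'⁆ * d⁻¹ = ⁅d * q * d⁻¹, d * q' * d⁻¹⁆ by simp only [commutatorElement_def]; group,
              e1, e2, comm_mul_central (Qc_comm_Wc hq' hq1) (Qc_comm_Wc hq hq2) (omegaOneCenter_comm hq1 hq2)]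
          exact (mul_inv_eq_iff_eq_mul.1 h).symm
      simpa using (c1.mul_left c2).eq
    have hdQ : ∀ u ∈ Qc p E, ⁅d, u⁆ = 1 := fun u hu =>
      comm_eq_one_of_coprime (Qc_isPGroup.to_le (omegaOneCenter_le _) : IsPGroup p ↥(Wc p E)) hm (hdD.2 u hu)
        (mem_centralizer_iff.1 hdW _ (hdD.2 u hu)).symm
    have hdP : d ∈ centralizer (P : Set G) := mem_centralizer_iff.2 fun a ha => by
      have h1 := comm_eq_one_of_coprime (Qc_isPGroup (p := p) (E := E)) hm (hdD.1.2 a ha)
        (commutatorElement_eq_one_iff_mul_comm.1 (hdQ _ (hdD.1.2 a ha)))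
      exact (commutatorElement_eq_one_iff_mul_comm.1 h1).symm
    obtain ⟨j, hj⟩ := Cores.pCore_isPGroup ⟨d, hE.char hdP⟩
    have hj' : d ^ p ^ j = 1 := by simpa using congrArg Subtype.val hj
    have hd1 : d = 1 := orderOf_eq_one_iff.1 (Nat.eq_one_of_dvd_coprimes (hm.pow_right j) dvd_rfl
      (orderOf_dvd_of_pow_eq_one hj'))
    exact ⟨k, Subtype.ext (by simpa using hd1)⟩
  have hfinish : F ≤ E ⊔ D1 → F ≤ E := fun hle => by
    conv_lhs => rw [← hF.block.1]
    refine pResidualOf_le fun y hy hcop => pElementsFree_mem hD1p (fun d hd => hC0E hd.1.1) ?_ hcop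
    rw [sup_comm]; exact hle hy
  rcases exc_or hE with heq | hxE
  · refine hfinish fun f hf => ?_
    obtain ⟨e, he, c, hc, rfl⟩ := hdec1 f hf
    refine mul_mem_sup he ⟨hc, fun u hu => ?_⟩
    rw [commutatorElement_eq_one_iff_mul_comm.2 (mem_centralizer_iff.1 hc.1 u (heq.le hu)).symm]
    exact one_mem _
  -- the exceptional case
  have hUc : ∀ x ∈ Qc p E, ∀ y ∈ Qc p E, ⁅x, y⁆ ∈ Wc p E := fun x hx y hy =>
    (hxE.comm.le (commutator_mem_commutator hx hy)).1
  have hkerE : ∀ e ∈ E, e ∈ C0 → e ∈ D1 := fun e he hc => by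
    have hq : e ∈ Qc p E := kernel hE he hc
    exact ⟨⟨hc, fun a ha => commutator_pCore_le hE he ha⟩, fun u hu => hUc e hq u hu⟩
  have hNE : normalizer (E : Set G) ≤ SecNorm (Qc p E) (Wc p E) := le_inf hQEn hWn
  have hC1' : ∀ x ∈ C1, ∀ y ∈ C1, ⁅x, y⁆ ∈ D1 := by
    have key := (section_comm (omegaOneCenter_le _) hUc (le_normalizer.trans hNE)
      ((fun c hc => hNE (hC0E hc.1)) : C1 ≤ _) hxE.irr (fun e he c hc u hu => hUc _ (kernel hE
        (by
          rw [commutatorElement_def, show e * c * e⁻¹ * c⁻¹ = e * (c * e⁻¹ * c⁻¹) by group]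
          exact E.mul_mem he ((mem_normalizer_iff.1 (hC0E hc.1) _).1 (E.inv_mem he)))
        (by
          rw [commutatorElement_def]
          exact C0.mul_mem ((mem_normalizer_iff.1 (hEC0 he) _).1 hc.1) (C0.inv_mem hc.1))) u hu)).1
    exact fun x hx y hy => ⟨C1.mul_mem (C1.mul_mem (C1.mul_mem hx hy) (C1.inv_mem hx)) (C1.inv_mem hy),
      fun u hu => key x hx y hy u hu⟩
  have hD1E : D1 ≤ normalizer (E : Set G) := fun d hd => hC0E hd.1.1
  set K := E ⊔ D1 with hK
  have hderK : ⁅F, F⁆ ≤ K := commutator_le.2 fun f hf f' hf' => by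
    obtain ⟨e, he, c, hc, rfl⟩ := hdec1 f hf
    obtain ⟨e', he', c', hc', rfl⟩ := hdec1 f' hf'
    rw [show ⁅e * c, e' * c'⁆ = e * (c * e' * c⁻¹) * ⁅c, c'⁆ * (c' * e⁻¹ * c'⁻¹) * e'⁻¹ by
      simp only [commutatorElement_def]; group]
    exact mul_mem (mul_mem (mul_mem (mul_mem (mem_sup_left he)
      (mem_sup_left ((mem_normalizer_iff.1 (hC0E hc.1) _).1 he'))) (mem_sup_right (hC1' c hc c' hc')))
      (mem_sup_left ((mem_normalizer_iff.1 (hC0E hc'.1) _).1 (E.inv_mem he)))) (mem_sup_left (E.inv_mem he'))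
  refine hfinish ?_
  rcases (kernel_and_type hF).2 with hpF | hsF
  · conv_lhs => rw [← hpF.1]
    exact hderK
  -- a small block: at most one involution modulo `K`
  have hB3 : ∀ b ∈ Cfsg.baumannSubgroupOf p (T : Subgroup G), ∃ k, b ^ p ^ k = 1 := fun b hb => by
    obtain ⟨k, hk⟩ := T.2 ⟨b, baumann_le _ hb⟩
    exact ⟨k, by simpa using congrArg Subtype.val hk⟩
  have hsq : ∀ c ∈ C1, c ^ 2 ∈ D1 → c ∉ D1 → ∀ u ∈ Qc p E, u * (c * u * c⁻¹) ∈ Wc p E := by
    intro c hc hc2 hcD u hu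
    have hcN := hNE (hC0E hc.1)
    have hcu : c * u * c⁻¹ ∈ Qc p E := (mem_normalizer_iff.1 hcN.1 _).1 hu
    let Nc : Subgroup G :=
      { carrier := {u | u ∈ Qc p E ∧ ⁅c, u⁆ ∈ Wc p E}
        one_mem' := ⟨one_mem _, by rw [commutatorElement_one_right]; exact one_mem _⟩
        mul_mem' := by
          rintro x y ⟨hx, hx'⟩ ⟨hy, hy'⟩
          refine ⟨(Qc p E).mul_mem hx hy, ?_⟩
          rw [Modules.commutatorElement_mul_right]
          exact mul_mem hx' ((mem_normalizer_iff.1 (E_le_normalizer_Wc hE (Qc_le hx)) _).1 hy')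
        inv_mem' := by
          rintro x ⟨hx, hx'⟩
          refine ⟨(Qc p E).inv_mem hx, ?_⟩
          rw [show ⁅c, x⁻¹⁆ = x⁻¹ * ⁅c, x⁆⁻¹ * x by simp only [commutatorElement_def]; group]
          exact (mem_normalizer_iff''.1 (E_le_normalizer_Wc hE (Qc_le hx)) _).1 (inv_mem hx') }
    have hNcW : Nc ≤ Wc p E := by
      by_contra hne
      have hEn : E ≤ normalizer (Nc : Set G) := fun e he => LAE62.mem_normalizer_of_conj_mem fun x hx => by
        have hex : e * x * e⁻¹ ∈ Qc p E := (mem_normalizer_iff.1 (E_le_normalizer_Qc he) _).1 hx.1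
        refine ⟨hex, ?_⟩
        set q := e⁻¹ * c * e * c⁻¹ with hq
        have hqQ : q ∈ Qc p E := by
          refine kernel hE ?_ ?_
          · rw [hq, show e⁻¹ * c * e * c⁻¹ = e⁻¹ * (c * e * c⁻¹) by group]
            exact E.mul_mem (E.inv_mem he) ((mem_normalizer_iff.1 (hC0E hc.1) _).1 he)
          · rw [hq]
            exact C0.mul_mem ((mem_normalizer_iff''.1 (hEC0 he) _).1 hc.1) (C0.inv_mem hc.1)
        have hxW : ∀ g ∈ Qc p E, g ∈ normalizer (Wc p E : Set G) := fun g hg => E_le_normalizer_Wc hE (Qc_le hg)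
        rw [show ⁅c, e * x * e⁻¹⁆ = e * (q * ⁅c, x⁆ * q⁻¹ * ⁅q, x⁆) * e⁻¹ by
          rw [hq]; simp only [commutatorElement_def]; group]
        exact (mem_normalizer_iff.1 (E_le_normalizer_Wc hE he) _).1
          (mul_mem ((mem_normalizer_iff.1 (hxW q hqQ) _).1 hx.2) (hUc q hqQ x hx.1))
      refine hcD ⟨hc, fun v hv => ?_⟩
      obtain ⟨x, hx, hw⟩ := hxE.irr Nc (fun x hx => hx.1) hEn hne v hv
      rw [show v = x * (x⁻¹ * v) by group, Modules.commutatorElement_mul_right]
      refine mul_mem hx.2 ((mem_normalizer_iff.1 (E_le_normalizer_Wc hE (Qc_le hx.1)) _).1 ?_)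
      rw [commutatorElement_def]
      exact mul_mem ((mem_normalizer_iff.1 hcN.2 _).1 hw) ((Wc p E).inv_mem hw)
    refine hNcW ⟨(Qc p E).mul_mem hu hcu, ?_⟩
    -- `c` fixes `u * c u c⁻¹` modulo the module
    set a := c * u * c⁻¹ with ha
    have hc2u : (c ^ 2 * u * (c ^ 2)⁻¹) * u⁻¹ ∈ Wc p E := by
      have := hc2.2 u hu
      rwa [commutatorElement_def] at this
    set w := c ^ 2 * u * (c ^ 2)⁻¹ * u⁻¹ with hwdef
    rw [show ⁅c, u * a⁆ = a * (c ^ 2 * u * (c ^ 2)⁻¹ * u⁻¹) * u * a⁻¹ * u⁻¹ by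
      rw [ha, pow_two]; simp only [commutatorElement_def]; group, ← hwdef,
      show a * w * u * a⁻¹ * u⁻¹ = (a * w * a⁻¹) * ⁅a, u⁆ by simp only [commutatorElement_def]; group]
    exact mul_mem ((mem_normalizer_iff.1 (E_le_normalizer_Wc hE (Qc_le hcu)) _).1 hc2u) (hUc a hcu u hu)
  have hCD : ∀ f ∈ F, ∀ e ∈ E, ∀ c ∈ C1, f = e * c → (f ∈ K ↔ c ∈ D1) := by
    rintro f - e he c hc rfl
    refine ⟨fun h => ?_, fun h => mul_mem_sup he h⟩
    have hc' : c ∈ K := by
      have := K.mul_mem (mem_sup_left (E.inv_mem he)) h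
      rwa [inv_mul_cancel_left] at this
    rw [hK, ← SetLike.mem_coe, coe_mul_of_right_le_normalizer_left E D1 hD1E] at hc'
    obtain ⟨e', he', d, hd, rfl⟩ := hc'
    refine D1.mul_mem (hkerE e' he' ?_) hd
    have := C0.mul_mem hc.1 (C0.inv_mem hd.1.1)
    simpa using this
  have hpair : ∀ f ∈ F, ∀ f' ∈ F, f ^ 2 ∈ K → f' ^ 2 ∈ K → f ∉ K → f' ∉ K → f⁻¹ * f' ∈ K := by
    intro f hf f' hf' h2 h2' hfK hfK'
    obtain ⟨e, he, c, hc, rfl⟩ := hdec1 f hf
    obtain ⟨e', he', c', hc', rfl⟩ := hdec1 f' hf'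
    have hsquare : ∀ e ∈ E, ∀ c ∈ C1, (e * c) ^ 2 ∈ K → c ^ 2 ∈ D1 := by
      intro e he c hc h
      rw [show (e * c) ^ 2 = e * (c * e * c⁻¹) * c ^ 2 by rw [pow_two, pow_two]; group] at h
      have hc2 : c ^ 2 ∈ K := by
        have := K.mul_mem (mem_sup_left (E.inv_mem (E.mul_mem he ((mem_normalizer_iff.1 (hC0E hc.1) _).1 he)))) h
        rwa [inv_mul_cancel_left] at this
      rw [hK, ← SetLike.mem_coe, coe_mul_of_right_le_normalizer_left E D1 hD1E] at hc2
      obtain ⟨e1, he1, d, hd, hed⟩ := hc2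
      change e1 * d = c ^ 2 at hed
      rw [← hed]
      refine D1.mul_mem (hkerE e1 he1 ?_) hd
      have := C0.mul_mem (C0.pow_mem hc.1 2) (C0.inv_mem hd.1.1)
      rw [← hed] at this
      simpa using this
    have hcD : c ∉ D1 := fun h => hfK (mul_mem_sup he h)
    have hcD' : c' ∉ D1 := fun h => hfK' (mul_mem_sup he' h)
    have hcc : c⁻¹ * c' ∈ D1 := by
      refine ⟨C1.mul_mem (C1.inv_mem hc) hc', fun u hu => ?_⟩
      have h1 := hsq c hc (hsquare e he c hc h2) hcD
      have h2 := hsq c' hc' (hsquare e' he' c' hc' h2') hcD'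
      have hcN := hNE (hC0E hc.1)
      set a := c' * u * c'⁻¹ with ha
      have ha' : a ∈ Qc p E := (mem_normalizer_iff.1 (hNE (hC0E hc'.1)).1 _).1 hu
      have hv : c⁻¹ * a * c ∈ Qc p E := (mem_normalizer_iff''.1 hcN.1 _).1 ha'
      have h3 := h1 _ hv
      rw [show c * (c⁻¹ * a * c) * c⁻¹ = a by group] at h3
      have h4 := h2 u hu
      rw [show ⁅c⁻¹ * c', u⁆ = ((c⁻¹ * a * c) * a) * (a⁻¹ * u⁻¹) by
        rw [ha]; simp only [commutatorElement_def]; group]
      refine mul_mem h3 ?_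
      rw [← ha] at h4
      rw [← _root_.mul_inv_rev]
      exact inv_mem h4
    rw [show (e * c)⁻¹ * (e' * c') = (c⁻¹ * (e⁻¹ * e') * c) * (c⁻¹ * c') by group]
    exact mul_mem_sup ((mem_normalizer_iff''.1 (hC0E hc.1) _).1 (E.mul_mem (E.inv_mem he) he')) hcc
  -- `F / F ∩ K`
  set B := Cfsg.baumannSubgroupOf p (T : Subgroup G) with hBdef
  set KF := F ⊓ K with hKF
  have hp3 : p = 3 := hxE.three
  have hFKn : F ≤ normalizer (KF : Set G) := fun g hg => LAE62.mem_normalizer_of_conj_mem fun x hx =>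
    ⟨hFF g hg x hx.1, by
      rw [show g * x * g⁻¹ = ⁅g, x⁆ * x by simp only [commutatorElement_def]; group]
      exact K.mul_mem (hderK (commutator_mem_commutator hg hx.1)) hx.2⟩
  have hBF : B ≤ normalizer (F : Set G) := B_le_normalizer hF
  have hBC1 : ∀ b ∈ B, ∀ d ∈ D1, b * d * b⁻¹ ∈ D1 := by
    intro b hb d hd
    have hbE : b ∈ normalizer (E : Set G) := hB T hb
    have hbY := normalizer_le_normalizer_centralizer _ (normalizer_le_normalizer_module p E hbE)
    refine ⟨⟨(mem_normalizer_iff.1 hbY _).1 hd.1.1, fun a ha => ?_⟩, fun u hu => ?_⟩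
    · rw [show ⁅b * d * b⁻¹, a⁆ = b * ⁅d, b⁻¹ * a * b⁆ * b⁻¹ by simp only [commutatorElement_def]; group]
      refine (mem_normalizer_iff.1 (hQEn hbE) _).1 (hd.1.2 _ ?_)
      simpa using (Cores.pCore_normal_inst p G).conj_mem a ha b⁻¹
    · rw [show ⁅b * d * b⁻¹, u⁆ = b * ⁅d, b⁻¹ * u * b⁆ * b⁻¹ by simp only [commutatorElement_def]; group]
      exact (mem_normalizer_iff.1 (hWn hbE) _).1 (hd.2 _ ((mem_normalizer_iff''.1 (hQEn hbE) _).1 hu))
  have hBK : ∀ b ∈ B, ∀ x ∈ K, b * x * b⁻¹ ∈ K := by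
    intro b hb x hx
    rw [hK, ← SetLike.mem_coe, coe_mul_of_right_le_normalizer_left E D1 hD1E] at hx
    obtain ⟨e, he, d, hd, rfl⟩ := hx
    rw [show b * (e * d) * b⁻¹ = (b * e * b⁻¹) * (b * d * b⁻¹) by group]
    exact mul_mem_sup ((mem_normalizer_iff.1 (hB T hb) _).1 he) (hBC1 b hb d hd)
  have hBKF : B ≤ normalizer (KF : Set G) := fun b hb => LAE62.mem_normalizer_of_conj_mem fun x hx =>
    ⟨(mem_normalizer_iff.1 (hBF hb) _).1 hx.1, hBK b hb x hx.2⟩
  have hcommK : ∀ x ∈ F, ∀ y ∈ F, ⁅x, y⁆ ∈ KF := fun x hx y hy =>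
    ⟨by rw [commutatorElement_def]; exact F.mul_mem (hFF x hx y hy) (F.inv_mem hy),
      hderK (commutator_mem_commutator hx hy)⟩
  let K2 : Subgroup G :=
    { carrier := {f | f ∈ F ∧ f ^ 2 ∈ KF}
      one_mem' := ⟨F.one_mem, by rw [one_pow]; exact one_mem _⟩
      mul_mem' := by
        rintro x y ⟨hx, hx'⟩ ⟨hy, hy'⟩
        refine ⟨F.mul_mem hx hy, ?_⟩
        rw [show (x * y) ^ 2 = x ^ 2 * ⁅x⁻¹, y⁆ * y ^ 2 by
          rw [pow_two, pow_two, pow_two]; simp only [commutatorElement_def]; group]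
        exact mul_mem (mul_mem hx' (hcommK _ (F.inv_mem hx) y hy)) hy'
      inv_mem' := by
        rintro x ⟨hx, hx'⟩
        refine ⟨F.inv_mem hx, ?_⟩
        rw [inv_pow]; exact inv_mem hx' }
  have hK2 : ⁅K2, B⁆ ≤ KF := by
    refine commutator_le_of_pairs (fun b hb => LAE62.mem_normalizer_of_conj_mem fun x hx => ?_) hBKF
      fun f hf f' hf' hfn hfn' => ?_
    · refine ⟨(mem_normalizer_iff.1 (hBF hb) _).1 hx.1, ?_⟩
      rw [conj_pow]
      exact (mem_normalizer_iff.1 (hBKF hb) _).1 hx.2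
    · refine ⟨F.mul_mem (F.inv_mem hf.1) hf'.1, hpair f hf.1 f' hf'.1 hf.2.2 hf'.2.2 (fun h => hfn ⟨hf.1, h⟩)
        (fun h => hfn' ⟨hf'.1, h⟩)⟩
  have hiter : ∀ i : ℕ, ∀ f ∈ F, f ^ 2 ^ i ∈ KF → ∀ b ∈ B, ⁅b, f⁆ ∈ KF := by
    intro i
    induction i with
    | zero =>
      intro f _ hfK b hb
      rw [pow_zero, pow_one] at hfK
      rw [commutatorElement_def]
      exact KF.mul_mem ((mem_normalizer_iff.1 (hBKF hb) _).1 hfK) (KF.inv_mem hfK)
    | succ i ih =>
      intro f hf hfK b hb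
      set d := ⁅b, f⁆ with hd
      have hdF : d ∈ F := by
        rw [hd, commutatorElement_def]; exact F.mul_mem ((mem_normalizer_iff.1 (hBF hb) _).1 hf) (F.inv_mem hf)
      have hd2 : d ^ 2 ∈ KF := by
        have h := ih (f ^ 2) (F.pow_mem hf 2) (by rwa [← pow_mul, ← pow_succ']) b hb
        rw [show ⁅b, f ^ 2⁆ = d * (f * d * f⁻¹) by rw [hd, pow_two]; simp only [commutatorElement_def]; group] at h
        rw [show d ^ 2 = d * (f * d * f⁻¹) * ⁅f, d⁻¹⁆ by rw [pow_two]; simp only [commutatorElement_def]; group]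
        exact KF.mul_mem h (hcommK f hf _ (F.inv_mem hdF))
      have hdB : ∀ b' ∈ B, ⁅b', d⁆ ∈ KF := fun b' hb' => by
        rw [← commutatorElement_inv]
        exact inv_mem (hK2 (commutator_mem_commutator ⟨hdF, hd2⟩ hb'))
      have hpow : ∀ n : ℕ, ∃ k ∈ KF, ⁅b ^ n, f⁆ = k * d ^ n := by
        intro n
        induction n with
        | zero => exact ⟨1, one_mem _, by simp⟩
        | succ n ihn =>
          obtain ⟨k, hk, hkn⟩ := ihn
          refine ⟨⁅b ^ n, d⁆ * (d * k * d⁻¹), KF.mul_mem (hdB _ (B.pow_mem hb n))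
            ((mem_normalizer_iff.1 (hFKn hdF) _).1 hk), ?_⟩
          rw [pow_succ b, show ⁅b ^ n * b, f⁆ = ⁅b ^ n, d⁆ * d * ⁅b ^ n, f⁆ by
            rw [hd]; simp only [commutatorElement_def]; group, hkn, pow_succ' d]
          group
      obtain ⟨k, hk⟩ := hB3 b hb
      obtain ⟨k1, hk1, hk2⟩ := hpow (p ^ k)
      rw [hk, commutatorElement_one_left] at hk2
      refine LAE62.mem_of_pow_coprime ?_ hd2 (?_ : d ^ p ^ k ∈ KF)
      · rw [hp3]; exact Nat.Coprime.pow_right _ (by norm_num)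
      · rw [show d ^ p ^ k = k1⁻¹ from eq_inv_of_mul_eq_one_right hk2.symm]
        exact inv_mem hk1
  have hBC : ∀ f ∈ F, ∀ b ∈ B, ⁅b, f⁆ ∈ KF := by
    let X : Subgroup G :=
      { carrier := {f | f ∈ F ∧ ∀ b ∈ B, ⁅b, f⁆ ∈ KF}
        one_mem' := ⟨F.one_mem, fun b _ => by rw [commutatorElement_one_right]; exact one_mem _⟩
        mul_mem' := by
          rintro x y ⟨hx, hx'⟩ ⟨hy, hy'⟩
          refine ⟨F.mul_mem hx hy, fun b hb => ?_⟩
          rw [Modules.commutatorElement_mul_right]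
          exact mul_mem (hx' b hb) ((mem_normalizer_iff.1 (hFKn hx) _).1 (hy' b hb))
        inv_mem' := by
          rintro x ⟨hx, hx'⟩
          refine ⟨F.inv_mem hx, fun b hb => ?_⟩
          rw [show ⁅b, x⁻¹⁆ = x⁻¹ * ⁅b, x⁆⁻¹ * x by simp only [commutatorElement_def]; group]
          exact (mem_normalizer_iff''.1 (hFKn hx) _).1 (inv_mem (hx' b hb)) }
    suffices hX : F ≤ X from fun f hf => (hX hf).2
    conv_lhs => rw [← hF.block.1]
    refine pResidualOf_le fun f hf hcop => ⟨hf, ?_⟩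
    obtain ⟨i, hi⟩ := hsF.rgroup f hf
    rw [hp3, if_neg (by norm_num : ¬(3 : ℕ) = 2)] at hi
    rw [← hp3] at hi
    obtain ⟨j, hj⟩ := Qc_isPGroup (p := p) ⟨_, hi⟩
    have hj' : (f ^ 2 ^ i) ^ p ^ j = 1 := by simpa using congrArg Subtype.val hj
    have h1 : f ^ 2 ^ i = 1 := orderOf_eq_one_iff.1 (Nat.eq_one_of_dvd_coprimes (hcop.pow_right j)
      (orderOf_pow_dvd (x := f) _) (orderOf_dvd_of_pow_eq_one hj'))
    exact hiter i f hf (h1 ▸ one_mem _)
  intro f hf
  have : F ≤ KF := by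
    conv_lhs => rw [← hF.block.2.1]
    refine commutator_le.2 fun f hf b hb => ?_
    rw [← commutatorElement_inv]
    exact inv_mem (hBC f hf b hb)
  exact (this hf).2

end Both

end Cfsg.Agent.LAE79
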